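import Groth.Agent.AbVarTate.Cross
import Groth.Agent.AlgGrp1.Basic

/-!
# Adjoint endomorphisms for the cross term and their doubling
-/

set_option autoImplicit false
set_option linter.unusedSectionVars false
universe u

open CategoryTheory MonoidalCategory CartesianMonoidalCategory MonObj GrpObj AlgebraicGeometry

noncomputable section

namespace Groth.AbVarTate

open Groth.Abvar.PicCalc

variable {k : Type u} [Field k] {A : Over (Spec (CommRingCat.of k))} [GrpObj A] [IsCommMonObj A]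
  [IsProper A.hom] [GeometricallyIntegral A.hom]

/-- `J` is adjoint to `I` for the cross term of `c`. -/
def IsAdj (c : PicLoc.PicSet A.left) (I J : A ⟶ A) : Prop :=
  ∀ (T : Over (Spec (CommRingCat.of k))) (a b : T ⟶ A), cross c (a ≫ I) b = cross c a (b ≫ J)

theorem IsAdj.symm {c : PicLoc.PicSet A.left} {I J : A ⟶ A} (h : IsAdj c I J) : IsAdj c J I :=
  fun T a b => by rw [cross_comm, ← h T b a, cross_comm]

theorem isAdj_zpow (c : PicLoc.PicSet A.left) (a : ℤ) :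
    IsAdj c (𝟙 A ^ a : A ⟶ A) (𝟙 A ^ a : A ⟶ A) := fun T x y => by
  rw [GrpObj.comp_zpow, GrpObj.comp_zpow, Category.comp_id, Category.comp_id, cross_zpow_left,
    cross_zpow_right]

/-- The class on the square. -/
abbrev boxSq (c : PicLoc.PicSet A.left) : PicLoc.PicSet (A ⊗ A).left :=
  opull (fst A A) c * opull (snd A A) c

/-- The endomorphism of the square with matrix `[[P, Q], [Q₀, P₀]]`. -/
abbrev mat2 (P Q Q₀ P₀ : A ⟶ A) : A ⊗ A ⟶ A ⊗ A :=
  lift ((fst A A ≫ P) * (snd A A ≫ Q)) ((fst A A ≫ Q₀) * (snd A A ≫ P₀))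

theorem cross_boxSq (c : PicLoc.PicSet A.left) {T : Over (Spec (CommRingCat.of k))}
    (a b : T ⟶ A ⊗ A) : cross (boxSq c) a b =
      cross c (a ≫ fst A A) (b ≫ fst A A) * cross c (a ≫ snd A A) (b ≫ snd A A) := by
  simp only [cross, boxSq, map_mul, ← opull_comp, MonObj.mul_comp]
  rw [div_mul_div_comm]
  congr 1
  ac_rfl

theorem inv_sq_self (c : PicLoc.PicSet A.left) (hc : opull (𝟙 A)⁻¹ c = c) :
    opull (𝟙 (A ⊗ A))⁻¹ (boxSq c) = boxSq c := by
  have h : ∀ p : A ⊗ A ⟶ A, IsMonHom p → opull ((𝟙 (A ⊗ A))⁻¹) (opull p c) = opull p c :=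
    fun p _ => by
      rw [← opull_comp, GrpObj.inv_comp, Category.id_comp,
        show p⁻¹ = p ≫ (𝟙 A)⁻¹ by rw [GrpObj.comp_inv, Category.comp_id], opull_comp, hc]
  rw [map_mul, h _ inferInstance, h _ inferInstance]

/-- **Doubling of adjoint pairs.** -/
theorem isAdj_double {c : PicLoc.PicSet A.left} {P P' Q Q' : A ⟶ A} (hP : IsAdj c P P')
    (hQ : IsAdj c Q Q') :
    IsAdj (boxSq c) (mat2 P Q (Q'⁻¹) P') (mat2 P' (Q⁻¹) Q' P) := fun T a b => by
  have hQi : ∀ x y : T ⟶ A, cross c (x ≫ Q'⁻¹) y = cross c x (y ≫ Q⁻¹) := fun x y => by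
    rw [GrpObj.comp_inv, GrpObj.comp_inv, ← zpow_neg_one, ← zpow_neg_one, cross_zpow_left,
      cross_zpow_right, hQ.symm T x y]
  have h : ∀ {R R' : A ⟶ A}, (∀ x y : T ⟶ A, cross c (x ≫ R) y = cross c x (y ≫ R')) →
      ∀ (x : T ⟶ A ⊗ A) (p : A ⊗ A ⟶ A) (y : T ⟶ A),
        cross c (x ≫ p ≫ R) y = cross c (x ≫ p) (y ≫ R') :=
    fun hR x p y => by rw [← Category.assoc, hR]
  simp only [cross_boxSq, mat2, Category.assoc, lift_fst, lift_snd, MonObj.comp_mul,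
    cross_mul_left, cross_mul_right, h (hP T), h (hQ T), h (hP.symm T), h hQi]
  ac_rfl

/-- The norm of a doubled pair. -/
theorem double_comp {P P' Q Q' : A ⟶ A} [IsMonHom P] [IsMonHom P'] [IsMonHom Q] [IsMonHom Q']
    (hPQ : Q ≫ P' = P' ≫ Q) (hPQ' : P ≫ Q' = Q' ≫ P) {n₁ n₂ : ℤ}
    (h1 : P ≫ P' = 𝟙 A ^ n₁) (h2 : Q' ≫ Q = 𝟙 A ^ n₂) (h1' : P' ≫ P = 𝟙 A ^ n₁)
    (h2' : Q ≫ Q' = 𝟙 A ^ n₂) :
    mat2 P Q (Q'⁻¹) P' ≫ mat2 P' (Q⁻¹) Q' P = (𝟙 (A ⊗ A) : A ⊗ A ⟶ A ⊗ A) ^ (n₁ + n₂) := by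
  refine CartesianMonoidalCategory.hom_ext _ _ ?_ ?_
  · simp only [mat2, Category.assoc, lift_fst, MonObj.comp_mul, lift_fst_assoc, lift_snd_assoc,
      MonObj.mul_comp, GrpObj.comp_inv, GrpObj.inv_comp, GrpObj.zpow_comp, Category.id_comp,
      h1, h2, hPQ, GrpObj.comp_zpow, Category.comp_id, zpow_add, _root_.mul_inv, _root_.inv_inv]
    rw [_root_.mul_mul_mul_comm, mul_inv_cancel, _root_.mul_one]
  · simp only [mat2, Category.assoc, lift_snd, MonObj.comp_mul, lift_fst_assoc, lift_snd_assoc,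
      MonObj.mul_comp, GrpObj.comp_inv, GrpObj.inv_comp, GrpObj.zpow_comp, Category.id_comp,
      h1', h2', hPQ', GrpObj.comp_zpow, Category.comp_id, zpow_add]
    rw [_root_.mul_mul_mul_comm, mul_inv_cancel, _root_.one_mul, _root_.mul_comm]

end Groth.AbVarTate
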