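import Groth.Agent.AbVarTate.BoundedSpec
import Groth.Agent.AbVarTate.Bounded.Ample
import Groth.Agent.AbVarTate.Bounded.NormGen
import Groth.Agent.AbVarTate.Bounded.Embed
import Groth.Agent.AbvarAmple.ChiClass
import Groth.Agent.Quot.Bounded
import Groth.Agent.Quot.HilbPoly
import Groth.Agent.ModPairs.Descend
import Groth.Agent.Inter.Push
import Groth.Agent.Variety2.Reg.Ample

/-!
# Boundedness of abelian varieties over a finite field
-/

set_option autoImplicit false
universe u

open CategoryTheory Limits MonoidalCategory CartesianMonoidalCategory MonObj GrpObj AlgebraicGeometry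
open scoped Groth.Abvar.PicCalc
open Groth.Abvar Groth.Abvar.PicCalc

namespace Groth.AbVarTate.Bounded

/-- The ideal of a closed immersion is read off the direct image of the structure sheaf. -/
theorem ker_le_of_push_iso {A B P : Scheme.{u}} (a : A ⟶ P) (b : B ⟶ P) [IsClosedImmersion a]
    [IsClosedImmersion b]
    (α : (Scheme.Modules.pushforward a).obj (Coh.structureModule A) ≅
      (Scheme.Modules.pushforward b).obj (Coh.structureModule B)) : a.ker ≤ b.ker := by
  refine fun U x hx => ?_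
  rw [Scheme.Hom.ker_apply, RingHom.mem_ker] at hx ⊢
  have hb : Function.Bijective (α.hom.app U.1) := ConcreteCategory.bijective_of_isIso _
  obtain ⟨z, hz⟩ := hb.2 (show Γ((Scheme.Modules.pushforward b).obj (Coh.structureModule B), U.1) from
    PicAux.oneSec B (b ⁻¹ᵁ U.1))
  have h0 : x • z = 0 := by
    show a.app U.1 x • (show Γ(Coh.structureModule A, a ⁻¹ᵁ U.1) from z) = 0
    rw [show a.app U.1 x = 0 from hx]
    exact zero_smul _ _
  have h1 := congrArg (α.hom.app U.1) h0
  rw [Scheme.Modules.Hom.app_smul, hz, map_zero] at h1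
  have h2 : b.app U.1 x * (1 : Γ(B, b ⁻¹ᵁ U.1)) = 0 := h1
  rwa [_root_.mul_one] at h2

variable {k : Type u} [Field k]

/-- The admissible direct images. -/
def IsImage (g r : ℕ) (Cs : ℕ → ℕ) (F : (CohB1.ProjSpace r k).Modules) : Prop :=
  Coh.IsCoh F ∧ Curv2.IsMRegular k r F (g + 1) ∧
    ∃ P : Polynomial ℚ, P.natDegree ≤ g ∧ (∀ t : ℤ, (Quot.chiT F t : ℚ) = P.eval (t : ℚ)) ∧
      ∀ t : ℕ, 1 ≤ t → 0 ≤ Quot.chiT F t ∧ Quot.chiT F t ≤ Cs t

/-- Finitely many admissible direct images over a finite field. -/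
theorem exists_finite_cover [Finite k] (g r : ℕ) (Cs : ℕ → ℕ) :
    ∃ (J : Type u) (_ : Finite J) (F₀ : J → (CohB1.ProjSpace r k).Modules),
      ∀ F, IsImage g r Cs F → ∃ c, Nonempty (F ≅ F₀ c) := by
  let Φ : Set (ℤ → ℤ) := {f | (∃ P : Polynomial ℚ, P.natDegree ≤ g ∧ ∀ t : ℤ, (f t : ℚ) = P.eval (t : ℚ)) ∧
    ∀ t : ℕ, 1 ≤ t → 0 ≤ f t ∧ f t ≤ Cs t}
  have hΦ : Φ.Finite := by
    refine Set.Finite.of_finite_image (f := fun f (i : Fin (g + 1)) => f ((i : ℕ) + 1 : ℕ)) ?_ ?_
    · refine Set.Finite.subset (Set.Finite.pi' fun i : Fin (g + 1) => Set.finite_Icc (0 : ℤ) (Cs ((i : ℕ) + 1))) ?_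
      rintro _ ⟨f, hf, rfl⟩ i
      exact ⟨(hf.2 _ (Nat.succ_pos _)).1, (hf.2 _ (Nat.succ_pos _)).2⟩
    · rintro f ⟨⟨P, hP, hPf⟩, -⟩ f' ⟨⟨P', hP', hPf'⟩, -⟩ h
      have hPP : P = P' := by
        refine Polynomial.eq_of_natDegree_lt_card_of_eval_eq' P P'
          ((Finset.univ : Finset (Fin (g + 1))).image fun i : Fin (g + 1) => ((((i : ℕ) + 1 : ℕ) : ℤ) : ℚ)) ?_ ?_
        · intro x hx
          obtain ⟨i, -, rfl⟩ := Finset.mem_image.1 hx
          rw [← hPf, ← hPf']
          exact congrArg _ (congrFun h i)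
        · rw [Finset.card_image_of_injective _ fun i j hij => ?_, Finset.card_fin]
          · omega
          · ext; simpa using hij
      funext t
      have := (hPf t).trans (hPP ▸ (hPf' t).symm)
      exact_mod_cast this
  obtain ⟨N, N', m', h⟩ := Quot.exists_presentation (n := r) (k := k) ((g : ℤ) + 1) Φ hΦ
  have hB : Coh.IsCoh (∐ fun _ : Fin N => Twist.twistProjSpace r k (-((g : ℤ) + 1))) :=
    PnCoh.isCoh_sigma _ fun _ => PnCoh.isCoh_twist r k _
  obtain ⟨s, ψ, hψ⟩ := Quot.exists_homs_span hB m' N'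
  refine ⟨Fin s → k, inferInstance,
    fun c => cokernel (∑ l, ThetaAlg.smulEnd _ (Quot.constFun k (CohB1.ProjSpace r k) (c l)) ≫ ψ l), ?_⟩
  rintro F ⟨hF, hreg, P, hP, hPF, hb⟩
  obtain ⟨φ, ⟨e⟩⟩ := h F hF hreg ⟨⟨P, hP, hPF⟩, hb⟩
  obtain ⟨c, rfl⟩ := hψ φ
  exact ⟨c, ⟨e⟩⟩

variable {Y : Over (Spec (CommRingCat.of k))} [GrpObj Y] [IsProper Y.hom] [GeometricallyIntegral Y.hom]

set_option maxHeartbeats 1000000 in
/-- An abelian variety with bounded Euler characteristics embeds with admissible image. -/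
theorem exists_embedding {g : ℕ} (hg : topologicalKrullDim ↥Y.left = g) {M : Y.left.Modules}
    (hM : CohB1.IsAmple M) (C : ℕ → ℕ)
    (hC : ∀ s : ℕ, 1 ≤ s → @Curv2.euler k _ Y.left ⟨Y.hom⟩ (CohB1.tensorPow M s) ≤ C s) :
    ∃ i : Y.left ⟶ CohB1.ProjSpace (C (2 * (g + 1))) k, IsClosedImmersion i ∧
      i ≫ CohB1.ProjSpace.toSpec (C (2 * (g + 1))) k = Y.hom ∧
      IsImage g (C (2 * (g + 1))) (fun t => C (2 * (g + 1) * t))
        ((Scheme.Modules.pushforward i).obj (Coh.structureModule Y.left)) := by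
  classical
  letI : Y.left.Over (Spec (CommRingCat.of k)) := ⟨Y.hom⟩
  haveI : IsProper (Y.left ↘ Spec (CommRingCat.of k)) := ‹IsProper Y.hom›
  haveI : CompactSpace Y.left := hM.2.1
  set r := C (2 * (g + 1))
  -- the modules
  have hM2 := isInvertible_tensorMod hM.1 hM.1
  let L := CohB1.tensorMod M M
  let L' := CohB1.tensorPow L (g + 1)
  have hL' : PicF.IsInvertible L' := isInvertible_tensorPow hM2 _
  have cL : cls hM2 = cls hM.1 ^ 2 := by rw [cls_tensorMod hM.1 hM.1, pow_two]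
  have cL' : cls hL' = cls hM.1 ^ (2 * (g + 1)) := by rw [cls_tensorPow hM2, cL, ← pow_mul]
  have hamp : ∀ {Q : Y.left.Modules} (hQ : PicF.IsInvertible Q) {e : ℕ}, 1 ≤ e → cls hQ = cls hM.1 ^ e →
      CohB1.IsAmple Q := fun {Q} hQ {e} he hc => by
    obtain ⟨i⟩ := (nonempty_iso_iff (isInvertible_tensorPow hM.1 e) hQ).2 (by rw [cls_tensorPow hM.1, hc])
    exact Groth.Chow.isAmple_of_iso i ((Groth.Ega2Proj.isAmple_tensorPow_iff hM.1 e he).1 hM)
  have hL'a : CohB1.IsAmple L' := hamp hL' (by omega) cL'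
  have hpow : ∀ t : ℕ, cls (isInvertible_tensorPow hL' t) = cls hM.1 ^ (2 * (g + 1) * t) := fun t => by
    rw [cls_tensorPow hL', cL', ← pow_mul]
  have hle : ∀ t : ℕ, 1 ≤ t → Curv2.euler k Y.left (CohB1.tensorPow L' t) ≤ C (2 * (g + 1) * t) := fun t ht => by
    have h1 : 1 ≤ 2 * (g + 1) * t := Nat.mul_pos (by omega) ht
    rw [← AbvarAmple.chi_cls (isInvertible_tensorPow hL' t), hpow, ← cls_tensorPow hM.1,
      AbvarAmple.chi_cls]
    exact hC _ h1
  -- normal generation
  obtain ⟨N, hN, hNc⟩ := PicGrp.exists_eq_cls (cls hM2)⁻¹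
  obtain ⟨e⟩ : Nonempty (CohB1.tensorMod N L ≅ Coh.structureModule Y.left) :=
    (nonempty_iso_structure_iff (isInvertible_tensorMod hN hM2)).2 (by
      rw [cls_tensorMod hN hM2, show cls hN = _ from hNc.symm, inv_mul_cancel])
  obtain ⟨a, σ, hσ⟩ := exists_cover_square hM
  have hng : Groth.FibreVA.NormalGen.IsNormGen L' := isNormGen_pow e hM2 hN k a σ hσ g
    fun n j b hj h => by
      rcases h with h | h
      · have hA := isInvertible_tensorPow hL' n
        have key : ∀ (Z : Y.left.Modules) (hZ : PicF.IsInvertible Z), cls hZ = cls hM2 ^ b →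
            Subsingleton (Coh.HH Y.left (CohB1.tensorMod (CohB1.tensorPow L' n) Z) j) := fun Z hZ hc => by
          obtain ⟨w, hw⟩ := Int.eq_ofNat_of_zero_le (show (0 : ℤ) ≤ ((g + 1 : ℕ) : ℤ) * n + b by omega)
          refine subsingleton_HH_ample (hamp (isInvertible_tensorMod hA hZ) (e := 2 * w)
            (by omega) ?_) (by omega)
          rw [cls_tensorMod hA hZ, hc, cL, hpow, ← zpow_natCast (cls hM.1) (2 * (g + 1) * n),
            ← zpow_natCast (cls hM.1) 2, ← zpow_mul, ← zpow_add, ← zpow_natCast (cls hM.1) (2 * w)]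
          congr 1
          push_cast at hw ⊢
          linarith
        match b with
        | Int.ofNat q =>
          exact key _ (isInvertible_tensorPow hM2 q) ((cls_tensorPow hM2 q).trans (zpow_natCast _ q).symm)
        | Int.negSucc q =>
          exact key _ (isInvertible_tensorPow hN (q + 1)) ((cls_tensorPow hN (q + 1)).trans (by
            rw [show cls hN = _ from hNc.symm, inv_pow, zpow_negSucc]))
      · exact subsingleton_HH_gt hg _ h
  -- sections
  let fY := Y.hom
  have hLc := Groth.VarietyBC.CurveGG.isCoh_of_isInvertible hL'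
  have : Module.Finite k (CohFin.HA fY L' 0) := CohFin.hFin_of_proper CohFin.projFinite 0 Y.left fY L' hLc
  have hr : Module.finrank k (CohFin.HA fY L' 0) ≤ r := by
    have h1 := euler_ample hL'a
    have h2 : Curv2.euler k Y.left L' ≤ C (2 * (g + 1)) := by
      rw [← AbvarAmple.chi_cls hL', cL', ← cls_tensorPow hM.1, AbvarAmple.chi_cls]
      exact hC _ (by omega)
    have h3 : (Module.finrank k (CohFin.HA fY L' 0) : ℤ) ≤ (r : ℤ) := h1 ▸ h2
    exact_mod_cast h3
  let bas := Module.finBasis k (CohFin.HA fY L' 0)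
  let s : Fin r → Γ(L', ⊤) := fun l =>
    if hl : (l : ℕ) < Module.finrank k (CohFin.HA fY L' 0)
    then CohFin.equivSections fY L' (bas ⟨l, hl⟩) else 0
  have hs : ∀ v : Γ(L', ⊤), ∃ c : Fin r → k, v = ∑ l, Groth.FibreVA.NormalGen.bfun fY (c l) • s l := by
    intro v
    obtain ⟨x, rfl⟩ := (CohFin.equivSections fY L').surjective v
    refine ⟨fun l => if hl : (l : ℕ) < Module.finrank k (CohFin.HA fY L' 0) then bas.repr x ⟨l, hl⟩ else 0, ?_⟩
    conv_lhs => rw [← bas.sum_repr x, map_sum]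
    refine Finset.sum_bij_ne_zero (fun l _ _ => Fin.castLE hr l) (fun _ _ _ => Finset.mem_univ _)
      (fun _ _ _ _ _ _ hh => Fin.castLE_injective hr hh) (fun l _ hl => ?_) (fun l _ _ => ?_)
    · by_cases h : (l : ℕ) < Module.finrank k (CohFin.HA fY L' 0)
      · refine ⟨⟨l, h⟩, Finset.mem_univ _, ?_, rfl⟩
        simp only [s, dif_pos h] at hl
        rwa [CohFin.equivSections_smul, show Coh.toGlobal fY (bas.repr x ⟨l, h⟩) =
          Groth.FibreVA.NormalGen.bfun fY (bas.repr x ⟨l, h⟩) from (PicAux.resX_self _ _).symm]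
      · simp [s, dif_neg h] at hl
    · have hlt : ((Fin.castLE hr l : Fin r) : ℕ) < Module.finrank k (CohFin.HA fY L' 0) := l.2
      simp only [s, dif_pos hlt, Fin.val_castLE, Fin.eta, dif_pos l.2]
      rw [CohFin.equivSections_smul]
      exact congrArg (· • _) (PicAux.resX_self _ _).symm
  obtain ⟨i₀, hi₀, hi₀q, ⟨τ⟩⟩ := exists_immersion_of_data (Fin.cons 0 s)
    (exists_data_of_span fY hL'a hng s hs)
  let i := i₀ ≫ (PnCoh.overIso r k).inv
  have hiq : i ≫ CohB1.ProjSpace.toSpec r k = Y.hom := by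
    rw [← PnCoh.overIso_hom_toBase r k]
    simp only [i, Category.assoc, Iso.inv_hom_id_assoc]
    exact hi₀q
  have : IsProper (i ≫ CohB1.ProjSpace.toSpec r k) := hiq ▸ inferInstanceAs (IsProper Y.hom)
  have hici : IsClosedImmersion i := CohFin.isClosedImmersion_of_proper i (CohB1.ProjSpace.toSpec r k)
  obtain ⟨eO⟩ : Nonempty ((Scheme.Modules.pullback i).obj (Twist.twistProjSpace r k 1) ≅ L') := by
    obtain ⟨e'⟩ := PnCoh.nonempty_pullback_overIso_twist r k 1
    have hji : i₀ = i ≫ (PnCoh.overIso r k).hom := by simp [i]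
    exact ⟨(τ ≪≫ (Scheme.Modules.pullbackCongr hji).app _ ≪≫
      ((Scheme.Modules.pullbackComp i (PnCoh.overIso r k).hom).app _).symm ≪≫
      (Scheme.Modules.pullback i).mapIso e').symm⟩
  let O := Coh.structureModule Y.left
  let F := (Scheme.Modules.pushforward i).obj O
  have hO := PicLoc.isInvertible_structureModule Y.left
  -- twists of the direct image
  have htw : ∀ t : ℕ, Nonempty (Variety2.Reg.fT F (t : ℤ) ≅
      (Scheme.Modules.pushforward i).obj (CohB1.tensorPow L' t)) := fun t => by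
    obtain ⟨a⟩ := Variety2.Reg.nonempty_twist_pow F t
    have hT := isInvertible_tensorPow (Variety2.Reg.isInvertible_tw (n := r) (k := k) 1) t
    obtain ⟨b, -⟩ := PnCoh.exists_projectionFormula i O hT
    obtain ⟨c⟩ := PicAux.pullback_tensorPow i (Twist.twistProjSpace r k 1) t
    obtain ⟨d⟩ : Nonempty (CohB1.tensorMod O ((Scheme.Modules.pullback i).obj
        (CohB1.tensorPow (Twist.twistProjSpace r k 1) t)) ≅ CohB1.tensorPow L' t) := by
      rw [nonempty_iso_iff (isInvertible_tensorMod hO (PicLoc.isInvertible_pullback _ hT))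
        (isInvertible_tensorPow hL' t), cls_tensorMod hO (PicLoc.isInvertible_pullback _ hT),
        show cls hO = 1 from PicGrp.cls_structureModule_eq_one, _root_.one_mul,
        (nonempty_iso_iff (PicLoc.isInvertible_pullback _ hT) (isInvertible_tensorPow
          (PicLoc.isInvertible_pullback i (Variety2.Reg.isInvertible_tw 1)) t)).1 ⟨c⟩,
        cls_tensorPow (PicLoc.isInvertible_pullback i (Variety2.Reg.isInvertible_tw 1)), cls_tensorPow hL', (nonempty_iso_iff _ hL').1 ⟨eO⟩]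
    exact ⟨a.symm ≪≫ b ≪≫ (Scheme.Modules.pushforward i).mapIso d⟩
  have hF : Coh.IsCoh F := CohTwo.isCoh_push i (Groth.VarietyBC.CurveGG.isCoh_of_isInvertible hO)
  have hOver : i ≫ (CohB1.ProjSpace r k ↘ Spec (CommRingCat.of k)) = Y.left ↘ Spec (CommRingCat.of k) := hiq
  have hchi : ∀ t : ℕ, Quot.chiT F (t : ℤ) = Curv2.euler k Y.left (CohB1.tensorPow L' t) := fun t =>
    (EulerDeg.euler_congr k (htw t).some).trans (Inter.euler_push k i hOver _)
  refine ⟨i, hici, hiq, hF, fun q hq hqr => ?_, ?_⟩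
  · have : ∀ (M' : Y.left.Modules), Subsingleton (Coh.HH Y.left M' q) →
        Subsingleton (Coh.HH (CohB1.ProjSpace r k) ((Scheme.Modules.pushforward i).obj M') q) := by
      intro M' h
      obtain ⟨l⟩ := CohC3.nonempty_linearEquiv_push_closed i (CohB1.ProjSpace r k ↘ Spec (CommRingCat.of k)) q M'
      exact @Equiv.subsingleton _ _ l.toEquiv h
    rcases le_or_gt q g with hqg | hqg
    · obtain ⟨w, hw⟩ := Int.eq_ofNat_of_zero_le (show (0 : ℤ) ≤ ((g : ℤ) + 1) - q by omega)
      rw [hw]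
      refine PnCoh.subsingleton_HH_of_iso (CohB1.ProjSpace r k ↘ Spec (CommRingCat.of k)) (htw w).some.symm ?_
      refine this _ (subsingleton_HH_ample ?_ (by omega))
      exact (Groth.Ega2Proj.isAmple_tensorPow_iff hL' w (by omega)).1 hL'a
    · have hqc := Variety2.Reg.isInvertible_tw (n := r) (k := k) ((g : ℤ) + 1 - q)
      obtain ⟨b, -⟩ := PnCoh.exists_projectionFormula i O hqc
      exact PnCoh.subsingleton_HH_of_iso (CohB1.ProjSpace r k ↘ Spec (CommRingCat.of k)) b.symm
        (this _ (subsingleton_HH_gt hg _ hqg))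
  · obtain ⟨P, hP⟩ := Quot.exists_chiT_poly hF
    obtain ⟨p, hp, hpe⟩ := AbvarAmple.exists_poly_chi hg (1 : PicLoc.PicSet Y.left) (cls hL')
    have hPp : P = p := by
      refine Polynomial.eq_of_infinite_eval_eq P p (Set.Infinite.mono ?_
        (Set.infinite_range_of_injective (f := fun n : ℕ => ((n + 1 : ℕ) : ℚ)) fun x y hxy => by simpa using hxy))
      rintro _ ⟨n, rfl⟩
      have h := hP ((n + 1 : ℕ) : ℤ)
      rw [hchi, Int.cast_natCast] at h
      refine h.symm.trans (Eq.trans ?_ (hpe (n + 1)).symm)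
      rw [_root_.one_mul, ← cls_tensorPow hL', AbvarAmple.chi_cls]
    refine ⟨p, hp, fun t => by rw [← hPp]; exact hP t, fun t ht => ?_⟩
    rw [hchi t]
    refine ⟨?_, hle t ht⟩
    rw [euler_ample ((Groth.Ega2Proj.isAmple_tensorPow_iff hL' t ht).1 hL'a)]
    exact Int.natCast_nonneg _

end Groth.AbVarTate.Bounded

namespace Groth.AbVarTate

open Bounded in
/-- Abelian varieties over a finite field with an ample module of bounded Euler characteristics form
finitely many isomorphism classes. -/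
theorem boundedFinite (k : Type u) [Field k] [Finite k] : BoundedFinite k := by
  classical
  intro g C
  obtain ⟨J, _, F₀, hF₀⟩ := exists_finite_cover (k := k) g (C (2 * (g + 1))) (fun t => C (2 * (g + 1) * t))
  let Good : J → Over (Spec (CommRingCat.of k)) → Prop := fun c Y' =>
    ∃ i : Y'.left ⟶ CohB1.ProjSpace (C (2 * (g + 1))) k, IsClosedImmersion i ∧
      i ≫ CohB1.ProjSpace.toSpec (C (2 * (g + 1))) k = Y'.hom ∧
      Nonempty ((Scheme.Modules.pushforward i).obj (Coh.structureModule Y'.left) ≅ F₀ c)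
  let Ys : J → Over (Spec (CommRingCat.of k)) := fun c =>
    if h : ∃ Y', Good c Y' then h.choose else Over.mk (𝟙 _)
  obtain ⟨n, ⟨en⟩⟩ := Finite.exists_equiv_fin J
  refine ⟨n, fun l => Ys (en.symm l), fun Y _ _ _ hg M hM hC => ?_⟩
  obtain ⟨i, hi, hiq, hF⟩ := exists_embedding hg hM C hC
  obtain ⟨c, ⟨α⟩⟩ := hF₀ _ hF
  have hex : ∃ Y', Good c Y' := ⟨Y, i, hi, hiq, ⟨α⟩⟩
  refine ⟨en c, ?_⟩
  dsimp only
  rw [Equiv.symm_apply_apply]
  obtain ⟨j, hj, hjq, ⟨β⟩⟩ := hex.choose_spec
  have hker : i.ker = j.ker :=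
    le_antisymm (ker_le_of_push_iso i j (α ≪≫ β.symm)) (ker_le_of_push_iso j i (β ≪≫ α.symm))
  obtain ⟨e, he⟩ := Groth.ModPairs.exists_iso_of_ker_eq i j hker
  rw [show Ys c = hex.choose from dif_pos hex]
  exact ⟨Over.isoMk e (by rw [← hjq, ← hiq, ← he, Category.assoc])⟩

end Groth.AbVarTate
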