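import Groth.Agent.AbVarMul.TateCommutant
import Groth.Agent.AbvarAmple.AmpleVanish
import Groth.Prelude.Def_Curv2

/-!
# Statement shapes for the finiteness argument
-/

set_option autoImplicit false
universe u
open CategoryTheory Limits MonoidalCategory CartesianMonoidalCategory MonObj GrpObj AlgebraicGeometry
open scoped Groth.Abvar.PicCalc

namespace Groth.AbVarTate

/-- Boundedness of abelian varieties with an ample module of bounded Euler characteristics. -/
def BoundedFinite (k : Type u) [Field k] : Prop :=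
  ∀ (g : ℕ) (C : ℕ → ℕ), ∃ (n : ℕ) (Ys : Fin n → Over (Spec (CommRingCat.of k))),
    ∀ (Y : Over (Spec (CommRingCat.of k))) [GrpObj Y] [IsProper Y.hom] [GeometricallyIntegral Y.hom],
      topologicalKrullDim ↥Y.left = g → ∀ M : Y.left.Modules, CohB1.IsAmple M →
      (∀ s : ℕ, 1 ≤ s → @Curv2.euler k _ Y.left ⟨Y.hom⟩ (CohB1.tensorPow M s) ≤ C s) →
      ∃ i, Nonempty (Y ≅ Ys i)

/-- Few torsion classes die in a finite étale cover. -/
def KernelBound : Prop :=
  ∀ (K : Type u) [Field K] [IsAlgClosed K] (P P' : Over (Spec (CommRingCat.of K))) [IsProper P.hom]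
    [IsProper P'.hom] [IsIntegral P.left] [IsIntegral P'.left] (q : P ⟶ P') [IsFinite q.left]
    [Etale q.left] [Surjective q.left] (d : ℕ), (∀ y : ↥P'.left, Scheme.Hom.finrank q.left y = d) →
    ∀ N : ℕ, (N : K) ≠ 0 →
      {c : PicLoc.PicSet P'.left | Groth.Abvar.PicCalc.opull q c = 1 ∧ c ^ N = 1}.Finite ∧
      {c : PicLoc.PicSet P'.left | Groth.Abvar.PicCalc.opull q c = 1 ∧ c ^ N = 1}.ncard ≤ d

end Groth.AbVarTate
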