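import Groth.Agent.AbVarTate.HomRank
import Groth.Agent.AbVarMul.SemisimpleEnd
import Groth.Agent.AbVarMul.SimpleSubalg
import Mathlib.RingTheory.Adjoin.PowerBasis
import Mathlib.RingTheory.Artinian.Module

/-!
# The centre of `End⁰` over a finite field is generated by Frobenius
-/

set_option autoImplicit false
set_option linter.unusedSectionVars false
universe u

open CategoryTheory MonoidalCategory CartesianMonoidalCategory MonObj GrpObj AlgebraicGeometry
open AbDual Polynomial
open scoped TensorProduct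

noncomputable section

set_option synthInstance.maxHeartbeats 200000

namespace Groth.AbVarTate

open Groth.AbVarMul

section Generic

variable {F V : Type*} [Field F] [AddCommGroup V] [Module F V] [FiniteDimensional F V]

/-- The algebra generated by a semisimple endomorphism is semisimple. -/
theorem isSemisimpleRing_adjoin [PerfectField F] {f : Module.End F V} (hf : f.IsSemisimple) :
    IsSemisimpleRing (Algebra.adjoin F ({f} : Set (Module.End F V))) := by
  let R := Algebra.adjoin F ({f} : Set (Module.End F V))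
  let _ : CommRing R := { (inferInstance : Ring R) with
    mul_comm := fun a b => (Algebra.adjoinCommRingOfComm F (s := ({f} : Set (Module.End F V)))
      (fun a ha b hb => by rw [Set.mem_singleton_iff.1 ha, Set.mem_singleton_iff.1 hb])).mul_comm a b }
  have : Module.Finite F R := inferInstance
  have : IsArtinianRing R := IsArtinianRing.of_finite F R
  have : IsReduced R := ⟨fun x hx => Subtype.ext
    (Module.End.eq_zero_of_isNilpotent_isSemisimple (hx.map R.val) (hf.of_mem_adjoin_singleton x.2))⟩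
  exact IsArtinianRing.isSemisimpleRing_of_isReduced R

/-- The dimension of the algebra generated by an element killed by a polynomial. -/
theorem finrank_adjoin_le {f : Module.End F V} {p : F[X]} (hp : p ≠ 0) (hpf : aeval f p = 0) :
    Module.finrank F (Algebra.adjoin F ({f} : Set (Module.End F V))) ≤ p.natDegree := by
  classical
  let W := Submodule.span F (Set.range fun i : Fin p.natDegree => f ^ (i : ℕ))
  have hle : Subalgebra.toSubmodule (Algebra.adjoin F ({f} : Set (Module.End F V))) ≤ W := by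
    intro x hx
    rw [Subalgebra.mem_toSubmodule, Algebra.adjoin_singleton_eq_range_aeval] at hx
    obtain ⟨q, hq⟩ := hx
    let m := q %ₘ (p * C p.leadingCoeff⁻¹)
    have hm : (p * C p.leadingCoeff⁻¹).Monic := monic_mul_leadingCoeff_inv hp
    have hx' : x = aeval f m := by
      have h0 : aeval f (p * C p.leadingCoeff⁻¹) = 0 := by rw [map_mul, hpf, zero_mul]
      rw [← hq]
      show aeval f q = aeval f m
      conv_lhs => rw [← modByMonic_add_div q (p * C p.leadingCoeff⁻¹)]
      rw [map_add, map_mul, h0, zero_mul, add_zero]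
    rcases eq_or_ne m 0 with h0 | h0
    · rw [hx', h0, map_zero]; exact zero_mem _
    rw [hx', aeval_eq_sum_range]
    refine Submodule.sum_mem _ fun i hi => Submodule.smul_mem _ _ (Submodule.subset_span ⟨⟨i, ?_⟩, rfl⟩)
    have h1 := natDegree_lt_natDegree h0 (degree_modByMonic_lt q hm)
    rw [natDegree_mul_C (inv_ne_zero (leadingCoeff_ne_zero.2 hp))] at h1
    have := Finset.mem_range.1 hi
    omega
  refine (Submodule.finrank_mono hle).trans ((finrank_range_le_card _).trans ?_)
  rw [Fintype.card_fin]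

/-- The powers below the degree of the minimal polynomial are independent in the algebra. -/
theorem natDegree_minpoly_le_finrank_adjoin {E : Type*} [Ring E] [Algebra F E] [Module.Finite F E]
    (x : E) : (minpoly F x).natDegree ≤ Module.finrank F (Algebra.adjoin F ({x} : Set E)) := by
  have h := linearIndependent_pow (K := F) x
  have h' : LinearIndependent F (fun i : Fin (minpoly F x).natDegree =>
      (⟨x ^ (i : ℕ), pow_mem (Algebra.self_mem_adjoin_singleton F x) _⟩ : Algebra.adjoin F ({x} : Set E))) :=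
    LinearIndependent.of_comp (Algebra.adjoin F ({x} : Set E)).val.toLinearMap h
  simpa using h'.fintype_card_le_finrank

/-- A subspace whose independent families map to independent families has smaller dimension. -/
theorem finrank_le_of_indep {Q E M : Type*} [Field Q] [AddCommGroup E] [Module Q E]
    [Module.Finite Q E] [AddCommGroup M] [Module Q M] [Module F M] [Module.Finite F M]
    (L : E →ₗ[Q] M) (Z : Submodule Q E) (R : Submodule F M) (hmem : ∀ z ∈ Z, L z ∈ R)
    (hind : ∀ (m : ℕ) (v : Fin m → E), LinearIndependent Q v →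
      LinearIndependent F (fun i => L (v i))) :
    Module.finrank Q Z ≤ Module.finrank F R := by
  have h := hind _ (fun i => (Module.finBasis Q Z i : E))
    ((Module.finBasis Q Z).linearIndependent.map' Z.subtype Z.ker_subtype)
  have h' : LinearIndependent F (fun i => (⟨L (Module.finBasis Q Z i : E),
      hmem _ (Module.finBasis Q Z i).2⟩ : R)) := LinearIndependent.of_comp R.subtype h
  simpa using h'.fintype_card_le_finrank

end Generic

variable {k : Type u} [Field k] {Ω : Type u} [Field Ω] [Algebra k Ω] [IsAlgClosure k Ω]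
  {l : ℕ} [Fact l.Prime]
  {A : Over (Spec (CommRingCat.of k))}
  [GrpObj A] [IsCommMonObj A] [IsProper A.hom] [GeometricallyIntegral A.hom]

local notation "Ω₀" => (SGA7.pt (K := k) Ω)

instance : IsScalarTower ℚ ℚ_[l] (Module.End ℚ_[l] (ℚ_[l] ⊗[ℤ_[l]] TateMod A l (SGA7.pt (K := k) Ω))) :=
  ⟨fun a b f => LinearMap.ext fun v => smul_assoc a b (f v)⟩

variable (A l Ω) in
/-- The rational representation of `End⁰`. -/
theorem exists_vRep (hl : (l : k) ≠ 0) :
    ∃ Λ : EndAV.End0 A →ₐ[ℚ] Module.End ℚ_[l] (ℚ_[l] ⊗[ℤ_[l]] TateMod A l (SGA7.pt (K := k) Ω)),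
      (∀ a, Λ (EndAV.toEnd0 a) = vMap l Ω a) ∧
      ∀ (m : ℕ) (v : Fin m → EndAV.End0 A), LinearIndependent ℚ v →
        LinearIndependent ℚ_[l] (fun i => Λ (v i)) := by
  classical
  have : IsAlgClosed Ω := IsAlgClosure.isAlgClosed k
  have := (free_finite_tateMod Ω A hl).1
  obtain ⟨g, hg⟩ := Groth.FibreDim.exists_dim_eq_nat A
  obtain ⟨hfree, hfin, -⟩ := free_finite_hom (A := A) (B := A) hg hg
  have : Module.Free ℤ (EndAV.End A) := hfree
  have : Module.Finite ℤ (EndAV.End A) := hfin
  obtain ⟨Λ, hΛ⟩ := exists_ratLift (M := Module.End ℚ_[l] (ℚ_[l] ⊗[ℤ_[l]] TateMod A l (SGA7.pt (K := k) Ω)))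
    ((Module.End.baseChangeHom ℤ_[l] ℚ_[l] (TateMod A l Ω₀)).toRingHom.comp
      (EndAV.End.tateRep (A := A) l Ω₀))
  refine ⟨Λ, hΛ, fun m v hv => ?_⟩
  let bs := Module.Free.chooseBasis ℤ (EndAV.End A)
  let b0 : Module.Basis _ ℚ (EndAV.End0 A) := Algebra.TensorProduct.basis ℚ bs
  have hb : LinearIndependent ℚ_[l] (fun i => Λ (b0 i)) := by
    have h1 := linearIndependent_baseChange (F := ℚ_[l])
      (linearIndependent_tateMap_bc (A := A) (B := A) Ω hl _ bs.linearIndependent)
    refine Eq.subst (motive := fun f => LinearIndependent ℚ_[l] f) (funext fun i => ?_) h1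
    show _ = Λ (Algebra.TensorProduct.basis ℚ bs i)
    rw [Algebra.TensorProduct.basis_apply, ← EndAV.toEnd0_apply, hΛ]
    rfl
  have : Module.Finite ℚ (EndAV.End0 A) := Module.Finite.of_basis b0
  -- extend to a basis
  have hv' := hv.linearIndepOn_id
  let E := Module.Basis.extend hv'
  let T := hv'.extend (Set.subset_univ (Set.range v))
  have : Fintype T := FiniteDimensional.fintypeBasisIndex E
  have hE : LinearIndependent ℚ_[l] (fun t : T => Λ (t : EndAV.End0 A)) := by
    rw [linearIndependent_iff_card_le_finrank_span]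
    have hsp : Submodule.span ℚ_[l] (Set.range fun i => Λ (b0 i)) ≤
        Submodule.span ℚ_[l] (Set.range fun t : T => Λ (t : EndAV.End0 A)) := by
      refine Submodule.span_le.2 ?_
      rintro _ ⟨i, rfl⟩
      show Λ (b0 i) ∈ _
      rw [← E.sum_repr (b0 i), map_sum]
      refine Submodule.sum_mem _ fun t _ => ?_
      rw [map_smul, ← algebraMap_smul ℚ_[l] (E.repr (b0 i) t)]
      refine Submodule.smul_mem _ _ (Submodule.subset_span ⟨t, ?_⟩)
      rw [Module.Basis.extend_apply_self]
    have := FiniteDimensional.span_of_finite ℚ_[l] (Set.finite_range fun t : T => Λ (t : EndAV.End0 A))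
    refine le_trans (le_of_eq ?_) (Submodule.finrank_mono hsp)
    rw [finrank_span_eq_card hb, ← Module.finrank_eq_card_basis b0, Module.finrank_eq_card_basis E]
  exact hE.comp (fun i => ⟨v i, hv'.subset_extend _ ⟨i, rfl⟩⟩) fun i j h =>
    hv.injective (congrArg Subtype.val h)

variable [Finite k] (πA : A ⟶ A) [IsMonHom πA] (hπAb : πA.left.base = 𝟙 _)
  (hπAle : ∀ U : A.left.Opens, U ≤ πA.left ⁻¹ᵁ U)
  (hπAapp : ∀ (U : A.left.Opens) (s : Γ(A.left, U)), (πA.left.appLE U U (hπAle U)).hom s = s ^ Nat.card k)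
  (hKB : KernelBound.{u}) (hBF : BoundedFinite k)

include hπAb hπAapp in
/-- Frobenius is central. -/
theorem frob_mem_center :
    EndAV.toEnd0 (EndAV.End.of πA) ∈ Subalgebra.center ℚ (EndAV.End0 A) := by
  obtain ⟨l, hlp, hl⟩ := exists_prime_ne_zero k
  have := Fact.mk hlp
  let Ω := AlgebraicClosure k
  obtain ⟨Λ, hΛ, hind⟩ := exists_vRep (A := A) (l := l) (Ω := Ω) hl
  have hinj : Function.Injective Λ := (injective_iff_map_eq_zero _).2 fun x hx => by
    by_contra hne
    refine (hind 1 (fun _ => x) (Fintype.linearIndependent_iff.2 fun g hg i => ?_)).ne_zero 0 hx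
    rw [Fin.sum_univ_one] at hg
    rw [Fin.fin_one_eq_zero i]
    by_contra hg0
    exact hne (by rw [← one_smul ℚ x, ← inv_mul_cancel₀ hg0, mul_smul, hg, smul_zero])
  rw [Subalgebra.mem_center_iff]
  intro x
  have hc : ∀ a : EndAV.End A, Λ (EndAV.toEnd0 a) * Λ (EndAV.toEnd0 (EndAV.End.of πA)) =
      Λ (EndAV.toEnd0 (EndAV.End.of πA)) * Λ (EndAV.toEnd0 a) := fun a => by
    rw [hΛ, hΛ]
    show (EndAV.Hom.tateMap (A := A) (B := A) l _ a).baseChange ℚ_[l] ∘ₗ _ = _ ∘ₗ _
    rw [← LinearMap.baseChange_comp, ← LinearMap.baseChange_comp]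
    refine congrArg (LinearMap.baseChange ℚ_[l]) ?_
    exact (commute_galois_iff πA hπAb hπAle hπAapp πA hπAb hπAle hπAapp _).1
      fun τ => tateMap_tateGal a.toHom τ
  refine hinj ?_
  rw [map_mul, map_mul]
  obtain ⟨n, a, hn, ha⟩ := exists_int_smul_eq_tmul x
  have h := hc a
  rw [EndAV.toEnd0_apply a, ← ha, map_zsmul, smul_mul_assoc, mul_smul_comm,
    ← Int.cast_smul_eq_zsmul ℚ_[l], ← Int.cast_smul_eq_zsmul ℚ_[l]] at h
  exact (smul_right_injective _ (Int.cast_ne_zero.2 hn : (n : ℚ_[l]) ≠ 0)) h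

set_option maxHeartbeats 1600000 in
include hπAb hπAapp hKB hBF in
/-- **The centre is `ℚ[π]`.** -/
theorem center_eq_qAdj :
    Subalgebra.center ℚ (EndAV.End0 A) = EndAV.QAdj (EndAV.End.of πA) := by
  classical
  obtain ⟨g, hg⟩ := Groth.FibreDim.exists_dim_eq_nat A
  obtain ⟨hfree, hfin, -⟩ := free_finite_hom (A := A) (B := A) hg hg
  have : Module.Free ℤ (EndAV.End A) := hfree
  have : Module.Finite ℤ (EndAV.End A) := hfin
  have : Module.Finite ℚ (EndAV.End0 A) := Module.Finite.base_change ℤ ℚ (EndAV.End A)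
  obtain ⟨l, hlp, hl⟩ := exists_prime_ne_zero k
  have := Fact.mk hlp
  let Ω := AlgebraicClosure k
  have : IsAlgClosed Ω := IsAlgClosure.isAlgClosed k
  have := (free_finite_tateMod Ω A hl).2
  obtain ⟨Λ, hΛ, hind⟩ := exists_vRep (A := A) (l := l) (Ω := Ω) hl
  let π0 := EndAV.toEnd0 (EndAV.End.of πA)
  let P := qMap (Ω := Ω) (l := l) πA
  let Z := Subalgebra.center ℚ (EndAV.End0 A)
  have hle : EndAV.QAdj (EndAV.End.of πA) ≤ Z :=
    Algebra.adjoin_le (Set.singleton_subset_iff.2 (frob_mem_center πA hπAb hπAle hπAapp))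
  obtain ⟨hsq, hkill⟩ := frob_killer (Ω := Ω) (l := l) πA hπAle hπAapp
  have : IsSemisimpleRing (Algebra.adjoin ℚ_[l] ({P} : Set (Module.End ℚ_[l] (ℚ_[l] ⊗[ℤ_[l]] TateMod A l (SGA7.pt (K := k) Ω))))) :=
    isSemisimpleRing_adjoin (Module.End.isSemisimple_of_squarefree_aeval_eq_zero hsq hkill)
  have hmem : ∀ z ∈ Z, Λ z ∈ Algebra.adjoin ℚ_[l] ({P} : Set (Module.End ℚ_[l] (ℚ_[l] ⊗[ℤ_[l]] TateMod A l (SGA7.pt (K := k) Ω)))) := by
    intro z hz
    refine Commutant.mem_of_commute _ _ fun c hc => ?_
    have hcP : c ∈ intertwiners P P := mem_intertwiners.2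
      (hc P (Algebra.self_mem_adjoin_singleton ℚ_[l] P))
    rw [intertwiners_eq_span πA hπAb hπAle hπAapp πA hπAb hπAle hπAapp hKB hBF hl] at hcP
    clear hc
    induction hcP using Submodule.span_induction with
    | mem y hy =>
      obtain ⟨a, rfl⟩ := hy
      rw [← hΛ a, ← map_mul, ← map_mul, Subalgebra.mem_center_iff.1 hz]
    | zero => rw [zero_mul, mul_zero]
    | add x y _ _ hx hy => rw [add_mul, mul_add, hx, hy]
    | smul c x _ hx => rw [smul_mul_assoc, mul_smul_comm, hx]
  -- dimensions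
  let ZS : Submodule ℚ (EndAV.End0 A) := Subalgebra.toSubmodule Z
  let RS := Subalgebra.toSubmodule (Algebra.adjoin ℚ_[l] ({P} : Set (Module.End ℚ_[l] (ℚ_[l] ⊗[ℤ_[l]] TateMod A l (SGA7.pt (K := k) Ω)))))
  have h1 : Module.finrank ℚ ZS ≤ Module.finrank ℚ_[l] RS := finrank_le_of_indep Λ.toLinearMap ZS RS
    hmem hind
  have h2 : Module.finrank ℚ_[l] RS ≤ (minpoly ℚ π0).natDegree :=
    (finrank_adjoin_le (f := P) hsq.ne_zero hkill).trans (natDegree_map _).le
  have h3 : (minpoly ℚ π0).natDegree ≤
      Module.finrank ℚ (Subalgebra.toSubmodule (EndAV.QAdj (EndAV.End.of πA))) :=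
    natDegree_minpoly_le_finrank_adjoin π0
  exact (Subalgebra.toSubmodule_injective (Submodule.eq_of_le_of_finrank_le
    (show Subalgebra.toSubmodule (EndAV.QAdj (EndAV.End.of πA)) ≤ ZS from hle)
    (h1.trans (h2.trans h3)))).symm

end Groth.AbVarTate
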