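import Groth.Agent.AbVarTate.IsogCrit
import Groth.Agent.AbVarTate.Centre
import Groth.Agent.AbVarMul.FrobExists
import Groth.Agent.AbVarMul.WeilApps

/-!
# Consequences of Tate's theorem over finite fields
-/

set_option autoImplicit false
set_option linter.unusedSectionVars false
universe u

open CategoryTheory MonoidalCategory CartesianMonoidalCategory MonObj GrpObj AlgebraicGeometry
open AbDual
open scoped TensorProduct Classical
open UniqueFactorizationMonoid (normalizedFactors)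

noncomputable section

namespace Groth.AbVarTate

open Groth.AbVarMul

variable {k : Type u} [Field k] [Finite k] {Ω : Type u} [Field Ω] [Algebra k Ω] [IsAlgClosure k Ω]
  {l : ℕ} [Fact l.Prime]
  {A B : Over (Spec (CommRingCat.of k))}
  [GrpObj A] [IsCommMonObj A] [IsProper A.hom] [GeometricallyIntegral A.hom]
  [GrpObj B] [IsCommMonObj B] [IsProper B.hom] [GeometricallyIntegral B.hom]

local notation "Ω₀" => (SGA7.pt (K := k) Ω)

variable (hKB : KernelBound.{u}) (hBF : BoundedFinite k)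

include hKB hBF in
/-- Tate's theorem in the form of the span of all homomorphisms. -/
theorem tate_integral (hl : (l : k) ≠ 0)
    (ρA : (Ω ≃ₐ[k] Ω) → Module.End ℤ_[l] (TateMod A l Ω₀))
    (hρA : ∀ (τ : Ω ≃ₐ[k] Ω) (z : TateMod A l Ω₀) (m : ℕ),
      (TateMod.component A l Ω₀ m (ρA τ z)).toMul =
        SGA7.galAct τ (TateMod.component A l Ω₀ m z).toMul)
    (ρB : (Ω ≃ₐ[k] Ω) → Module.End ℤ_[l] (TateMod B l Ω₀))
    (hρB : ∀ (τ : Ω ≃ₐ[k] Ω) (z : TateMod B l Ω₀) (m : ℕ),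
      (TateMod.component B l Ω₀ m (ρB τ z)).toMul =
        SGA7.galAct τ (TateMod.component B l Ω₀ m z).toMul)
    (w : TateMod A l Ω₀ →ₗ[ℤ_[l]] TateMod B l Ω₀)
    (hw : ∀ τ : Ω ≃ₐ[k] Ω, w ∘ₗ ρA τ = ρB τ ∘ₗ w) :
    w ∈ Submodule.span ℤ_[l] {v : TateMod A l Ω₀ →ₗ[ℤ_[l]] TateMod B l Ω₀ |
      ∃ (f : A ⟶ B) (_ : IsMonHom f), v = tateMapₗ (l := l) (T := Ω₀) f} := by
  refine Submodule.span_mono ?_ (mem_span_of_commute hKB hBF hl w fun τ => ?_)
  · rintro _ ⟨φ, rfl⟩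
    exact ⟨φ.toHom, inferInstance, rfl⟩
  · rw [← galois_eq_tateGal ρA hρA, ← galois_eq_tateGal ρB hρB]
    exact hw τ

theorem galois_commute_qMap {A B : Over (Spec (CommRingCat.of k))} [GrpObj A] [IsCommMonObj A]
    [GrpObj B] [IsCommMonObj B] (u : A ⟶ B) [IsMonHom u] (τ : Ω ≃ₐ[k] Ω) :
    qMap (Ω := Ω) (l := l) u ∘ₗ (tateGal A l τ).baseChange ℚ_[l] =
      (tateGal B l τ).baseChange ℚ_[l] ∘ₗ qMap u :=
  LinearMap.ext fun v => qMap_galQ u τ v

include hKB hBF in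
/-- An equivariant isomorphism comes from an isogeny, and conversely. -/
theorem isogeny_iff_galois (hl : (l : k) ≠ 0)
    (ρA : (Ω ≃ₐ[k] Ω) → Module.End ℤ_[l] (TateMod A l Ω₀))
    (hρA : ∀ (τ : Ω ≃ₐ[k] Ω) (z : TateMod A l Ω₀) (m : ℕ),
      (TateMod.component A l Ω₀ m (ρA τ z)).toMul =
        SGA7.galAct τ (TateMod.component A l Ω₀ m z).toMul)
    (ρB : (Ω ≃ₐ[k] Ω) → Module.End ℤ_[l] (TateMod B l Ω₀))
    (hρB : ∀ (τ : Ω ≃ₐ[k] Ω) (z : TateMod B l Ω₀) (m : ℕ),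
      (TateMod.component B l Ω₀ m (ρB τ z)).toMul =
        SGA7.galAct τ (TateMod.component B l Ω₀ m z).toMul) :
    (∃ (u : A ⟶ B) (_ : IsMonHom u) (v : B ⟶ A) (_ : IsMonHom v) (n : ℕ), 0 < n ∧
        u ≫ v = (𝟙 A) ^ n ∧ v ≫ u = (𝟙 B) ^ n) ↔
      ∃ e : (ℚ_[l] ⊗[ℤ_[l]] TateMod A l Ω₀) ≃ₗ[ℚ_[l]] (ℚ_[l] ⊗[ℤ_[l]] TateMod B l Ω₀),
        ∀ τ : Ω ≃ₐ[k] Ω, (e : (ℚ_[l] ⊗[ℤ_[l]] TateMod A l Ω₀) →ₗ[ℚ_[l]] (ℚ_[l] ⊗[ℤ_[l]] TateMod B l Ω₀)) ∘ₗ
            (ρA τ).baseChange ℚ_[l] =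
          ((ρB τ).baseChange ℚ_[l]) ∘ₗ
            (e : (ℚ_[l] ⊗[ℤ_[l]] TateMod A l Ω₀) →ₗ[ℚ_[l]] (ℚ_[l] ⊗[ℤ_[l]] TateMod B l Ω₀)) := by
  constructor
  · rintro ⟨u, _, v, _, n, hn, h1, h2⟩
    obtain ⟨e, he⟩ := exists_equiv_of_isogeny (Ω := Ω) hl u v hn h1 h2
    refine ⟨e, fun τ => ?_⟩
    rw [galois_eq_tateGal ρA hρA, galois_eq_tateGal ρB hρB, he]
    exact galois_commute_qMap u τ
  · rintro ⟨e, he⟩
    have : IsAlgClosed Ω := IsAlgClosure.isAlgClosed k
    have hAlg : Algebra.IsAlgebraic k Ω := IsAlgClosure.isAlgebraic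
    let _ := Fintype.ofFinite k
    obtain ⟨πA, _, hπAb, hπAle, hπAapp⟩ := exists_frobEnd A
    obtain ⟨πB, _, hπBb, hπBle, hπBapp⟩ := exists_frobEnd B
    refine exists_isogeny_of_equiv πA hπAb hπAle hπAapp πB hπBb hπBle hπBapp hKB hBF hl e ?_
    let τ := FiniteField.frobeniusAlgEquivOfAlgebraic k Ω
    have hτ : ∀ b : Ω, τ b = b ^ Nat.card k := fun b => by
      rw [FiniteField.coe_frobeniusAlgEquivOfAlgebraic, Nat.card_eq_fintype_card]
    have hA : tateGal A l τ = tateMapₗ (l := l) (T := Ω₀) πA :=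
      LinearMap.ext fun z => TateMod.ext fun n => congrArg Additive.ofMul
        (galAct_eq_comp πA hπAb hπAle hπAapp τ _ fun b => hτ _)
    have hB : tateGal B l τ = tateMapₗ (l := l) (T := Ω₀) πB :=
      LinearMap.ext fun z => TateMod.ext fun n => congrArg Additive.ofMul
        (galAct_eq_comp πB hπBb hπBle hπBapp τ _ fun b => hτ _)
    rw [mem_intertwiners]
    have h := he τ
    rw [galois_eq_tateGal ρA hρA, galois_eq_tateGal ρB hρB, hA, hB] at h
    exact h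

variable (πA : A ⟶ A) [IsMonHom πA] (hπAb : πA.left.base = 𝟙 _)
  (hπAle : ∀ U : A.left.Opens, U ≤ πA.left ⁻¹ᵁ U)
  (hπAapp : ∀ (U : A.left.Opens) (s : Γ(A.left, U)), (πA.left.appLE U U (hπAle U)).hom s = s ^ Nat.card k)
  (πB : B ⟶ B) [IsMonHom πB] (hπBb : πB.left.base = 𝟙 _)
  (hπBle : ∀ U : B.left.Opens, U ≤ πB.left ⁻¹ᵁ U)
  (hπBapp : ∀ (U : B.left.Opens) (s : Γ(B.left, U)), (πB.left.appLE U U (hπBle U)).hom s = s ^ Nat.card k)

include hKB hBF hπAb hπAapp hπBb hπBapp in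
/-- **Isogenous exactly when the characteristic polynomials of Frobenius agree.** -/
theorem isogeny_iff_charpoly (hl : (l : k) ≠ 0)
    [Module.Free ℤ_[l] (TateMod A l Ω₀)] [Module.Finite ℤ_[l] (TateMod A l Ω₀)]
    [Module.Free ℤ_[l] (TateMod B l Ω₀)] [Module.Finite ℤ_[l] (TateMod B l Ω₀)] :
    (∃ (u : A ⟶ B) (_ : IsMonHom u) (v : B ⟶ A) (_ : IsMonHom v) (n : ℕ), 0 < n ∧
        u ≫ v = (𝟙 A) ^ n ∧ v ≫ u = (𝟙 B) ^ n) ↔
      (tateMapₗ (l := l) (T := Ω₀) πA).charpoly = (tateMapₗ (l := l) (T := Ω₀) πB).charpoly := by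
  have hinj : Function.Injective (algebraMap ℤ_[l] ℚ_[l]) := IsFractionRing.injective _ _
  constructor
  · rintro ⟨u, _, v, _, n, hn, h1, h2⟩
    obtain ⟨e, he⟩ := exists_equiv_of_isogeny (Ω := Ω) hl u v hn h1 h2
    refine Polynomial.map_injective _ hinj ?_
    rw [← LinearMap.charpoly_baseChange, ← LinearMap.charpoly_baseChange,
      ← LinearEquiv.charpoly_conj e]
    refine congrArg LinearMap.charpoly (LinearMap.ext fun y => ?_)
    have hcomm : qMap (Ω := Ω) (l := l) u ∘ₗ qMap πA = qMap πB ∘ₗ qMap u := by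
      have : IsAlgClosed Ω := IsAlgClosure.isAlgClosed k
      rw [qMap, qMap, qMap, ← LinearMap.baseChange_comp, ← LinearMap.baseChange_comp]
      exact congrArg (LinearMap.baseChange ℚ_[l])
        ((commute_galois_iff πA hπAb hπAle hπAapp πB hπBb hπBle hπBapp _).1 fun τ => tateMap_tateGal u τ)
    rw [LinearEquiv.conj_apply_apply]
    have h := LinearMap.congr_fun hcomm (e.symm y)
    rw [← he] at h
    simp only [LinearMap.comp_apply, LinearEquiv.coe_coe, LinearEquiv.apply_symm_apply] at h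
    exact h
  · intro h
    obtain ⟨hp, hpf⟩ := frob_killer (Ω := Ω) (l := l) πA hπAle hπAapp
    obtain ⟨hq, hqg⟩ := frob_killer (Ω := Ω) (l := l) πB hπBle hπBapp
    obtain ⟨ψ, hψ⟩ := exists_equiv_intertwiner hp hpf hq hqg (by
      rw [qMap, qMap, LinearMap.charpoly_baseChange, LinearMap.charpoly_baseChange, h])
    exact exists_isogeny_of_equiv πA hπAb hπAle hπAapp πB hπBb hπBle hπBapp hKB hBF hl ψ hψ

include hKB hBF hπAb hπAapp in
/-- The dimension of the commutant does not depend on `l`. -/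
theorem finrank_commutant (hl : (l : k) ≠ 0) :
    Module.finrank ℚ_[l] (LinearMap.ker (LinearMap.lcomp ℚ_[l] _ ((tateMapₗ (l := l) (T := Ω₀) πA).baseChange ℚ_[l]) -
          LinearMap.llcomp ℚ_[l] _ _ _ ((tateMapₗ (l := l) (T := Ω₀) πA).baseChange ℚ_[l]) :
        Module.End ℚ_[l] (ℚ_[l] ⊗[ℤ_[l]] TateMod A l Ω₀) →ₗ[ℚ_[l]]
          Module.End ℚ_[l] (ℚ_[l] ⊗[ℤ_[l]] TateMod A l Ω₀))) =
      Module.finrank ℤ (EndAV.Hom A A) :=
  (finrank_hom_eq πA hπAb hπAle hπAapp πA hπAb hπAle hπAapp hKB hBF hl (Ω := Ω)).symm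

include hKB hBF hπAb hπAapp hπBb hπBapp in
/-- The rank of `Hom` from integral characteristic polynomials. -/
theorem finrank_hom_eq_sum (hl : (l : k) ≠ 0)
    [Module.Free ℤ_[l] (TateMod A l Ω₀)] [Module.Finite ℤ_[l] (TateMod A l Ω₀)]
    [Module.Free ℤ_[l] (TateMod B l Ω₀)] [Module.Finite ℤ_[l] (TateMod B l Ω₀)]
    (PA : Polynomial ℤ) (hPA : (tateMapₗ (l := l) (T := Ω₀) πA).charpoly = PA.map (Int.castRingHom ℤ_[l]))
    (PB : Polynomial ℤ) (hPB : (tateMapₗ (l := l) (T := Ω₀) πB).charpoly = PB.map (Int.castRingHom ℤ_[l])) :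
    Module.finrank ℤ (EndAV.Hom A B) =
      ∑ P ∈ (normalizedFactors (PA.map (Int.castRingHom ℚ))).toFinset,
        (normalizedFactors (PA.map (Int.castRingHom ℚ))).count P *
          (normalizedFactors (PB.map (Int.castRingHom ℚ))).count P * P.natDegree := by
  classical
  let K := AlgebraicClosure ℚ_[l]
  have hm : ∀ {P : Polynomial ℤ} {f : Polynomial ℤ_[l]}, f.Monic → f = P.map (Int.castRingHom ℤ_[l]) →
      P.Monic := fun hf h => Polynomial.monic_of_injective Int.cast_injective (h ▸ hf)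
  rw [finrank_hom_eq_pairCount πA hπAb hπAle hπAapp πB hπBb hπBle hπBapp hKB hBF hl (Ω := Ω) K,
    ← pairCount_aroots (K := K) ((hm (LinearMap.charpoly_monic _) hPA).map _)
      ((hm (LinearMap.charpoly_monic _) hPB).map _)]
  rw [qMap, qMap, LinearMap.charpoly_baseChange, LinearMap.charpoly_baseChange, hPA, hPB]
  simp only [Polynomial.map_map]
  congr 2 <;> exact congrArg (fun f => Polynomial.map f _) (RingHom.ext_int _ _)

include hKB hBF hπAb hπAapp in
/-- The rank of `End` from the factorisation over `ℚ_[l]`. -/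
theorem finrank_end_eq_sum (hl : (l : k) ≠ 0)
    [Module.Free ℤ_[l] (TateMod A l Ω₀)] [Module.Finite ℤ_[l] (TateMod A l Ω₀)] :
    Module.finrank ℤ (EndAV.Hom A A) =
      ∑ P ∈ (normalizedFactors (qMap (Ω := Ω) (l := l) πA).charpoly).toFinset,
        (normalizedFactors (qMap (Ω := Ω) (l := l) πA).charpoly).count P ^ 2 * P.natDegree := by
  classical
  rw [finrank_hom_eq_pairCount πA hπAb hπAle hπAapp πA hπAb hπAle hπAapp hKB hBF hl (Ω := Ω)
    (AlgebraicClosure ℚ_[l]), pairCount_aroots (AlgebraicClosure ℚ_[l]) (LinearMap.charpoly_monic _)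
    (LinearMap.charpoly_monic _)]
  simp only [pow_two]

include hKB hBF in
/-- `End` has rank at least twice the dimension. -/
theorem two_mul_dim_le (g : ℕ) (hg : topologicalKrullDim A.left = g) :
    2 * g ≤ Module.finrank ℤ (EndAV.Hom A A) := by
  classical
  obtain ⟨πA, _, hπAb, hπAle, hπAapp⟩ := exists_frobEnd A
  obtain ⟨l, hlp, hl⟩ := exists_prime_ne_zero k
  have := Fact.mk hlp
  let Ω := AlgebraicClosure k
  have : IsAlgClosed Ω := IsAlgClosure.isAlgClosed k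
  have := (free_finite_tateMod Ω A hl).1
  have := (free_finite_tateMod Ω A hl).2
  obtain ⟨P, hPm, hPd, hPn⟩ := exists_degPoly hg (EndAV.End.of πA)
  have hc : (tateMapₗ (l := l) (T := SGA7.pt (K := k) Ω) πA).charpoly = P.map (Int.castRingHom ℤ_[l]) :=
    charpoly_tateMap Ω hl (EndAV.End.of πA) P hPn
  rw [finrank_hom_eq_pairCount πA hπAb hπAle hπAapp πA hπAb hπAle hπAapp hKB hBF hl (Ω := Ω)
    (AlgebraicClosure ℚ_[l])]
  refine le_trans (le_of_eq ?_) (pairCount_self_ge _)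
  rw [IsAlgClosed.card_roots_eq_natDegree, Polynomial.natDegree_map, qMap,
    LinearMap.charpoly_baseChange, hc, Polynomial.map_map,
    Polynomial.natDegree_map_eq_of_injective (RingHom.injective_int _), hPd]

omit [Finite k] in
/-- A basis of the endomorphism group. -/
theorem exists_basis_fin {g : ℕ} (hg : topologicalKrullDim A.left = g) :
    ∃ e : Fin (Module.finrank ℤ (EndAV.Hom A A)) → (A ⟶ A), (∀ i, IsMonHom (e i)) ∧
      LinearIndependent ℤ (fun i => Additive.ofMul (e i)) ∧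
      ∀ f : A ⟶ A, IsMonHom f → ∃ a : Fin (Module.finrank ℤ (EndAV.Hom A A)) → ℤ, f = ∏ i, e i ^ a i := by
  classical
  obtain ⟨hfree, hfin, -⟩ := free_finite_hom (A := A) (B := A) hg hg
  let b := Module.finBasis ℤ (EndAV.Hom A A)
  let Φ : EndAV.Hom A A →+ Additive (A ⟶ A) :=
    AddMonoidHom.mk' (fun φ => Additive.ofMul φ.toHom) fun x y => congrArg Additive.ofMul (EndAV.Hom.toHom_add x y)
  have hΦ : Function.Injective Φ := fun x y h => EndAV.Hom.ext (Additive.ofMul.injective h)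
  refine ⟨fun i => (b i).toHom, fun i => inferInstance,
    b.linearIndependent.map' Φ.toIntLinearMap (LinearMap.ker_eq_bot.2 hΦ), fun f hf => ?_⟩
  refine ⟨fun i => b.repr (EndAV.Hom.of f) i, Additive.ofMul.injective ?_⟩
  show Φ (EndAV.Hom.of f) = _
  conv_lhs => rw [← b.sum_repr (EndAV.Hom.of f)]
  rw [map_sum, ofMul_prod]
  refine Finset.sum_congr rfl fun i _ => ?_
  rw [map_zsmul, ofMul_zpow]
  rfl

include hKB hBF hπAb hπAapp in
/-- A homomorphism commuting with all others has a multiple in `ℤ[π]`. -/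
theorem exists_pow_eq_prod_iterate (f : A ⟶ A) [IsMonHom f]
    (hf : ∀ h : A ⟶ A, IsMonHom h → f ≫ h = h ≫ f) :
    ∃ N : ℕ, 0 < N ∧ ∃ (d : ℕ) (a : Fin d → ℤ),
      f ^ N = ∏ i : Fin d, ((fun h : A ⟶ A => h ≫ πA)^[(i : ℕ)] (𝟙 A)) ^ (a i) := by
  classical
  obtain ⟨g, hg⟩ := Groth.FibreDim.exists_dim_eq_nat A
  obtain ⟨hfree, hfin, -⟩ := free_finite_hom (A := A) (B := A) hg hg
  have : Module.Free ℤ (EndAV.End A) := hfree
  have hinj : Function.Injective (EndAV.toEnd0 (A := A)) :=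
    Algebra.TensorProduct.includeRight_injective Int.cast_injective
  have hz : EndAV.toEnd0 (EndAV.End.of f) ∈ Subalgebra.center ℚ (EndAV.End0 A) := by
    rw [Subalgebra.mem_center_iff]
    intro x
    obtain ⟨n, a, hn, ha⟩ := exists_int_smul_eq_tmul x
    have h : EndAV.toEnd0 a * EndAV.toEnd0 (EndAV.End.of f) =
        EndAV.toEnd0 (EndAV.End.of f) * EndAV.toEnd0 a := by
      rw [← map_mul, ← map_mul]
      exact congrArg _ (EndAV.End.ext (hf a.toHom inferInstance))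
    rw [EndAV.toEnd0_apply a, ← ha, smul_mul_assoc, mul_smul_comm,
      ← Int.cast_smul_eq_zsmul ℚ, ← Int.cast_smul_eq_zsmul ℚ] at h
    have h2 := congrArg (fun y : EndAV.End0 A => (n : ℚ)⁻¹ • y) h
    simpa only [smul_smul, inv_mul_cancel₀ (Int.cast_ne_zero.2 hn : (n : ℚ) ≠ 0), one_smul] using h2
  rw [center_eq_qAdj πA hπAb hπAle hπAapp hKB hBF] at hz
  replace hz : EndAV.toEnd0 (EndAV.End.of f) ∈ Algebra.adjoin ℚ ({EndAV.toEnd0 (EndAV.End.of πA)} : Set (EndAV.End0 A)) := hz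
  rw [Algebra.adjoin_singleton_eq_range_aeval] at hz
  obtain ⟨q, hq⟩ := hz
  obtain ⟨c, hcmem, hc⟩ := IsLocalization.integerNormalization_spec (nonZeroDivisors ℤ) q
  set qz := IsLocalization.integerNormalization (nonZeroDivisors ℤ) q
  have hc0 : c ≠ 0 := mem_nonZeroDivisors_iff_ne_zero.1 hcmem
  let x : EndAV.End A := EndAV.End.of πA
  have key : (c : ℤ) • EndAV.End.of f = ∑ i : Fin (qz.natDegree + 1), qz.coeff i • x ^ (i : ℕ) := by
    refine hinj ?_
    rw [map_zsmul, map_sum, ← hq]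
    show (c : ℤ) • (Polynomial.aeval (EndAV.toEnd0 x)) q = _
    rw [← map_zsmul, ← hc, Polynomial.aeval_map_algebraMap, Polynomial.aeval_eq_sum_range,
      Finset.sum_range]
    refine Finset.sum_congr rfl fun i _ => ?_
    rw [map_zsmul, map_pow]
  obtain ⟨s, hs, hs0⟩ : ∃ s : ℤ, s * c = (c.natAbs : ℤ) ∧ s ≠ 0 :=
    ⟨Int.sign c, by rw [Int.sign_mul_self_eq_natAbs], fun h => hc0 (Int.sign_eq_zero_iff_zero.1 h)⟩
  refine ⟨c.natAbs, Int.natAbs_pos.2 hc0, qz.natDegree + 1, fun i => s * qz.coeff i, ?_⟩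
  have hit : ∀ i : ℕ, (fun h : A ⟶ A => h ≫ πA)^[i] (𝟙 A) = (x ^ i).toHom := by
    intro i
    induction i with
    | zero => rfl
    | succ i ih =>
      rw [Function.iterate_succ', Function.comp_apply, ih]
      show (x ^ i).toHom ≫ πA = _
      rw [EndAV.End.toHom_pow_succ, EndAV.End.toHom_of]
  have key2 : ((c.natAbs : ℤ) • EndAV.End.of f).toHom =
      ∏ i : Fin (qz.natDegree + 1), ((x ^ (i : ℕ)).toHom) ^ (s * qz.coeff i) := by
    let Φ : EndAV.End A →+ Additive (A ⟶ A) :=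
      AddMonoidHom.mk' (fun φ => Additive.ofMul φ.toHom) fun a b => congrArg Additive.ofMul (EndAV.End.toHom_add a b)
    refine Additive.ofMul.injective ?_
    show Φ _ = _
    rw [← hs, mul_smul, key, Finset.smul_sum, map_sum, ofMul_prod]
    refine Finset.sum_congr rfl fun i _ => ?_
    rw [smul_smul, map_zsmul, ofMul_zpow]
    rfl
  rw [EndAV.End.toHom_zsmul, EndAV.End.toHom_of, zpow_natCast] at key2
  rw [key2]
  exact Finset.prod_congr rfl fun i _ => by rw [hit]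

end Groth.AbVarTate
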