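import Mathlib.Analysis.Complex.Basic
import Mathlib.LinearAlgebra.LinearIndependent.Basic
import Mathlib.Algebra.Polynomial.Basic
import Mathlib.Data.Multiset.Powerset
import Mathlib.Data.Finsupp.Basic

/-!
# Numbers on a circle are determined by the products `∏ (1 - αᵐ)`
-/

set_option autoImplicit false

open scoped Classical

noncomputable section

namespace Groth.AbVarTate

/-- The formal expansion of `∏ (1 - [a])`. -/
def signedExpand (s : Multiset ℂ) : ℂ →₀ ℂ :=
  (s.powerset.map fun S => Finsupp.single S.prod ((-1 : ℂ) ^ S.card)).sum

theorem signedExpand_zero : signedExpand 0 = Finsupp.single 1 1 := by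
  simp [signedExpand]

theorem signedExpand_cons (a : ℂ) (s : Multiset ℂ) :
    signedExpand (a ::ₘ s) = signedExpand s - Finsupp.mapDomain (a * ·) (signedExpand s) := by
  simp only [signedExpand, Multiset.powerset_cons, Multiset.map_add, Multiset.sum_add]
  rw [sub_eq_add_neg]
  congr 1
  induction s.powerset using Multiset.induction with
  | empty => simp
  | cons S t ih =>
    simp only [Multiset.map_cons, Multiset.sum_cons, Multiset.prod_cons, Multiset.card_cons,
      Finsupp.mapDomain_add, Finsupp.mapDomain_single, neg_add, ih]
    rw [pow_succ, mul_neg_one, Finsupp.single_neg]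

theorem linearCombination_signedExpand (m : ℕ) (s : Multiset ℂ) :
    Finsupp.linearCombination ℂ (fun z : ℂ => z ^ m) (signedExpand s) =
      (s.map fun a => 1 - a ^ m).prod := by
  induction s using Multiset.induction with
  | empty => simp [signedExpand_zero]
  | cons a s ih =>
    rw [signedExpand_cons, map_sub, ih, Finsupp.linearCombination_mapDomain, Multiset.map_cons,
      Multiset.prod_cons, sub_mul, one_mul, ← ih]
    congr 1
    simp only [Finsupp.linearCombination_apply, Finsupp.sum, Finset.mul_sum, Function.comp_apply,
      smul_eq_mul, mul_pow]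
    exact Finset.sum_congr rfl fun z _ => by ring

/-- Coefficients of the expansion inside, on and just outside the unit circle. -/
theorem signedExpand_apply {q : ℝ} (hq : 1 < q) :
    ∀ s : Multiset ℂ, (∀ a ∈ s, Complex.normSq a = q) →
      ∀ z : ℂ, (Complex.normSq z < 1 → signedExpand s z = 0) ∧
        (Complex.normSq z = 1 → signedExpand s z = if z = 1 then 1 else 0) ∧
        (Complex.normSq z = q → signedExpand s z = -(s.count z : ℂ)) := by
  intro s
  induction s using Multiset.induction with
  | empty =>
    intro _ z
    rw [signedExpand_zero]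
    refine ⟨fun h => ?_, fun _ => ?_, fun h => ?_⟩
    · rw [Finsupp.single_apply, if_neg]
      rintro rfl
      simp at h
    · rw [Finsupp.single_apply]
      simp only [eq_comm]
    · rw [Finsupp.single_apply, if_neg]
      · simp
      · rintro rfl
        simp at h
        linarith
  | cons a s ih =>
    intro hs z
    have ha : Complex.normSq a = q := hs a (Multiset.mem_cons_self a s)
    have ha0 : a ≠ 0 := by
      rintro rfl
      simp at ha
      linarith
    replace ih := ih fun b hb => hs b (Multiset.mem_cons_of_mem hb)
    have hz : signedExpand (a ::ₘ s) z = signedExpand s z - signedExpand s (z / a) := by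
      rw [signedExpand_cons, Finsupp.sub_apply]
      conv_lhs => rw [← mul_div_cancel₀ z ha0]
      rw [Finsupp.mapDomain_apply (mul_right_injective₀ ha0), mul_div_cancel₀ z ha0]
    have hn : Complex.normSq (z / a) = Complex.normSq z / q := by rw [Complex.normSq_div, ha]
    refine ⟨fun h => ?_, fun h => ?_, fun h => ?_⟩
    · rw [hz, (ih z).1 h, (ih _).1 (by
        rw [hn, div_lt_one (by linarith)]; linarith), sub_zero]
    · rw [hz, (ih z).2.1 h, (ih _).1 (by
        rw [hn, h, div_lt_one (by linarith)]; linarith), sub_zero]
    · rw [hz, (ih z).2.2 h, (ih _).2.1 (by rw [hn, h, div_self (by linarith)]),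
        Multiset.count_cons]
      simp only [div_eq_one_iff_eq ha0]
      split_ifs with h' <;> push_cast <;> ring

/-- **A multiset on the circle of radius `√q > 1` is determined by the numbers `∏ (1 - aᵐ)`.** -/
theorem multiset_eq_of_prod_one_sub_pow {q : ℝ} (hq : 1 < q) {s t : Multiset ℂ}
    (hs : ∀ a ∈ s, Complex.normSq a = q) (ht : ∀ a ∈ t, Complex.normSq a = q)
    (h : ∀ m : ℕ, 0 < m → (s.map fun a => 1 - a ^ m).prod = (t.map fun a => 1 - a ^ m).prod) :
    s = t := by
  have hli : LinearIndependent ℂ fun z : ℂ => fun m : Multiplicative ℕ => z ^ m.toAdd :=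
    (linearIndependent_monoidHom (Multiplicative ℕ) ℂ).comp (powersHom ℂ) (powersHom ℂ).injective
  set f := signedExpand s - signedExpand t with hfdef
  have hf : ∀ z, z ≠ 0 → f z = 0 := by
    intro z hz
    have key : Finsupp.linearCombination ℂ (fun z : ℂ => fun m : Multiplicative ℕ => z ^ m.toAdd)
        (Finsupp.onFinset f.support (fun z => f z * z) fun w hw =>
          Finsupp.mem_support_iff.2 (left_ne_zero_of_mul hw)) = 0 := by
      funext m
      have hm : Finsupp.linearCombination ℂ (fun z : ℂ => z ^ (m.toAdd + 1)) f = 0 := by
        rw [hfdef, map_sub, linearCombination_signedExpand, linearCombination_signedExpand,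
          h _ (Nat.succ_pos _), sub_self]
      rw [Finsupp.linearCombination_apply, Finsupp.onFinset_sum _ (fun _ => by simp)]
      rw [Finsupp.linearCombination_apply, Finsupp.sum] at hm
      rw [Finset.sum_apply, Pi.zero_apply, ← hm]
      refine Finset.sum_congr rfl fun w _ => ?_
      simp only [Pi.smul_apply, smul_eq_mul]
      ring
    have := linearIndependent_iff.1 hli _ key
    exact (mul_eq_zero.1 (by simpa using DFunLike.congr_fun this z)).resolve_right hz
  refine Multiset.ext.2 fun z => ?_
  by_cases hz : Complex.normSq z = q
  · have hz0 : z ≠ 0 := by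
      rintro rfl
      simp at hz
      linarith
    have h1 := hf z hz0
    rw [hfdef, Finsupp.sub_apply, (signedExpand_apply hq s hs z).2.2 hz,
      (signedExpand_apply hq t ht z).2.2 hz, sub_eq_zero, neg_inj, Nat.cast_inj] at h1
    exact h1
  · rw [Multiset.count_eq_zero.2 fun h => hz (hs z h), Multiset.count_eq_zero.2 fun h => hz (ht z h)]

end Groth.AbVarTate
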