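import Groth.Agent.AbVarTate.Conseq
import Groth.Agent.AbVarTate.RootsPow
import Groth.Agent.AbVarMul.SimpleIsogeny
import Groth.Agent.ZetaAn.ProjCount
import Groth.Agent.S16589

/-!
# The endomorphism algebra and the roots of the characteristic polynomial of Frobenius
-/

set_option autoImplicit false
set_option linter.unusedSectionVars false
universe u

open CategoryTheory MonoidalCategory CartesianMonoidalCategory MonObj GrpObj AlgebraicGeometry
open AbDual
open scoped TensorProduct Classical
open UniqueFactorizationMonoid (normalizedFactors)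

noncomputable section

namespace Groth.AbVarTate

open Groth.AbVarMul

theorem all_eq_of_pairCount_eq_sq {α : Type*} [DecidableEq α] {s : Multiset α}
    (h : pairCount s s = Multiset.card s ^ 2) {a b : α} (ha : a ∈ s) (hb : b ∈ s) : a = b := by
  refine Multiset.count_eq_card.1 (le_antisymm (Multiset.count_le_card _ _) (not_lt.1 fun hlt => ?_)) b hb
  have := Multiset.sum_lt_sum (s := s) (f := fun x => s.count x) (g := fun _ => Multiset.card s)
    (fun x _ => Multiset.count_le_card _ _) ⟨a, ha, hlt⟩
  rw [Multiset.map_const', Multiset.sum_replicate, smul_eq_mul, ← pow_two, ← h] at this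
  exact lt_irrefl _ this

theorem pairCount_replicate {α : Type*} [DecidableEq α] (n : ℕ) (a : α) :
    pairCount (Multiset.replicate n a) (Multiset.replicate n a) = n ^ 2 := by
  simp [pairCount, pow_two]

theorem pairCount_of_count_eq {α : Type*} [DecidableEq α] {s : Multiset α} {d : ℕ}
    (h : ∀ a ∈ s, s.count a = d) : pairCount s s = Multiset.card s * d := by
  rw [pairCount, Multiset.map_congr rfl h, Multiset.map_const', Multiset.sum_replicate, smul_eq_mul]

/-- The tower formula when the middle ring is a field. -/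
theorem finrank_mul_finrank_of_isField {F R M : Type*} [Field F] [CommRing R] (hR : IsField R)
    [Algebra F R] [AddCommGroup M] [Module R M] [Module F M] [IsScalarTower F R M] :
    Module.finrank F R * Module.finrank R M = Module.finrank F M := by
  let := hR.toField
  exact Module.finrank_mul_finrank F R M

variable {k : Type u} [Field k] {A : Over (Spec (CommRingCat.of k))}
  [GrpObj A] [IsCommMonObj A] [IsProper A.hom] [GeometricallyIntegral A.hom]

theorem toEnd0_injective : Function.Injective (EndAV.toEnd0 (A := A)) := by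
  obtain ⟨g, hg⟩ := Groth.FibreDim.exists_dim_eq_nat A
  obtain ⟨hfree, -, -⟩ := free_finite_hom (A := A) (B := A) hg hg
  have : Module.Free ℤ (EndAV.End A) := hfree
  exact Algebra.TensorProduct.includeRight_injective Int.cast_injective

theorem finite_end0 : Module.Finite ℚ (EndAV.End0 A) := by
  obtain ⟨g, hg⟩ := Groth.FibreDim.exists_dim_eq_nat A
  obtain ⟨-, hfin, -⟩ := free_finite_hom (A := A) (B := A) hg hg
  have : Module.Finite ℤ (EndAV.End A) := hfin
  exact Module.Finite.base_change ℤ ℚ (EndAV.End A)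

theorem finrank_end0 : Module.finrank ℚ (EndAV.End0 A) = Module.finrank ℤ (EndAV.Hom A A) := by
  obtain ⟨g, hg⟩ := Groth.FibreDim.exists_dim_eq_nat A
  obtain ⟨hfree, -, -⟩ := free_finite_hom (A := A) (B := A) hg hg
  have : Module.Free ℤ (EndAV.End A) := hfree
  exact Module.finrank_baseChange (R := ℚ) (S := ℤ) (M' := EndAV.End A)

/-- `ℚ[φ]` has dimension the degree of the minimal polynomial. -/
theorem finrank_qAdj (φ : EndAV.End A) :
    Module.finrank ℚ (EndAV.QAdj φ) = (minpoly ℚ (EndAV.toEnd0 φ)).natDegree := by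
  have := finite_end0 (A := A)
  set x := EndAV.toEnd0 φ
  have hx : IsIntegral ℚ x := Algebra.IsIntegral.isIntegral x
  refine le_antisymm ?_ (natDegree_minpoly_le_finrank_adjoin x)
  let W := Submodule.span ℚ (Set.range fun i : Fin (minpoly ℚ x).natDegree => x ^ (i : ℕ))
  have hle : Subalgebra.toSubmodule (Algebra.adjoin ℚ ({x} : Set (EndAV.End0 A))) ≤ W := by
    intro y hy
    rw [Subalgebra.mem_toSubmodule, Algebra.adjoin_singleton_eq_range_aeval] at hy
    obtain ⟨q, rfl⟩ := hy
    show Polynomial.aeval x q ∈ W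
    have hdiv := (minpoly.dvd ℚ x (p := q - q %ₘ minpoly ℚ x) (by
      rw [map_sub, sub_eq_zero]
      exact (Polynomial.aeval_modByMonic_eq_self_of_root (minpoly.aeval ℚ x)).symm))
    rw [← Polynomial.aeval_modByMonic_eq_self_of_root (p := q) (minpoly.aeval ℚ x)]
    rcases eq_or_ne (q %ₘ minpoly ℚ x) 0 with h0 | h0
    · rw [h0, map_zero]; exact zero_mem _
    rw [Polynomial.aeval_eq_sum_range]
    refine Submodule.sum_mem _ fun i hi => Submodule.smul_mem _ _ (Submodule.subset_span ⟨⟨i, ?_⟩, rfl⟩)
    have h1 := Polynomial.natDegree_lt_natDegree h0 (Polynomial.degree_modByMonic_lt q (minpoly.monic hx))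
    have := Finset.mem_range.1 hi
    omega
  refine (Submodule.finrank_mono hle).trans ((finrank_range_le_card _).trans ?_)
  rw [Fintype.card_fin]

variable [Finite k] {Ω : Type u} [Field Ω] [Algebra k Ω] [IsAlgClosure k Ω] {l : ℕ} [Fact l.Prime]
  {g : ℕ} (hg : topologicalKrullDim A.left = g)
  (πA : A ⟶ A) [IsMonHom πA] (hπAb : πA.left.base = 𝟙 _)
  (hπAle : ∀ U : A.left.Opens, U ≤ πA.left ⁻¹ᵁ U)
  (hπAapp : ∀ (U : A.left.Opens) (s : Γ(A.left, U)), (πA.left.appLE U U (hπAle U)).hom s = s ^ Nat.card k)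

variable [Module.Free ℤ_[l] (TateMod A l (SGA7.pt (K := k) Ω))] [Module.Finite ℤ_[l] (TateMod A l (SGA7.pt (K := k) Ω))]
  (P : Polynomial ℤ) (hP : (tateMapₗ (l := l) (T := (SGA7.pt (K := k) Ω)) πA).charpoly = P.map (Int.castRingHom ℤ_[l]))
  (hl : (l : k) ≠ 0)

include hl hP hg hπAapp in
/-- The roots of the minimal polynomial of Frobenius are the distinct roots of `P`. -/
theorem roots_minpoly_frob :
    ((minpoly ℚ (EndAV.toEnd0 (EndAV.End.of πA))).map (algebraMap ℚ ℂ)).roots =
      (P.map (Int.castRingHom ℂ)).roots.dedup := by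
  have := IsAlgClosure.isAlgClosed k (K := Ω)
  have := finite_end0 (A := A)
  obtain ⟨hm, hd, hdeg, -, -⟩ := charpoly_frob_spec hπAle hπAapp Ω hl hP hg
  set x := EndAV.toEnd0 (EndAV.End.of πA)
  set m := minpoly ℚ x
  have hsq : Squarefree m := (frob_minpoly hπAle hπAapp).1
  have hm0 : m ≠ 0 := minpoly.ne_zero (Algebra.IsIntegral.isIntegral x)
  have hPα : P.eval₂ (Int.castRingHom (EndAV.End A)) (EndAV.End.of πA) = 0 := by
    refine tateRep_injective_bc (A := A) Ω hl ?_
    rw [map_zero, Polynomial.hom_eval₂,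
      RingHom.ext_int ((EndAV.End.tateRep (A := A) l (SGA7.pt (K := k) Ω)).comp _)
        ((algebraMap ℤ_[l] _).comp (Int.castRingHom ℤ_[l])),
      ← Polynomial.eval₂_map, ← hP, ← Polynomial.aeval_def]
    exact LinearMap.aeval_self_charpoly _
  have hPx : Polynomial.aeval x (P.map (Int.castRingHom ℚ)) = 0 := by
    have h := congrArg (EndAV.toEnd0 (A := A)).toRingHom hPα
    rw [map_zero, Polynomial.hom_eval₂,
      RingHom.ext_int ((EndAV.toEnd0 (A := A)).toRingHom.comp _)
        ((algebraMap ℚ (EndAV.End0 A)).comp (Int.castRingHom ℚ)),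
      ← Polynomial.eval₂_map, ← Polynomial.aeval_def] at h
    exact h
  have hmP : m ∣ P.map (Int.castRingHom ℚ) := minpoly.dvd ℚ x hPx
  have hmap : (P.map (Int.castRingHom ℚ)).map (algebraMap ℚ ℂ) = P.map (Int.castRingHom ℂ) := by
    rw [Polynomial.map_map]; exact congrArg (fun f => P.map f) (RingHom.ext_int _ _)
  refine (Multiset.Nodup.ext (Polynomial.nodup_roots
    (Polynomial.Separable.map (PerfectField.separable_iff_squarefree.2 hsq)))
    (Multiset.nodup_dedup _)).2 fun z => ?_
  rw [Multiset.mem_dedup]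
  constructor
  · intro hz
    have hle := Polynomial.roots.le_of_dvd ((hm.map (Int.castRingHom ℂ)).ne_zero)
      (hmap ▸ Polynomial.map_dvd (algebraMap ℚ ℂ) hmP)
    exact Multiset.mem_of_le hle hz
  · intro hz
    rw [Polynomial.mem_roots (Polynomial.map_ne_zero hm0), Polynomial.IsRoot, Polynomial.eval_map,
      ← Polynomial.aeval_def]
    exact aeval_minpoly_root (EndAV.End.of πA) hdeg hz

include hl hP hg hπAapp in
/-- `dim ℚ[π]` is the number of distinct roots of `P`. -/
theorem finrank_qAdj_frob :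
    Module.finrank ℚ (EndAV.QAdj (EndAV.End.of πA)) =
      Multiset.card (P.map (Int.castRingHom ℂ)).roots.dedup := by
  rw [finrank_qAdj, ← roots_minpoly_frob hg πA hπAle hπAapp P hP hl,
    IsAlgClosed.card_roots_eq_natDegree, Polynomial.natDegree_map]

include hl hP hg hπAapp in
theorem card_roots_charpoly :
    Multiset.card (P.map (Int.castRingHom ℂ)).roots = 2 * g := by
  have := IsAlgClosure.isAlgClosed k (K := Ω)
  obtain ⟨hm, hd, -, -, -⟩ := charpoly_frob_spec hπAle hπAapp Ω hl hP hg
  rw [IsAlgClosed.card_roots_eq_natDegree, Polynomial.natDegree_map_eq_of_injective Int.cast_injective, hd]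

include hP in
theorem squarefree_iff_nodup_roots :
    Squarefree (P.map (Int.castRingHom ℚ)) ↔ (P.map (Int.castRingHom ℂ)).roots.Nodup := by
  have hm : P.Monic := Polynomial.monic_of_injective Int.cast_injective (hP ▸ LinearMap.charpoly_monic _)
  rw [← PerfectField.separable_iff_squarefree,
    ← Polynomial.nodup_aroots_iff_of_splits (K := ℂ) (hm.map _).ne_zero (IsAlgClosed.splits _),
    Polynomial.aroots_def, Polynomial.map_map]
  exact iff_of_eq (congrArg (fun f => (P.map f).roots.Nodup) (RingHom.ext_int _ _))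

variable (hKB : KernelBound.{u}) (hBF : BoundedFinite k)

include hl hP hKB hBF hπAb hπAapp in
/-- The rank of `End` counts pairs of equal roots. -/
theorem finrank_end0_eq_pairCount :
    Module.finrank ℚ (EndAV.End0 A) =
      pairCount (P.map (Int.castRingHom ℂ)).roots (P.map (Int.castRingHom ℂ)).roots := by
  have hm : P.Monic := Polynomial.monic_of_injective Int.cast_injective (hP ▸ LinearMap.charpoly_monic _)
  rw [finrank_end0, finrank_hom_eq_sum hKB hBF πA hπAb hπAle hπAapp πA hπAb hπAle hπAapp hl P hP P hP,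
    ← pairCount_aroots (K := ℂ) (hm.map _) (hm.map _), Polynomial.map_map]
  exact congrArg (fun f => pairCount (P.map f).roots (P.map f).roots) (RingHom.ext_int _ _)

include hl hP hg hKB hBF hπAb hπAapp in
/-- Commutativity, separability and minimal rank. -/
theorem comm_iff_squarefree :
    ((∀ a b : EndAV.End A, a * b = b * a) ↔ Squarefree (P.map (Int.castRingHom ℚ))) ∧
      (Squarefree (P.map (Int.castRingHom ℚ)) ↔ Module.finrank ℚ (EndAV.End0 A) = 2 * g) := by
  have := finite_end0 (A := A)
  have hc := center_eq_qAdj πA hπAb hπAle hπAapp hKB hBF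
  have hrk := finrank_end0_eq_pairCount πA hπAb hπAle hπAapp P hP hl hKB hBF
  have hcard := card_roots_charpoly hg πA hπAle hπAapp P hP hl
  have hadj := finrank_qAdj_frob hg πA hπAle hπAapp P hP hl
  rw [squarefree_iff_nodup_roots πA P hP]
  refine ⟨⟨fun hcomm => ?_, fun hnd a b => ?_⟩, ?_⟩
  · have hc0 : ∀ v w : EndAV.End0 A, v * w = w * v := by
      intro v w
      induction v using TensorProduct.induction_on with
      | zero => simp
      | add _ _ h1 h2 => rw [add_mul, mul_add, h1, h2]
      | tmul r a =>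
        induction w using TensorProduct.induction_on with
        | zero => simp
        | add _ _ h1 h2 => rw [add_mul, mul_add, h1, h2]
        | tmul s b => rw [Algebra.TensorProduct.tmul_mul_tmul, Algebra.TensorProduct.tmul_mul_tmul,
            mul_comm r s, hcomm a b]
    have htop : EndAV.QAdj (EndAV.End.of πA) = ⊤ := by
      rw [← hc, eq_top_iff]
      exact fun v _ => Subalgebra.mem_center_iff.2 fun w => hc0 w v
    rw [htop, (Subalgebra.topEquiv).toLinearEquiv.finrank_eq] at hadj
    rw [← pairCount_self_eq_card_iff]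
    refine le_antisymm ?_ (pairCount_self_ge _)
    rw [← hrk, hadj]
    exact Multiset.card_le_card (Multiset.dedup_le _)
  · rw [Multiset.dedup_eq_self.2 hnd, ← (pairCount_self_eq_card_iff _).2 hnd, ← hrk] at hadj
    have htop : Subalgebra.center ℚ (EndAV.End0 A) = ⊤ := by
      rw [hc]
      exact Subalgebra.toSubmodule.injective (Submodule.eq_top_of_finrank_eq hadj |>.trans
        Algebra.top_toSubmodule.symm)
    refine toEnd0_injective ?_
    rw [map_mul, map_mul]
    exact Subalgebra.mem_center_iff.1 (htop ▸ Algebra.mem_top : EndAV.toEnd0 b ∈ _) _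
  · rw [← hcard, hrk, pairCount_self_eq_card_iff]

include hl hP hg hKB hBF hπAb hπAapp in
/-- The extreme case: Frobenius is an integer. -/
theorem rank_sq_iff :
    (Module.finrank ℚ (EndAV.End0 A) = (2 * g) ^ 2 ↔ ∃ n : ℤ, EndAV.End.of πA = (n : EndAV.End A)) ∧
      ((∃ n : ℤ, EndAV.End.of πA = (n : EndAV.End A)) ↔
        ∃ a : ℤ, P = (Polynomial.X - Polynomial.C a) ^ (2 * g)) := by
  have := IsAlgClosure.isAlgClosed k (K := Ω)
  have := finite_end0 (A := A)
  obtain ⟨hm, hd, hdeg, -, -⟩ := charpoly_frob_spec hπAle hπAapp Ω hl hP hg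
  have hrk := finrank_end0_eq_pairCount πA hπAb hπAle hπAapp P hP hl hKB hBF
  have hcard := card_roots_charpoly hg πA hπAle hπAapp P hP hl
  have hroots := roots_minpoly_frob hg πA hπAle hπAapp P hP hl
  set s := (P.map (Int.castRingHom ℂ)).roots
  set x := EndAV.toEnd0 (EndAV.End.of πA)
  have hA : Module.finrank ℚ (EndAV.End0 A) = (2 * g) ^ 2 → ∃ n : ℤ, EndAV.End.of πA = (n : EndAV.End A) := by
    intro h
    rcases Nat.eq_zero_or_pos g with hg0 | hg0
    · rw [hg0] at h
      have : Subsingleton (EndAV.End0 A) :=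
        (Module.finBasisOfFinrankEq ℚ (EndAV.End0 A) (n := 0) (by simpa using h)).repr.toEquiv.subsingleton
      exact ⟨0, toEnd0_injective (Subsingleton.elim _ _)⟩
    obtain ⟨z, hz⟩ := Multiset.card_pos_iff_exists_mem.1 (by rw [hcard]; omega : 0 < Multiset.card s)
    rw [hrk, ← hcard] at h
    have hall : ∀ b ∈ s, b = z := fun b hb => all_eq_of_pairCount_eq_sq h hb hz
    have hded : s.dedup = {z} :=
      (Multiset.Nodup.ext (Multiset.nodup_dedup s) (Multiset.nodup_singleton z)).2 fun b => by
        rw [Multiset.mem_dedup, Multiset.mem_singleton]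
        exact ⟨hall b, fun e => e ▸ hz⟩
    have hmm : (minpoly ℚ x).Monic := minpoly.monic (Algebra.IsIntegral.isIntegral x)
    have hd1 : (minpoly ℚ x).natDegree = 1 := by
      rw [← Polynomial.natDegree_map (algebraMap ℚ ℂ), ← IsAlgClosed.card_roots_eq_natDegree, hroots, hded,
        Multiset.card_singleton]
    obtain ⟨c, hc⟩ : ∃ c : ℚ, minpoly ℚ x = Polynomial.X - Polynomial.C c := by
      refine ⟨-(minpoly ℚ x).coeff 0, ?_⟩
      rw [map_neg, sub_neg_eq_add]
      exact hmm.eq_X_add_C hd1
    have hzc : z = (c : ℂ) := by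
      have : z ∈ ((minpoly ℚ x).map (algebraMap ℚ ℂ)).roots := by
        rw [hroots, hded]; exact Multiset.mem_singleton_self z
      rw [hc, Polynomial.map_sub, Polynomial.map_X, Polynomial.map_C, Polynomial.roots_X_sub_C,
        Multiset.mem_singleton] at this
      rw [this, eq_ratCast]
    have hint : IsIntegral ℤ c := by
      refine ⟨P, hm, ?_⟩
      have hz' := (Polynomial.mem_roots ((hm.map _).ne_zero)).1 hz
      rw [Polynomial.IsRoot, Polynomial.eval_map, hzc,
        RingHom.ext_int (Int.castRingHom ℂ) ((Rat.castHom ℂ).comp (algebraMap ℤ ℚ)),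
        ← eq_ratCast (Rat.castHom ℂ) c, ← Polynomial.hom_eval₂] at hz'
      exact (map_eq_zero_iff _ (Rat.castHom ℂ).injective).1 hz'
    obtain ⟨n, hn⟩ := IsIntegrallyClosed.isIntegral_iff.1 hint
    refine ⟨n, toEnd0_injective ?_⟩
    have h0 := minpoly.aeval ℚ x
    rw [hc, map_sub, Polynomial.aeval_X, Polynomial.aeval_C, sub_eq_zero] at h0
    rw [show EndAV.toEnd0 (EndAV.End.of πA) = x from rfl, h0, ← hn, map_intCast, eq_intCast, map_intCast]
  have hB : ∀ n : ℤ, EndAV.End.of πA = (n : EndAV.End A) → P = (Polynomial.X - Polynomial.C n) ^ (2 * g) := by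
    intro n hn
    have hall : ∀ b ∈ s, b = (n : ℂ) := by
      intro b hb
      have hdvd : minpoly ℚ x ∣ Polynomial.X - Polynomial.C (n : ℚ) := minpoly.dvd ℚ x (by
        rw [map_sub, Polynomial.aeval_X, Polynomial.aeval_C,
          show x = EndAV.toEnd0 (n : EndAV.End A) from congrArg EndAV.toEnd0 hn, map_intCast, map_intCast, sub_self])
      have := aeval_minpoly_root (EndAV.End.of πA) hdeg hb
      obtain ⟨r, hr⟩ := hdvd
      have h2 : Polynomial.aeval b (Polynomial.X - Polynomial.C (n : ℚ)) = 0 := by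
        rw [hr, map_mul, this, zero_mul]
      rw [map_sub, Polynomial.aeval_X, Polynomial.aeval_C, map_intCast, sub_eq_zero] at h2
      exact h2
    refine Polynomial.map_injective (Int.castRingHom ℂ) Int.cast_injective ?_
    rw [(IsAlgClosed.splits (P.map (Int.castRingHom ℂ))).eq_prod_roots_of_monic (hm.map _),
      show (P.map (Int.castRingHom ℂ)).roots = s from rfl, Multiset.eq_replicate_card.2 hall, hcard]
    simp
  have hC : ∀ a : ℤ, P = (Polynomial.X - Polynomial.C a) ^ (2 * g) →
      Module.finrank ℚ (EndAV.End0 A) = (2 * g) ^ 2 := by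
    intro a ha
    have : s = Multiset.replicate (2 * g) (a : ℂ) := by
      show (P.map (Int.castRingHom ℂ)).roots = _
      rw [ha, Polynomial.map_pow, Polynomial.map_sub, Polynomial.map_X, Polynomial.map_C, eq_intCast,
        Polynomial.roots_pow, Polynomial.roots_X_sub_C, Multiset.nsmul_singleton]
    rw [hrk, this, pairCount_replicate]
  exact ⟨⟨hA, fun ⟨n, hn⟩ => hC n (hB n hn)⟩, ⟨fun ⟨n, hn⟩ => ⟨n, hB n hn⟩,
    fun ⟨a, ha⟩ => hA (hC a ha)⟩⟩

include hl hP hg hKB hBF hπAb hπAapp in
/-- The elementary case. -/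
theorem elementary_rank (hK : IsField (EndAV.QAdj (EndAV.End.of πA))) :
    ∃ d : ℕ, Module.finrank ℚ (EndAV.End0 A) = Module.finrank ℚ (EndAV.QAdj (EndAV.End.of πA)) * d ^ 2 ∧
      d * Module.finrank ℚ (EndAV.QAdj (EndAV.End.of πA)) = 2 * g ∧
      P.map (Int.castRingHom ℚ) = (minpoly ℚ (EndAV.toEnd0 (EndAV.End.of πA))) ^ d := by
  have := IsAlgClosure.isAlgClosed k (K := Ω)
  have := finite_end0 (A := A)
  obtain ⟨hm, hd, -, -, -⟩ := charpoly_frob_spec hπAle hπAapp Ω hl hP hg
  set x := EndAV.toEnd0 (EndAV.End.of πA)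
  set mp := minpoly ℚ x with hmp
  have hirr : Irreducible mp := by
    letI : Field (EndAV.QAdj (EndAV.End.of πA)) := hK.toField
    let y : EndAV.QAdj (EndAV.End.of πA) := ⟨x, Algebra.subset_adjoin (Set.mem_singleton x)⟩
    have hy : minpoly ℚ y = mp :=
      (minpoly.algHom_eq (EndAV.QAdj (EndAV.End.of πA)).val Subtype.val_injective y).symm
    rw [← hy]
    exact minpoly.irreducible ((isIntegral_algHom_iff (EndAV.QAdj (EndAV.End.of πA)).val
      Subtype.val_injective).1 (Algebra.IsIntegral.isIntegral x))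
  obtain ⟨Q, hQ1, hQ2⟩ := Groth.Agent.S16589.result k Ω l hl A g hg (EndAV.End.of πA) hirr
  obtain rfl : Q = P := Polynomial.map_injective (Int.castRingHom ℤ_[l]) Int.cast_injective
    (hQ1.symm.trans hP)
  refine ⟨2 * g / mp.natDegree, ?_, ?_, hQ2⟩
  swap
  · have := congrArg Polynomial.natDegree hQ2
    rw [Polynomial.natDegree_map_eq_of_injective Int.cast_injective, hd, Polynomial.natDegree_pow] at this
    rw [finrank_qAdj, ← hmp, ← this]
  set d := 2 * g / mp.natDegree with hdd
  have hnd : (mp.map (algebraMap ℚ ℂ)).roots.Nodup :=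
    Polynomial.nodup_roots (Polynomial.Separable.map (PerfectField.separable_iff_squarefree.2 hirr.squarefree))
  have hs : (Q.map (Int.castRingHom ℂ)).roots = d • (mp.map (algebraMap ℚ ℂ)).roots := by
    rw [← Polynomial.roots_pow, ← Polynomial.map_pow, ← hQ2, Polynomial.map_map]
    exact congrArg (fun f => (Q.map f).roots) (RingHom.ext_int _ _)
  rw [finrank_end0_eq_pairCount πA hπAb hπAle hπAapp Q hP hl hKB hBF, finrank_qAdj, ← hmp,
    pairCount_of_count_eq (d := d), hs, Multiset.card_nsmul, IsAlgClosed.card_roots_eq_natDegree,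
    Polynomial.natDegree_map]
  · ring
  · intro a ha
    rw [hs] at ha ⊢
    rw [Multiset.count_nsmul, Multiset.count_eq_one_of_mem hnd (Multiset.mem_of_mem_nsmul ha), _root_.mul_one]

end Groth.AbVarTate
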