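import Groth.Agent.AbVarTate.Conseq2
import Groth.Agent.ZetaAn.ZetaFormal

/-!
# Simple abelian varieties; isogeny classes and point counts
-/

set_option autoImplicit false
set_option linter.unusedSectionVars false
set_option linter.style.haveILetI false
universe u

open CategoryTheory MonoidalCategory CartesianMonoidalCategory MonObj GrpObj AlgebraicGeometry
open AbDual
open scoped TensorProduct Classical

noncomputable section

namespace Groth.AbVarTate

open Groth.AbVarMul

variable {k : Type u} [Field k] {A B : Over (Spec (CommRingCat.of k))}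
  [GrpObj A] [IsCommMonObj A] [IsProper A.hom] [GeometricallyIntegral A.hom]
  [GrpObj B] [IsCommMonObj B] [IsProper B.hom] [GeometricallyIntegral B.hom]

theorem noZeroDivisors_end0_of_simple
    (hsimple : ∀ (B : Over (Spec (CommRingCat.of k))) [GrpObj B] [GeometricallyIntegral B.hom] (i : B ⟶ A) [IsMonHom i]
      [IsClosedImmersion i.left], Subsingleton B.left ∨ IsIso i) :
    NoZeroDivisors (EndAV.End0 A) := ⟨fun {v w} hvw => by
  obtain ⟨n, a, hn, ha⟩ := exists_int_smul_eq_tmul v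
  obtain ⟨m, b, hm, hb⟩ := exists_int_smul_eq_tmul w
  have hab : a * b = 0 := toEnd0_injective (by
    rw [map_mul, map_zero, EndAV.toEnd0_apply, EndAV.toEnd0_apply, ← ha, ← hb, smul_mul_smul_comm,
      hvw, smul_zero])
  have hz0 : ∀ (n : ℤ) (v : EndAV.End0 A) (a : EndAV.End A), n ≠ 0 → n • v = (1 : ℚ) ⊗ₜ[ℤ] a →
      a = 0 → v = 0 := fun n v a hn ha h0 => by
    rw [h0, TensorProduct.tmul_zero, ← Int.cast_smul_eq_zsmul ℚ] at ha
    have h2 := congrArg (fun y : EndAV.End0 A => (n : ℚ)⁻¹ • y) ha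
    simpa only [smul_smul, inv_mul_cancel₀ (Int.cast_ne_zero.2 hn : (n : ℚ) ≠ 0), one_smul, smul_zero] using h2
  by_cases h0 : a.toHom = 1
  · exact Or.inl (hz0 n v a hn ha (EndAV.End.ext h0))
  refine Or.inr (hz0 m w b hm hb ?_)
  obtain ⟨d, ψ, hd, hψ, hψ1, -⟩ := exists_quasi_inverse_of_simple hsimple a.toHom h0
  have h2 : b.toHom ^ d = 1 := by
    have h3 := congrArg (fun f => f ≫ ψ) (congrArg EndAV.End.toHom hab)
    rw [EndAV.End.toHom_mul, EndAV.End.toHom_zero, Category.assoc, hψ1, MonObj.comp_pow,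
      Category.comp_id] at h3
    exact h3.trans (MonObj.one_comp ψ)
  have h4 : (d : ℤ) • b = 0 := EndAV.End.ext (by
    rw [natCast_zsmul, EndAV.End.toHom_nsmul, h2, EndAV.End.toHom_zero])
  have : Module.IsTorsionFree ℤ (EndAV.End A) := isTorsionFree_hom (A := A) (B := A)
  exact (smul_eq_zero.1 h4).resolve_left (by exact_mod_cast hd.ne')⟩

variable [Finite k] (hKB : KernelBound.{u}) (hBF : BoundedFinite k)

include hKB hBF in
/-- The reduced degree of the endomorphism algebra of a simple abelian variety. -/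
theorem simple_reduced_degree {g : ℕ} (hg : topologicalKrullDim A.left = g)
    (hsimple : ∀ (B : Over (Spec (CommRingCat.of k))) [GrpObj B] [GeometricallyIntegral B.hom] (i : B ⟶ A) [IsMonHom i]
      [IsClosedImmersion i.left], Subsingleton B.left ∨ IsIso i)
    (πA : A ⟶ A) [IsMonHom πA] (hπAb : πA.left.base = 𝟙 _)
    (hπAle : ∀ U : A.left.Opens, U ≤ πA.left ⁻¹ᵁ U)
    (hπAapp : ∀ (U : A.left.Opens) (s : Γ(A.left, U)), (πA.left.appLE U U (hπAle U)).hom s = s ^ Nat.card k) :
    Module.Finite ℚ (EndAV.End0 A) ∧ ∃ n : ℕ,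
      Module.finrank (EndAV.QAdj (EndAV.End.of πA)) (EndAV.End0 A) = n ^ 2 ∧
      n * Module.finrank ℚ (EndAV.QAdj (EndAV.End.of πA)) = 2 * g := by
  have := finite_end0 (A := A)
  refine ⟨this, ?_⟩
  obtain ⟨l, hlp, hl⟩ := exists_prime_ne_zero k
  have := Fact.mk hlp
  let Ω := AlgebraicClosure k
  have : IsAlgClosed Ω := IsAlgClosure.isAlgClosed k
  have := (free_finite_tateMod Ω A hl).1
  have := (free_finite_tateMod Ω A hl).2
  obtain ⟨P, hPm, hPd, hPn⟩ := exists_degPoly hg (EndAV.End.of πA)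
  have hP : (tateMapₗ (l := l) (T := SGA7.pt (K := k) Ω) πA).charpoly = P.map (Int.castRingHom ℤ_[l]) :=
    charpoly_tateMap Ω hl (EndAV.End.of πA) P hPn
  rcases Nat.eq_zero_or_pos g with hg0 | hg0
  · have h0 : Module.finrank ℚ (EndAV.End0 A) = 0 := by
      obtain ⟨hfree, -, hle⟩ := free_finite_hom (A := A) (B := A) hg hg
      rw [finrank_end0]; simp [hg0] at hle; exact hle
    have : Subsingleton (EndAV.End0 A) :=
      (Module.finBasisOfFinrankEq ℚ (EndAV.End0 A) (n := 0) h0).repr.toEquiv.subsingleton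
    have : Subsingleton (EndAV.QAdj (EndAV.End.of πA)) := Subtype.val_injective.subsingleton
    refine ⟨1, ?_, ?_⟩
    · rw [Module.finrank, rank_subsingleton, Cardinal.one_toNat, one_pow]
    · rw [Module.finrank_zero_of_subsingleton, mul_zero, hg0, mul_zero]
  have := noZeroDivisors_end0_of_simple hsimple
  obtain ⟨z, hz⟩ := Multiset.card_pos_iff_exists_mem.1 (show 0 < Multiset.card (P.map (Int.castRingHom ℂ)).roots by
    rw [card_roots_charpoly hg πA hπAle hπAapp P hP hl]; omega)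
  have : Nontrivial (EndAV.End0 A) := by
    rw [← not_subsingleton_iff_nontrivial]
    intro h
    have hr := aeval_minpoly_root (EndAV.End.of πA) hPn hz
    rw [minpoly.subsingleton] at hr
    simp at hr
  have hK : IsField (EndAV.QAdj (EndAV.End.of πA)) := by
    have hdom : IsDomain (EndAV.End0 A) := NoZeroDivisors.to_isDomain _
    have : NoZeroDivisors (EndAV.QAdj (EndAV.End.of πA)) :=
      Function.Injective.noZeroDivisors Subtype.val Subtype.val_injective rfl fun _ _ => rfl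
    have : IsDomain (EndAV.QAdj (EndAV.End.of πA)) := NoZeroDivisors.to_isDomain (EndAV.QAdj (EndAV.End.of πA))
    exact isField_of_isIntegral_of_isField' (R := ℚ) (S := EndAV.QAdj (EndAV.End.of πA)) (Field.toIsField ℚ)
  obtain ⟨d, h1, h2, -⟩ := elementary_rank hg πA hπAb hπAle hπAapp P hP hl hKB hBF hK
  refine ⟨d, ?_, h2⟩
  have h := finrank_mul_finrank_of_isField (F := ℚ) (R := EndAV.QAdj (EndAV.End.of πA)) (M := EndAV.End0 A) hK
  rw [h1] at h
  refine Nat.eq_of_mul_eq_mul_left ?_ h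
  rcases Nat.eq_zero_or_pos (Module.finrank ℚ (EndAV.QAdj (EndAV.End.of πA))) with h0 | h0
  · rw [h0, mul_zero] at h2; omega
  · exact h0

include hKB hBF in
/-- **Isogenous exactly when the numbers of points agree.** -/
theorem isogeny_iff_nPts :
    (∃ (u : A ⟶ B) (_ : IsMonHom u) (v : B ⟶ A) (_ : IsMonHom v) (n : ℕ), 0 < n ∧
        u ≫ v = (𝟙 A) ^ n ∧ v ≫ u = (𝟙 B) ^ n) ↔
      ∀ m : ℕ, 0 < m → Zeta.nPts A.hom m = Zeta.nPts B.hom m := by
  obtain ⟨g, hg⟩ := Groth.FibreDim.exists_dim_eq_nat A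
  obtain ⟨h, hh⟩ := Groth.FibreDim.exists_dim_eq_nat B
  obtain ⟨πA, _, hπAb, hπAle, hπAapp⟩ := exists_frobEnd A
  obtain ⟨πB, _, hπBb, hπBle, hπBapp⟩ := exists_frobEnd B
  obtain ⟨l, hlp, hl⟩ := exists_prime_ne_zero k
  have := Fact.mk hlp
  let Ω := AlgebraicClosure k
  have : IsAlgClosed Ω := IsAlgClosure.isAlgClosed k
  have := (free_finite_tateMod Ω A hl).1
  have := (free_finite_tateMod Ω A hl).2
  have := (free_finite_tateMod Ω B hl).1
  have := (free_finite_tateMod Ω B hl).2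
  obtain ⟨PA, hAm, -, hA, hAr, -⟩ := exists_degPoly_frob hπAle hπAapp hg
  obtain ⟨PB, hBm, -, hB, hBr, -⟩ := exists_degPoly_frob hπBle hπBapp hh
  have hcA : (tateMapₗ (l := l) (T := SGA7.pt (K := k) Ω) πA).charpoly = PA.map (Int.castRingHom ℤ_[l]) :=
    charpoly_tateMap Ω hl (EndAV.End.of πA) PA hA
  have hcB : (tateMapₗ (l := l) (T := SGA7.pt (K := k) Ω) πB).charpoly = PB.map (Int.castRingHom ℤ_[l]) :=
    charpoly_tateMap Ω hl (EndAV.End.of πB) PB hB
  rw [isogeny_iff_charpoly (Ω := Ω) (l := l) hKB hBF πA hπAb hπAle hπAapp πB hπBb hπBle hπBapp hl, hcA, hcB]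
  constructor
  · intro h m hm
    obtain rfl : PA = PB := Polynomial.map_injective (Int.castRingHom ℤ_[l]) Int.cast_injective h
    refine Nat.cast_injective (R := ℂ) ?_
    rw [nPts_eq_prod_one_sub_pow hπAb hπAle hπAapp hA hm.ne' (L := ℂ),
      nPts_eq_prod_one_sub_pow hπBb hπBle hπBapp hB hm.ne' (L := ℂ)]
  · intro h
    refine congrArg (Polynomial.map _) ?_
    have hq : (1 : ℝ) < (Nat.card k : ℝ) := by exact_mod_cast (Finite.one_lt_card : 1 < Nat.card k)
    have hs : (PA.map (Int.castRingHom ℂ)).roots = (PB.map (Int.castRingHom ℂ)).roots :=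
      multiset_eq_of_prod_one_sub_pow hq hAr hBr fun m hm => by
        rw [← nPts_eq_prod_one_sub_pow hπAb hπAle hπAapp hA hm.ne' (L := ℂ),
          ← nPts_eq_prod_one_sub_pow hπBb hπBle hπBapp hB hm.ne' (L := ℂ), h m hm]
    refine Polynomial.map_injective (Int.castRingHom ℂ) Int.cast_injective ?_
    rw [(IsAlgClosed.splits (PA.map (Int.castRingHom ℂ))).eq_prod_roots_of_monic (hAm.map _),
      (IsAlgClosed.splits (PB.map (Int.castRingHom ℂ))).eq_prod_roots_of_monic (hBm.map _), hs]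

include hKB hBF in
/-- Point counts over finite extension fields. -/
theorem isogeny_iff_card_points :
    (∃ (u : A ⟶ B) (_ : IsMonHom u) (v : B ⟶ A) (_ : IsMonHom v) (n : ℕ), 0 < n ∧
        u ≫ v = (𝟙 A) ^ n ∧ v ≫ u = (𝟙 B) ^ n) ↔
      ∀ (k' : Type u) [Field k'] [Algebra k k'] [Finite k'],
        Nat.card (Over.mk (Spec.map (CommRingCat.ofHom (algebraMap k k'))) ⟶ A) =
          Nat.card (Over.mk (Spec.map (CommRingCat.ofHom (algebraMap k k'))) ⟶ B) := by
  rw [isogeny_iff_nPts hKB hBF]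
  constructor
  · intro h k' _ _ _
    have : Module.Finite k k' := Module.Finite.of_finite
    rw [natCard_points_eq, natCard_points_eq, h _ Module.finrank_pos]
  · intro h m hm
    obtain ⟨k', _, _, _, hk'⟩ := Groth.ZetaAn.exists_ext_of_degree k hm.ne'
    have := h k'
    rwa [natCard_points_eq, natCard_points_eq, hk'] at this

include hKB hBF in
/-- Zeta functions. -/
theorem isogeny_iff_zetaFun :
    (∃ (u : A ⟶ B) (_ : IsMonHom u) (v : B ⟶ A) (_ : IsMonHom v) (n : ℕ), 0 < n ∧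
        u ≫ v = (𝟙 A) ^ n ∧ v ≫ u = (𝟙 B) ^ n) ↔
      Zeta.zetaFun A.hom = Zeta.zetaFun B.hom := by
  rw [isogeny_iff_nPts hKB hBF]
  refine ⟨fun h => Groth.ZetaAn.zetaFun_congr fun m hm => h m hm, fun h m hm => ?_⟩
  obtain ⟨hA, hcA⟩ := Groth.ZetaAn.hasLog_zetaFun A.hom
  obtain ⟨hB, -⟩ := Groth.ZetaAn.hasLog_zetaFun B.hom
  rw [h] at hA hcA
  have h2 := congrArg (PowerSeries.coeff m) (Groth.FunFld1.HasLog.unique (fun h0 => by simp [h0] at hcA) hA hB)
  simp only [PowerSeries.coeff_mk, hm.ne', if_false] at h2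
  exact_mod_cast h2

end Groth.AbVarTate
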