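import Groth.Agent.AbVarMul.Isogeny
import Groth.Agent.Abvar.Cube.Theta
import Groth.Agent.AbVarMul.Ample
import Groth.Agent.AbVarMul.Degree

/-!
# The cross term of a class as a bilinear form on points
-/

set_option autoImplicit false
universe u

set_option linter.unusedSectionVars false

open CategoryTheory MonoidalCategory CartesianMonoidalCategory MonObj GrpObj AlgebraicGeometry

namespace Groth.AbVarTate

open Groth.Abvar Groth.Abvar.PicCalc

variable {k : Type u} [Field k] {X : Over (Spec (CommRingCat.of k))} [GrpObj X] [IsCommMonObj X]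
  [IsProper X.hom] [GeometricallyIntegral X.hom] {T : Over (Spec (CommRingCat.of k))}

/-- The cross term `c(u + v) - c(u) - c(v)`. -/
noncomputable def cross (c : PicLoc.PicSet X.left) (u v : T ⟶ X) : PicLoc.PicSet T.left :=
  opull (u * v) c / (opull u c * opull v c)

variable (c : PicLoc.PicSet X.left)

theorem cross_mul_right (u v w : T ⟶ X) : cross c u (v * w) = cross c u v * cross c u w := by
  have h := Cube.opull_cube c u v w
  simp only [cross]
  rw [div_mul_div_comm, div_eq_div_iff_mul_eq_mul, ← _root_.mul_assoc u]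
  calc opull (u * v * w) c * (opull u c * opull v c * (opull u c * opull w c))
      = (opull (u * v * w) c * opull u c * opull v c * opull w c) * opull u c := by ac_rfl
    _ = opull (u * v) c * opull (u * w) c * (opull u c * opull (v * w) c) := by rw [h]; ac_rfl

theorem cross_comm (u v : T ⟶ X) : cross c u v = cross c v u := by
  simp only [cross]; rw [_root_.mul_comm u v, _root_.mul_comm (opull u c)]

theorem cross_mul_left (u v w : T ⟶ X) : cross c (u * v) w = cross c u w * cross c v w := by
  rw [cross_comm c, cross_mul_right, cross_comm c w u, cross_comm c w v]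

/-- The cross term as a homomorphism in the second variable. -/
noncomputable def crossR (u : T ⟶ X) : (T ⟶ X) →* PicLoc.PicSet T.left :=
  MonoidHom.mk' (cross c u) (cross_mul_right c u)

theorem cross_one_right (u : T ⟶ X) : cross c u 1 = 1 := map_one (crossR c u)

theorem cross_one_left (u : T ⟶ X) : cross c 1 u = 1 := by rw [cross_comm, cross_one_right]

theorem cross_zpow_right (u v : T ⟶ X) (n : ℤ) : cross c u (v ^ n) = cross c u v ^ n :=
  map_zpow (crossR c u) v n

theorem cross_zpow_left (u v : T ⟶ X) (n : ℤ) : cross c (u ^ n) v = cross c u v ^ n := by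
  rw [cross_comm, cross_zpow_right, cross_comm]

theorem cross_pow_right (u v : T ⟶ X) (n : ℕ) : cross c u (v ^ n) = cross c u v ^ n :=
  map_pow (crossR c u) v n

theorem cross_pow_left (u v : T ⟶ X) (n : ℕ) : cross c (u ^ n) v = cross c u v ^ n := by
  rw [cross_comm, cross_pow_right, cross_comm]

theorem cross_prod_right {J : Type*} (s : Finset J) (u : T ⟶ X) (v : J → (T ⟶ X)) :
    cross c u (∏ i ∈ s, v i) = ∏ i ∈ s, cross c u (v i) :=
  map_prod (crossR c u) v s

theorem cross_prod_left {J : Type*} (s : Finset J) (u : J → (T ⟶ X)) (v : T ⟶ X) :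
    cross c (∏ i ∈ s, u i) v = ∏ i ∈ s, cross c (u i) v := by
  rw [cross_comm, cross_prod_right]; exact Finset.prod_congr rfl fun i _ => cross_comm c _ _

theorem opull_cross {T' : Over (Spec (CommRingCat.of k))} (f : T' ⟶ T) (u v : T ⟶ X) :
    opull f (cross c u v) = cross c (f ≫ u) (f ≫ v) := by
  simp only [cross, map_div, map_mul, ← opull_comp, MonObj.comp_mul]

theorem cross_opull {Y : Over (Spec (CommRingCat.of k))} [GrpObj Y] (w : Y ⟶ X) [IsMonHom w]
    (u v : T ⟶ Y) : cross c (u ≫ w) (v ≫ w) =
      opull (u * v) (opull w c) / (opull u (opull w c) * opull v (opull w c)) := by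
  simp only [cross, ← opull_comp, MonObj.mul_comp]

theorem cross_mul_class (d : PicLoc.PicSet X.left) (u v : T ⟶ X) :
    cross (c * d) u v = cross c u v * cross d u v := by
  simp only [cross, map_mul]; rw [div_mul_div_comm]; congr 1; ac_rfl

variable {c}

/-- For a symmetric class the cross term on the diagonal is the square. -/
theorem cross_self (hc : opull (𝟙 X)⁻¹ c = c) (u : T ⟶ X) : cross c u u = opull u c ^ 2 := by
  have h2 : u * u = u ≫ (𝟙 X ^ (2 : ℤ) : X ⟶ X) := by
    rw [GrpObj.comp_zpow, Category.comp_id, zpow_two]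
  rw [cross, h2, opull_comp, Groth.AbVarMul.opull_zpow_symm _ hc, map_pow, div_eq_iff_eq_mul,
    show (2 : ℤ).natAbs ^ 2 = 4 from rfl, ← pow_two, ← pow_add]

end Groth.AbVarTate
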