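import Groth.Agent.AbVarTate.Cross
import Groth.Agent.PicAux.GalDescent
import Groth.Agent.PicAux.RigClasses
import Groth.Agent.GrpschAbsch.UnitalMul

/-!
# Descent of classes on products along covers of the second factor
-/

set_option autoImplicit false
set_option backward.isDefEq.respectTransparency false
set_option backward.isDefEq.respectTransparency.types false
set_option linter.unusedSectionVars false
universe u

open CategoryTheory Limits MonoidalCategory CartesianMonoidalCategory MonObj GrpObj AlgebraicGeometry

noncomputable section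

namespace Groth.AbVarTate

open Groth.Abvar.PicCalc Groth.PicAux.RigDescent Groth.PicCurve

variable {k : Type u} [Field k] (A : Over (Spec (CommRingCat.of k))) [GrpObj A]

/-- The unit section on the underlying schemes. -/
abbrev unitSec : (Spec (CommRingCat.of k)) ⟶ A.left := η[A].left

theorem unitSec_comp : unitSec A ≫ A.hom = 𝟙 (Spec (CommRingCat.of k)) := Over.w η[A]

theorem XTmap_eq {T T' : Over (Spec (CommRingCat.of k))} (g : T' ⟶ T) : PicF.XTmap A.hom g = (A ◁ g).left := by
  apply Limits.pullback.hom_ext
  · rw [PicCurve.XTmap_fst]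
    exact (congrArg (fun h => h.left) (whiskerLeft_fst A g)).symm
  · exact (XTmap_snd A.hom g).trans (congrArg (fun h => h.left) (whiskerLeft_snd A g)).symm

theorem secT_eq (T : Over (Spec (CommRingCat.of k))) :
    PicF.secT A.hom (unitSec A) (unitSec_comp A) T = (lift (1 : T ⟶ A) (𝟙 T)).left := by
  apply Limits.pullback.hom_ext
  · refine (pullback.lift_fst _ _ _).trans
      (Eq.trans ?_ (congrArg (fun h => h.left) (lift_fst (1 : T ⟶ A) (𝟙 T))).symm)
    have e : (1 : T ⟶ A) = toUnit T ≫ η[A] := by rw [MonObj.one_eq_one, MonObj.comp_one]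
    rw [e, Over.comp_left, Over.toUnit_left]
  · exact (pullback.lift_snd _ _ _).trans (congrArg (fun h => h.left) (lift_snd (1 : T ⟶ A) (𝟙 T))).symm

/-- A class on `A ⊗ T` trivial along the unit, as a rigidified class. -/
def toRig {T : Over (Spec (CommRingCat.of k))} (c : PicLoc.PicSet (A ⊗ T).left) (h : opull (lift (1 : T ⟶ A) (𝟙 T)) c = 1) :
    RS A.hom (unitSec A) (unitSec_comp A) T :=
  ⟨c, (congrArg (fun m => pull m c) (secT_eq A T)).trans h⟩

theorem constFun [IsProper A.hom] [GeometricallyIntegral A.hom] : ConstFun A.hom := by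
  have : CompactSpace A.left := QuasiCompact.compactSpace_of_compactSpace A.hom
  have : QuasiSeparatedSpace A.left := quasiSeparatedSpace_of_quasiSeparated A.hom
  have := Groth.GrpschAbsch.UnitalMul.geometricallyConnected_of_geometricallyIrreducible A.hom
  refine Groth.PicAux.GalDescent.constFun_of_field ?_
  have := Groth.GrpschAbsch.H0General.app_bijective A.hom (⊤ : (Spec (CommRingCat.of k)).Opens)
  exact (ConcreteCategory.isIso_iff_bijective _).2 this

variable {A} [IsProper A.hom] [GeometricallyIntegral A.hom]

/-- A class trivial along the unit and after a flat cover of the second factor is trivial. -/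
theorem eq_one_of_cover {B B' : Over (Spec (CommRingCat.of k))} (v : B' ⟶ B)
    [Flat v.left] [QuasiCompact v.left] [Surjective v.left] {c : PicLoc.PicSet (A ⊗ B).left}
    (h1 : opull (lift (1 : B ⟶ A) (𝟙 B)) c = 1) (hv : opull (A ◁ v) c = 1) : c = 1 :=
  congrArg Subtype.val (map_injective (f := A.hom) v (PicAux.GalDescent.mem_fpqc_XTmap v)
    (constFun A _ ⊤) (a₁ := toRig A c h1) (a₂ := toRig A 1 (map_one _))
    (Subtype.ext ((congrArg (fun m => pull m c) (XTmap_eq A v)).trans (hv.trans (map_one _).symm))))

/-- A class descends along a flat cover of the second factor. -/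
theorem exists_descend {B B' : Over (Spec (CommRingCat.of k))} (v : B' ⟶ B)
    [Flat v.left] [QuasiCompact v.left] [Surjective v.left] {c' : PicLoc.PicSet (A ⊗ B').left}
    (h1 : opull (lift (1 : B' ⟶ A) (𝟙 B')) c' = 1)
    (hglue : ∀ (W : Over (Spec (CommRingCat.of k))) (b b' : W ⟶ B'), b ≫ v = b' ≫ v →
      opull (A ◁ b) c' = opull (A ◁ b') c') :
    ∃ c : PicLoc.PicSet (A ⊗ B).left,
      opull (lift (1 : B ⟶ A) (𝟙 B)) c = 1 ∧ opull (A ◁ v) c = c' := by
  obtain ⟨c, hc⟩ := exists_map_eq (f := A.hom) v (PicAux.GalDescent.mem_fpqc_XTmap v)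
    (constFun A _ ⊤) (constFun A _ ⊤) (toRig A c' h1) (Subtype.ext (by
      refine (congrArg (fun m => pull m c') (XTmap_eq A _)).trans
        ((hglue _ _ _ (pr_condition v)).trans (congrArg (fun m => pull m c') (XTmap_eq A _)).symm)))
  exact ⟨c.1, (congrArg (fun m => pull m c.1) (secT_eq A B)).symm.trans c.2,
    (congrArg (fun m => pull m c.1) (XTmap_eq A v)).symm.trans (congrArg Subtype.val hc)⟩

end Groth.AbVarTate
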