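import Groth.Agent.AbVarTate.LinAlg

/-!
# Common factors and a base change of fields
-/

set_option autoImplicit false

open Polynomial
open UniqueFactorizationMonoid (normalizedFactors)
open scoped Classical

noncomputable section

namespace Groth.AbVarTate

variable {F : Type*} [Field F] (K : Type*) [Field K] [Algebra F K] [IsAlgClosed K]

/-- Equal roots are counted by common irreducible factors. -/
theorem pairCount_aroots_of_separable {P Q : F[X]} (hP : P.Monic) (hQ : Q.Monic)
    (hPs : ∀ p ∈ normalizedFactors P, p.Separable) :
    pairCount (P.map (algebraMap F K)).roots (Q.map (algebraMap F K)).roots =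
      ∑ p ∈ (normalizedFactors P).toFinset,
        (normalizedFactors P).count p * (normalizedFactors Q).count p * p.natDegree := by
  classical
  have hfac : ∀ {R : F[X]}, R.Monic →
      (R.map (algebraMap F K)).roots =
        (normalizedFactors R).bind fun p => (p.map (algebraMap F K)).roots := by
    intro R hR
    have hprod : (normalizedFactors R).prod = R := by
      rw [UniqueFactorizationMonoid.prod_normalizedFactors_eq hR.ne_zero, hR.normalize_eq_self]
    conv_lhs => rw [← hprod, Polynomial.map_multiset_prod]
    rw [roots_multiset_prod, Multiset.bind_map]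
    intro h0
    obtain ⟨p, hp, hp0⟩ := Multiset.mem_map.1 h0
    exact (UniqueFactorizationMonoid.irreducible_of_normalized_factor p hp).ne_zero
      ((Polynomial.map_eq_zero _).1 hp0)
  have hirr : ∀ {R : F[X]} {p : F[X]}, p ∈ normalizedFactors R → R ≠ 0 → Irreducible p ∧ p.Monic :=
    fun {R p} hp hR0 => ⟨UniqueFactorizationMonoid.irreducible_of_normalized_factor p hp,
      (Polynomial.mem_normalizedFactors_iff hR0).1 hp |>.2.1⟩
  have hnd : ∀ {p : F[X]}, p ∈ normalizedFactors P → (p.map (algebraMap F K)).roots.Nodup := fun {p} hp =>
    nodup_roots (Polynomial.Separable.map (hPs p hp))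
  have hcount : ∀ {p : F[X]}, p ∈ normalizedFactors P → ∀ a ∈ (p.map (algebraMap F K)).roots,
      (Q.map (algebraMap F K)).roots.count a = (normalizedFactors Q).count p := by
    intro p hp a ha
    obtain ⟨hpi, hpm⟩ := hirr hp hP.ne_zero
    have hmin : ∀ {q : F[X]}, Irreducible q → q.Monic → a ∈ (q.map (algebraMap F K)).roots →
        q = minpoly F a := fun {q} hqi hqm hq => by
      have h0 := (mem_roots'.1 hq).2
      rw [IsRoot.def, eval_map, ← aeval_def] at h0
      exact minpoly.eq_of_irreducible_of_monic hqi h0 hqm
    rw [hfac hQ, Multiset.count_bind]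
    have : ∀ q ∈ normalizedFactors Q,
        (q.map (algebraMap F K)).roots.count a = if p = q then 1 else 0 := by
      intro q hq
      obtain ⟨hqi, hqm⟩ := hirr hq hQ.ne_zero
      split_ifs with hpq
      · exact Multiset.count_eq_one_of_mem (hnd (hpq ▸ hp)) (hpq ▸ ha)
      · exact Multiset.count_eq_zero.2 fun hmem =>
          hpq ((hmin hpi hpm ha).trans (hmin hqi hqm hmem).symm)
    rw [Multiset.map_congr rfl this]
    induction normalizedFactors Q using Multiset.induction_on with
    | empty => simp
    | cons q t ih => rw [Multiset.map_cons, Multiset.sum_cons, ih, Multiset.count_cons, add_comm]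
  rw [pairCount, hfac hP, Multiset.map_bind, Multiset.sum_bind,
    Finset.sum_multiset_map_count]
  refine Finset.sum_congr rfl fun p hp => ?_
  obtain ⟨hpi, hpm⟩ := hirr (Multiset.mem_toFinset.1 hp) hP.ne_zero
  rw [smul_eq_mul, Multiset.map_congr rfl (hcount (Multiset.mem_toFinset.1 hp)), Multiset.map_const',
    Multiset.sum_replicate, smul_eq_mul, IsAlgClosed.card_roots_eq_natDegree, natDegree_map]
  ring


end Groth.AbVarTate
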