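import Groth.Agent.AbVarMul.FrobEndo
import Groth.Agent.AbVarMul.GaloisQuot
import Groth.Agent.AbVarMul.TateCommutant
import Mathlib.FieldTheory.Finite.Basic
import Mathlib.FieldTheory.Finite.GaloisField

/-!
# The Galois action on geometric points over a finite field is given by Frobenius
-/

set_option autoImplicit false
universe u

open CategoryTheory Limits MonoidalCategory CartesianMonoidalCategory MonObj GrpObj AlgebraicGeometry
open AbDual

noncomputable section

namespace Groth.AbVarTate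

open Groth.AbVarMul

variable {k : Type u} [Field k] {Ω : Type u} [Field Ω] [Algebra k Ω]
  {A : Over (Spec (CommRingCat.of k))}

/-- An absolute Frobenius endomorphism acts on points as an automorphism raising coordinates to
the same power. -/
theorem galAct_eq_comp (G : A ⟶ A) (hGb : G.left.base = 𝟙 _)
    (hle : ∀ U : A.left.Opens, U ≤ G.left ⁻¹ᵁ U) {Q : ℕ}
    (hGapp : ∀ (U : A.left.Opens) (s : Γ(A.left, U)), (G.left.appLE U U (hle U)).hom s = s ^ Q)
    (τ : Ω ≃ₐ[k] Ω) (x : SGA7.pt (K := k) Ω ⟶ A)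
    (hτ : ∀ b, τ ((Scheme.SpecToEquivOfField Ω A.left x.left).2.hom b) =
      (Scheme.SpecToEquivOfField Ω A.left x.left).2.hom b ^ Q) :
    SGA7.galAct τ x = x ≫ G := by
  refine Over.OverMorphism.ext ?_
  set p := Scheme.SpecToEquivOfField Ω A.left x.left with hp
  have hx : x.left = Spec.map p.2 ≫ A.left.fromSpecResidueField p.1 :=
    ((Scheme.SpecToEquivOfField Ω A.left).symm_apply_apply x.left).symm
  show Spec.map (CommRingCat.ofHom (τ : Ω →+* Ω)) ≫ x.left = x.left ≫ G.left
  rw [hx, ← Category.assoc, ← Spec.map_comp, Category.assoc,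
    ← Scheme.Hom.SpecMap_residueFieldMap_fromSpecResidueField, ← Category.assoc, ← Spec.map_comp]
  have ha : p.1 = G.left p.1 := (congrArg (fun g : A.left.carrier ⟶ A.left.carrier => g p.1) hGb).symm
  refine (Scheme.SpecToEquivOfField Ω A.left).symm.injective.eq_iff
    (a := ⟨p.1, p.2 ≫ CommRingCat.ofHom (τ : Ω →+* Ω)⟩)
    (b := ⟨G.left p.1, G.left.residueFieldMap p.1 ≫ p.2⟩) |>.2 ?_
  rw [Scheme.SpecToEquivOfField_eq_iff]
  refine ⟨ha, CommRingCat.hom_ext (RingHom.ext fun b => ?_)⟩
  show τ (p.2.hom b) =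
    p.2.hom (G.left.residueFieldMap p.1 ((A.left.residueFieldCongr ha).hom b))
  rw [Misc10.FrobPts.residueFieldMap_absFrob G.left hle hGapp p.1 ha b, map_pow, hτ b]

variable [Finite k] [GrpObj A] [IsCommMonObj A] [IsProper A.hom] (πA : A ⟶ A) [IsMonHom πA]
  (hπb : πA.left.base = 𝟙 _) (hπle : ∀ U : A.left.Opens, U ≤ πA.left ⁻¹ᵁ U)
  (hπapp : ∀ (U : A.left.Opens) (s : Γ(A.left, U)), (πA.left.appLE U U (hπle U)).hom s = s ^ Nat.card k)

omit [GrpObj A] [IsCommMonObj A] in
variable (Ω) in
/-- The coordinates of a geometric point form a finite field. -/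
theorem finite_range_coord [IsAlgClosure k Ω] (x : SGA7.pt (K := k) Ω ⟶ A) :
    (Set.range (Scheme.SpecToEquivOfField Ω A.left x.left).2.hom).Finite := by
  have hx := (Scheme.SpecToEquivOfField Ω A.left).symm_apply_apply x.left
  have hcl : IsClosed ({(Scheme.SpecToEquivOfField Ω A.left x.left).1} : Set A.left) :=
    ((Groth.Agent.S10828.result k Ω A.hom).1 _).2 ⟨x.left, Over.w x, rfl⟩
  have := Misc10.FrobPts.finite_residueField_of_isClosed A.hom hcl
  exact Set.finite_range _

omit [GrpObj A] [IsCommMonObj A] [IsProper A.hom] in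
/-- An automorphism agrees with a power of Frobenius on a finite set. -/
theorem exists_pow_agree [IsAlgClosure k Ω] (τ : Ω ≃ₐ[k] Ω) (S : Set Ω) (hS : S.Finite) :
    ∃ m : ℕ, ∀ z ∈ S, τ z = z ^ Nat.card k ^ m := by
  have hAlg : Algebra.IsAlgebraic k Ω := IsAlgClosure.isAlgebraic
  let _ := Fintype.ofFinite k
  let F : IntermediateField k Ω := IntermediateField.adjoin k S
  have : Finite S := hS.to_subtype
  have : FiniteDimensional k F :=
    IntermediateField.finiteDimensional_adjoin fun z _ => (hAlg.isAlgebraic z).isIntegral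
  have : Finite F := Module.finite_of_finite k
  obtain ⟨m, hm⟩ := (FiniteField.bijective_frobeniusAlgEquivOfAlgebraic_pow k F).2 (τ.restrictNormal F)
  refine ⟨m.1, fun z hz => ?_⟩
  have h1 := AlgEquiv.restrictNormal_commutes τ F ⟨z, IntermediateField.subset_adjoin k S hz⟩
  rw [← hm] at h1
  refine h1.symm.trans ?_
  show (((FiniteField.frobeniusAlgEquivOfAlgebraic k F ^ m.1)
    ⟨z, IntermediateField.subset_adjoin k S hz⟩ : F) : Ω) = _
  rw [AlgEquiv.coe_pow, FiniteField.coe_frobeniusAlgEquivOfAlgebraic_iterate,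
    Nat.card_eq_fintype_card]
  rfl

variable {B : Over (Spec (CommRingCat.of k))} [GrpObj B] [IsCommMonObj B] [IsProper B.hom]
  (πB : B ⟶ B) [IsMonHom πB] (hρb : πB.left.base = 𝟙 _)
  (hρle : ∀ U : B.left.Opens, U ≤ πB.left ⁻¹ᵁ U)
  (hρapp : ∀ (U : B.left.Opens) (s : Γ(B.left, U)), (πB.left.appLE U U (hρle U)).hom s = s ^ Nat.card k)

variable [IsAlgClosure k Ω]

include hπb hπapp hρb hρapp in
/-- The Galois action on a pair of points is a common power of Frobenius. -/
theorem exists_galAct_eq_pow (τ : Ω ≃ₐ[k] Ω) (x : SGA7.pt (K := k) Ω ⟶ A)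
    (y : SGA7.pt (K := k) Ω ⟶ B) :
    ∃ m : ℕ, SGA7.galAct τ x = x ≫ ((EndAV.End.of πA : EndAV.End A) ^ m).toHom ∧
      SGA7.galAct τ y = y ≫ ((EndAV.End.of πB : EndAV.End B) ^ m).toHom := by
  obtain ⟨m, hm⟩ := exists_pow_agree τ _
    ((finite_range_coord Ω x).union (finite_range_coord Ω y))
  obtain ⟨hb, hle, happ⟩ := exists_pow_frob hπb hπle hπapp m
  obtain ⟨hb', hle', happ'⟩ := exists_pow_frob hρb hρle hρapp m
  exact ⟨m, galAct_eq_comp _ hb hle happ τ x fun b => hm _ (Or.inl ⟨b, rfl⟩),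
    galAct_eq_comp _ hb' hle' happ' τ y fun b => hm _ (Or.inr ⟨b, rfl⟩)⟩

include hπb hπapp hρb hρapp in
/-- Commuting with Frobenius means commuting with Galois, on Tate modules. -/
theorem commute_galois_iff {l : ℕ} [Fact l.Prime]
    (w : TateMod A l (SGA7.pt (K := k) Ω) →ₗ[ℤ_[l]] TateMod B l (SGA7.pt (K := k) Ω)) :
    (∀ τ : Ω ≃ₐ[k] Ω, w ∘ₗ tateGal A l τ = tateGal B l τ ∘ₗ w) ↔
      w ∘ₗ tateMapₗ (l := l) (T := SGA7.pt (K := k) Ω) πA =
        tateMapₗ (l := l) (T := SGA7.pt (K := k) Ω) πB ∘ₗ w := by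
  have hAlg : Algebra.IsAlgebraic k Ω := IsAlgClosure.isAlgebraic
  let _ := Fintype.ofFinite k
  constructor
  · intro h
    let τ := FiniteField.frobeniusAlgEquivOfAlgebraic k Ω
    have hτ : ∀ b : Ω, τ b = b ^ Nat.card k := fun b => by
      rw [FiniteField.coe_frobeniusAlgEquivOfAlgebraic, Nat.card_eq_fintype_card]
    have hA : tateGal A l τ = tateMapₗ (l := l) (T := SGA7.pt (K := k) Ω) πA :=
      LinearMap.ext fun z => TateMod.ext fun n => congrArg Additive.ofMul
        (galAct_eq_comp πA hπb hπle hπapp τ _ fun b => hτ _)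
    have hB : tateGal B l τ = tateMapₗ (l := l) (T := SGA7.pt (K := k) Ω) πB :=
      LinearMap.ext fun z => TateMod.ext fun n => congrArg Additive.ofMul
        (galAct_eq_comp πB hρb hρle hρapp τ _ fun b => hτ _)
    rw [← hA, ← hB]; exact h τ
  · intro h τ
    refine LinearMap.ext fun z => TateMod.ext fun n => ?_
    obtain ⟨m, hmA, hmB⟩ := exists_galAct_eq_pow πA hπb hπle hπapp πB hρb hρle hρapp τ
      (TateMod.component A l (SGA7.pt Ω) n z).toMul (TateMod.component B l (SGA7.pt Ω) n (w z)).toMul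
    let GA := EndAV.End.tateRep (A := A) l (SGA7.pt (K := k) Ω) (EndAV.End.of πA)
    let GB := EndAV.End.tateRep (A := B) l (SGA7.pt (K := k) Ω) (EndAV.End.of πB)
    have hpow : ∀ (j : ℕ) (y : _), w ((GA ^ j) y) = (GB ^ j) (w y) := by
      intro j
      induction j with
      | zero => exact fun y => rfl
      | succ j ih =>
        intro y
        rw [pow_succ, pow_succ, Module.End.mul_apply, Module.End.mul_apply, ih]
        exact congrArg _ (LinearMap.congr_fun h y)
    have hA : TateMod.component A l (SGA7.pt Ω) n (tateGal A l τ z) =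
        TateMod.component A l (SGA7.pt Ω) n ((GA ^ m) z) := by
      rw [← map_pow]
      exact congrArg Additive.ofMul hmA
    obtain ⟨d, hd⟩ := exists_eq_pow_smul (X := A) (tateGal A l τ z - (GA ^ m) z) n (by
      rw [map_sub, hA, sub_self])
    have hd' : TateMod.component B l (SGA7.pt Ω) n (w (tateGal A l τ z)) =
        TateMod.component B l (SGA7.pt Ω) n (w ((GA ^ m) z)) := by
      rw [← sub_eq_zero, ← map_sub, ← map_sub, hd, map_smul]
      show ((((l : ℤ_[l]) ^ n • w d : TateMod B l (SGA7.pt (K := k) Ω)) :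
        ℕ → Additive (SGA7.pt (K := k) Ω ⟶ B)) n) = 0
      rw [← Nat.cast_pow, component_natCast_smul]
      exact (w d).torsion n
    show TateMod.component B l (SGA7.pt Ω) n (w (tateGal A l τ z)) = _
    rw [hd', hpow, ← map_pow]
    exact congrArg Additive.ofMul hmB.symm

end Groth.AbVarTate
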