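import Groth.Agent.AbVarTate.Perp
import Groth.Agent.Limits.AmpleFinite.Main
import Groth.Agent.S7859
import Groth.Agent.Ega2Proj.AmpleBasic

/-!
# Ample modules of small Euler characteristic on isotropic quotients
-/

set_option autoImplicit false
set_option linter.unusedSectionVars false
set_option backward.isDefEq.respectTransparency.types false
universe u

open CategoryTheory Limits MonoidalCategory CartesianMonoidalCategory MonObj GrpObj AlgebraicGeometry

noncomputable section

namespace Groth.AbVarTate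

open Groth.Abvar.PicCalc Groth.AbVarMul

variable {k : Type u} [Field k] {Ω : Type u} [Field Ω] [Algebra k Ω] [IsAlgClosure k Ω]
  {X Y : Over (Spec (CommRingCat.of k))}
  [GrpObj X] [IsCommMonObj X] [IsProper X.hom] [GeometricallyIntegral X.hom]
  [GrpObj Y] [IsCommMonObj Y] [IsProper Y.hom] [GeometricallyIntegral Y.hom]

/-- The degree of an étale isogeny is the number of points in its kernel. -/
theorem finrank_eq_natCard_ker (u : X ⟶ Y) [IsMonHom u] (v : Y ⟶ X) [IsMonHom v] {N : ℕ}
    (hN : (N : k) ≠ 0) (huv : u ≫ v = (𝟙 X : X ⟶ X) ^ N) (hvu : v ≫ u = (𝟙 Y : Y ⟶ Y) ^ N)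
    (y : Y.left) :
    u.left.finrank y = Nat.card {x : SGA7.pt (K := k) Ω ⟶ X // x ≫ u = 1} := by
  have : IsAlgClosed Ω := IsAlgClosure.isAlgClosed k
  obtain ⟨hf, hs, he⟩ := etale_of_mul_eq_pow u v hN huv hvu
  let : GrpObj ((bcF Ω).obj X) := Functor.grpObjObj
  let : GrpObj ((bcF Ω).obj Y) := Functor.grpObjObj
  have := isProper_bcF Ω X
  have := isProper_bcF Ω Y
  have := geometricallyIntegral_bcF Ω X
  have := geometricallyIntegral_bcF Ω Y
  have := Groth.Abvar.isIntegral_left ((bcF Ω).obj Y)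
  let q := (bcF Ω).map u
  have : IsMonHom q := inferInstanceAs (IsMonHom ((bcF Ω).map u))
  have sq := Groth.GrpschAbsch.FibreFlat.isPullback_map
    (Spec.map (CommRingCat.ofHom (algebraMap k Ω))) u
  have : IsFinite q.left := MorphismProperty.of_isPullback (P := @IsFinite) sq hf
  have : Etale q.left := MorphismProperty.of_isPullback (P := @Etale) sq he
  have : Surjective q.left := MorphismProperty.of_isPullback (P := @Surjective) sq hs
  have hdim : topologicalKrullDim ((bcF Ω).obj X).left = topologicalKrullDim ((bcF Ω).obj Y).left :=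
    topologicalKrullDim_eq_of_finite_surjective q.left
  have hcard : Nat.card {x : SGA7.pt (K := k) Ω ⟶ X // x ≫ u = 1} = homDeg q := by
    rw [← natCard_ker_eq_homDeg q hdim]
    exact Nat.card_congr ((bcPoints Ω X).toEquiv.subtypeEquiv fun x => by
      show x ≫ u = 1 ↔ bcPoints Ω X x ≫ q = 1
      rw [← bcPoints_comp, map_eq_one_iff _ (bcPoints Ω Y).injective])
  have : Surjective (pullback.fst Y.hom (Spec.map (CommRingCat.ofHom (algebraMap k Ω)))) :=
    MorphismProperty.pullback_fst _ _ inferInstance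
  obtain ⟨y', rfl⟩ := (pullback.fst Y.hom (Spec.map (CommRingCat.ofHom (algebraMap k Ω)))).surjective y
  have := Groth.Abvar.isIntegral_left Y
  have := Groth.Abvar.Hom.flat_of_surjective u
  rw [hcard, ← finrank_eq_homDeg q hdim y']
  exact (Scheme.Hom.finrank_of_isPullback _ _ _ _ sq y').symm

/-- **The ample module on an isotropic quotient.** -/
theorem exists_ample_on_quotient {L : X.left.Modules} (hL : CohB1.IsAmple L)
    (hc : opull (𝟙 X)⁻¹ (cls hL.1) = cls hL.1) (u : X ⟶ Y) [IsMonHom u] (v : Y ⟶ X) [IsMonHom v]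
    {N : ℕ} (hN : (N : k) ≠ 0) (huv : u ≫ v = (𝟙 X : X ⟶ X) ^ N) (hvu : v ≫ u = (𝟙 Y : Y ⟶ Y) ^ N)
    (h : ∀ z : SGA7.pt (K := k) Ω ⟶ Y, z ^ N = 1 → Orth Ω (cls hL.1) v (z ≫ v)) :
    ∃ M : Y.left.Modules, CohB1.IsAmple M ∧ ∀ s : ℕ, 1 ≤ s →
      (Nat.card {x : SGA7.pt (K := k) Ω ⟶ X // x ≫ u = 1} : ℤ) *
          @Curv2.euler k _ Y.left ⟨Y.hom⟩ (CohB1.tensorPow M s) =
        @Curv2.euler k _ X.left ⟨X.hom⟩ (CohB1.tensorPow L (2 * N * s)) := by
  obtain ⟨m, hm⟩ := exists_root (cls hL.1) hc u v hN huv h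
  obtain ⟨M, hM, rfl⟩ := PicGrp.exists_eq_cls m
  obtain ⟨hf, hs, -⟩ := etale_of_mul_eq_pow u v hN huv hvu
  have hN0 : 0 < N := Nat.pos_of_ne_zero fun e => hN (by rw [e, Nat.cast_zero])
  have : CompactSpace X.left := QuasiCompact.compactSpace_of_compactSpace X.hom
  have hpow : ∀ s : ℕ, Nonempty ((Scheme.Modules.pullback u.left).obj (CohB1.tensorPow M s) ≅
      CohB1.tensorPow L (2 * N * s)) := fun s => by
    rw [nonempty_iso_iff (PicLoc.isInvertible_pullback _ (isInvertible_tensorPow hM s))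
      (isInvertible_tensorPow hL.1 _), ← pull_cls u.left (isInvertible_tensorPow hM s), cls_tensorPow, cls_tensorPow, map_pow]
    show opull u (cls hM) ^ s = _
    rw [hm, ← pow_mul]
  have hA : CohB1.IsAmple M := by
    refine Groth.Limits.AmpleFinite.isAmple_of_pullback Y.hom u.left hM ?_
    have h1 : CohB1.IsAmple (CohB1.tensorPow L (2 * N)) :=
      (Groth.Ega2Proj.isAmple_tensorPow_iff hL.1 (2 * N) (by omega)).1 hL
    have h2 : Nonempty (CohB1.tensorPow L (2 * N) ≅ (Scheme.Modules.pullback u.left).obj M) := by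
      rw [nonempty_iso_iff (isInvertible_tensorPow hL.1 _) (PicLoc.isInvertible_pullback _ hM),
        cls_tensorPow, ← pull_cls]
      exact hm.symm
    exact Groth.Chow.isAmple_of_iso h2.some h1
  refine ⟨M, hA, fun s _ => ?_⟩
  have := Groth.Abvar.isIntegral_left Y
  have := Groth.Abvar.Hom.flat_of_surjective u
  have hcoh : Coh.IsCoh (CohB1.tensorPow M s) :=
    Groth.VarietyBC.CurveGG.isCoh_of_isInvertible (isInvertible_tensorPow hM s)
  obtain ⟨e⟩ := hpow s
  rw [← Groth.Agent.S7859.result k X Y u _ (finrank_eq_natCard_ker u v hN huv hvu) _ hcoh]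
  exact @Groth.EulerDeg.euler_congr k _ X.left ⟨X.hom⟩ _ _ e

end Groth.AbVarTate
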