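import Groth.Agent.AbVarTate.Square
import Groth.Agent.AbVarTate.Isotropic
import Groth.Agent.AbVarMul.GaloisQuot
import Groth.Agent.FibreDim.GroupScheme

/-!
# The isotropic graph and its quotient
-/

set_option autoImplicit false
set_option linter.unusedSectionVars false
set_option backward.isDefEq.respectTransparency.types false
universe u

open CategoryTheory Limits MonoidalCategory CartesianMonoidalCategory MonObj GrpObj AlgebraicGeometry

noncomputable section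

namespace Groth.AbVarTate

open Groth.Abvar.PicCalc Groth.AbVarMul

variable {k : Type u} [Field k] {Ω : Type u} [Field Ω] [Algebra k Ω] [IsAlgClosure k Ω]
  {B : Over (Spec (CommRingCat.of k))} [GrpObj B] [IsCommMonObj B] [IsProper B.hom]
  [GeometricallyIntegral B.hom]

variable {Y : Over (Spec (CommRingCat.of k))} [GrpObj Y] [IsCommMonObj Y] [IsProper Y.hom]
  [GeometricallyIntegral Y.hom]

/-- The image of the torsion of a quotient is the kernel. -/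
theorem mem_ker_iff_exists_tors (q : B ⟶ Y) [IsMonHom q] (v : Y ⟶ B) [IsMonHom v] {N : ℕ}
    (hN : N ≠ 0) (hqv : q ≫ v = (𝟙 B : B ⟶ B) ^ N) (hvq : v ≫ q = (𝟙 Y : Y ⟶ Y) ^ N)
    (x : SGA7.pt (K := k) Ω ⟶ B) :
    x ≫ q = 1 ↔ ∃ z : SGA7.pt (K := k) Ω ⟶ Y, z ^ N = 1 ∧ z ≫ v = x := by
  have : IsAlgClosed Ω := IsAlgClosure.isAlgClosed k
  constructor
  · intro h
    obtain ⟨b, hb⟩ := exists_pow_eq_bc (A := B) Ω hN x
    refine ⟨b ≫ q, ?_, ?_⟩
    · rw [← MonObj.pow_comp, hb, h]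
    · rw [Category.assoc, hqv, MonObj.comp_pow, Category.comp_id, hb]
  · rintro ⟨z, hz, rfl⟩
    rw [Category.assoc, hvq, MonObj.comp_pow, Category.comp_id, hz]

/-- Torsion points of a product. -/
def torsProd (m : ℕ) : {z : SGA7.pt (K := k) Ω ⟶ B ⊗ B // z ^ m = 1} ≃
    {z : SGA7.pt (K := k) Ω ⟶ B // z ^ m = 1} × {z : SGA7.pt (K := k) Ω ⟶ B // z ^ m = 1} where
  toFun z := (⟨z.1 ≫ fst B B, by rw [← MonObj.pow_comp, z.2, MonObj.one_comp]⟩,
    ⟨z.1 ≫ snd B B, by rw [← MonObj.pow_comp, z.2, MonObj.one_comp]⟩)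
  invFun p := ⟨lift p.1.1 p.2.1, by
    refine CartesianMonoidalCategory.hom_ext _ _ ?_ ?_
    · rw [MonObj.pow_comp, lift_fst, p.1.2, MonObj.one_comp]
    · rw [MonObj.pow_comp, lift_snd, p.2.2, MonObj.one_comp]⟩
  left_inv z := Subtype.ext (lift_comp_fst_snd z.1)
  right_inv p := Prod.ext (Subtype.ext (lift_fst _ _)) (Subtype.ext (lift_snd _ _))

variable (B) in
theorem finite_tors {n : ℕ} (hn : n ≠ 0) :
    {z : SGA7.pt (K := k) Ω ⟶ B | z ^ n = 1}.Finite := by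
  have : IsAlgClosed Ω := IsAlgClosure.isAlgClosed k
  have : IsFinite (𝟙 B ^ (n : ℤ) : B ⟶ B).left :=
    (isogeny_zpow (A := B) (by exact_mod_cast hn)).1
  have h := finite_ker_bc (K := Ω) (𝟙 B ^ (n : ℤ) : B ⟶ B)
  simpa only [zpow_natCast, MonObj.comp_pow, Category.comp_id] using h

variable (B) in
/-- `#B[m²] = #B[m]²`. -/
theorem natCard_tors_sq {m : ℕ} (hm : m ≠ 0) :
    Nat.card (AbDual.torsPts B (m * m) (SGA7.pt (K := k) Ω)) =
      Nat.card {z : SGA7.pt (K := k) Ω ⟶ B // z ^ m = 1} *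
        Nat.card {z : SGA7.pt (K := k) Ω ⟶ B // z ^ m = 1} := by
  have : IsAlgClosed Ω := IsAlgClosure.isAlgClosed k
  let T := AbDual.torsPts B (m * m) (SGA7.pt (K := k) Ω)
  let S := AbDual.torsPts B m (SGA7.pt (K := k) Ω)
  let Φ : T →* S := MonoidHom.mk' (fun z => ⟨z.1 ^ m, show (z.1 ^ m) ^ m = 1 by
    rw [← pow_mul]; exact z.2⟩) fun a b => Subtype.ext (mul_pow a.1 b.1 m)
  have hΦ : Function.Surjective Φ := fun y => by
    obtain ⟨b, hb⟩ := exists_pow_eq_bc (A := B) Ω hm y.1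
    exact ⟨⟨b, show b ^ (m * m) = 1 by rw [pow_mul, hb]; exact y.2⟩, Subtype.ext hb⟩
  have e : Φ.ker ≃ {z : SGA7.pt (K := k) Ω ⟶ B // z ^ m = 1} :=
    { toFun := fun z => ⟨z.1.1, congrArg Subtype.val z.2⟩
      invFun := fun z => ⟨⟨z.1, show z.1 ^ (m * m) = 1 by rw [pow_mul, z.2, one_pow]⟩,
        Subtype.ext z.2⟩
      left_inv := fun _ => rfl
      right_inv := fun _ => rfl }
  have e2 : S ≃ {z : SGA7.pt (K := k) Ω ⟶ B // z ^ m = 1} :=
    { toFun := fun z => ⟨z.1, z.2⟩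
      invFun := fun z => ⟨z.1, z.2⟩
      left_inv := fun _ => rfl
      right_inv := fun _ => rfl }
  rw [← Φ.ker.card_mul_index, Subgroup.index_ker, Nat.card_congr e,
    MonoidHom.range_eq_top.2 hΦ, Subgroup.card_top, Nat.card_congr e2]

/-- Pulling back along `[m]`. -/
theorem euler_tensorPow_sq_mul (P : GoodPol B) {m : ℕ} (hm : (m : k) ≠ 0) (s : ℕ) :
    @Curv2.euler k _ B.left ⟨B.hom⟩ (CohB1.tensorPow P.L (m * m * s)) =
      (Nat.card {z : SGA7.pt (K := k) Ω ⟶ B // z ^ m = 1} : ℤ) *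
        @Curv2.euler k _ B.left ⟨B.hom⟩ (CohB1.tensorPow P.L s) := by
  have hm0 : (m : ℤ) ≠ 0 := fun e => hm (by rw [show m = 0 by exact_mod_cast e, Nat.cast_zero])
  have : IsMonHom (𝟙 B ^ m : B ⟶ B) := by rw [← zpow_natCast]; infer_instance
  have hh : (𝟙 B ^ m : B ⟶ B) ≫ (𝟙 B ^ m : B ⟶ B) = (𝟙 B : B ⟶ B) ^ (m * m) := by
    rw [MonObj.comp_pow, Category.comp_id, pow_mul]
  have hmm : ((m * m : ℕ) : k) ≠ 0 := by push_cast; exact mul_ne_zero hm hm
  obtain ⟨hf, hs, -⟩ := etale_of_mul_eq_pow (𝟙 B ^ m : B ⟶ B) (𝟙 B ^ m : B ⟶ B) hmm hh hh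
  have := Groth.Abvar.isIntegral_left B
  have := Groth.Abvar.Hom.flat_of_surjective (𝟙 B ^ m : B ⟶ B)
  have hi := isInvertible_tensorPow P.hL s
  have hiso : Nonempty ((Scheme.Modules.pullback (𝟙 B ^ m : B ⟶ B).left).obj (CohB1.tensorPow P.L s) ≅
      CohB1.tensorPow P.L (m * m * s)) := by
    rw [nonempty_iso_iff (PicLoc.isInvertible_pullback _ hi) (isInvertible_tensorPow P.hL _),
      ← pull_cls _ hi, cls_tensorPow, cls_tensorPow, map_pow, ← zpow_natCast (𝟙 B) m]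
    show opull (𝟙 B ^ (m : ℤ) : B ⟶ B) P.c ^ s = _
    rw [opull_zpow_symm _ P.symm, ← pow_mul, Int.natAbs_natCast, _root_.pow_two]
  have hk : ∀ y, (𝟙 B ^ m : B ⟶ B).left.finrank y = Nat.card {z : SGA7.pt (K := k) Ω ⟶ B // z ^ m = 1} :=
    fun y => (finrank_eq_natCard_ker _ _ hmm hh hh y).trans (Nat.card_congr
      (Equiv.subtypeEquivRight fun x => by rw [MonObj.comp_pow, Category.comp_id]))
  obtain ⟨e⟩ := hiso
  rw [← Groth.Agent.S7859.result k B B (𝟙 B ^ m : B ⟶ B) _ hk _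
    (Groth.VarietyBC.CurveGG.isCoh_of_isInvertible hi)]
  exact (@Groth.EulerDeg.euler_congr k _ B.left ⟨B.hom⟩ _ _ e).symm

/-- The projection killing the negative graph. -/
abbrev projJ (J : B ⟶ B) : B ⊗ B ⟶ B := fst B B * (snd B B ≫ J)⁻¹

set_option maxHeartbeats 1000000 in
/-- **The quotient by the isotropic graph.** -/
theorem exists_graph_quotient [IsProper (B ⊗ B).hom] [GeometricallyIntegral (B ⊗ B).hom]
    (hKB : KernelBound.{u}) (P : GoodPol B) (P₂ : GoodPol (B ⊗ B))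
    (hP₂ : P₂.c = boxSq P.c) (I J : B ⟶ B) [IsMonHom I] [IsMonHom J] (hAdj : IsAdj P.c I J)
    {M : ℤ} (hIJ : I ≫ J = (𝟙 B : B ⟶ B) ^ M) {m : ℕ} (hm : (m : k) ≠ 0)
    (hM : ((m * m : ℕ) : ℤ) ∣ M + 1) (D : Subgroup (SGA7.pt (K := k) Ω ⟶ B))
    (hD : ∀ x ∈ D, x ^ (m * m) = 1) (hDgal : ∀ (σ : Ω ≃ₐ[k] Ω), ∀ x ∈ D, SGA7.galAct σ x ∈ D) :
    ∃ (Y : Over (Spec (CommRingCat.of k))) (_ : GrpObj Y) (_ : IsCommMonObj Y)
      (u : B ⊗ B ⟶ Y) (v : Y ⟶ B ⊗ B) (_ : IsProper Y.hom) (_ : GeometricallyIntegral Y.hom),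
      IsMonHom u ∧ IsMonHom v ∧ u ≫ v = (𝟙 (B ⊗ B) : B ⊗ B ⟶ B ⊗ B) ^ (m * m) ∧
      v ≫ u = (𝟙 Y : Y ⟶ Y) ^ (m * m) ∧
      (∀ w : SGA7.pt (K := k) Ω ⟶ Y, w ^ (m * m) = 1 → ∃ x ∈ D, (w ≫ v) ≫ projJ J = x ^ 2) ∧
      (∀ x ∈ D, ∃ w : SGA7.pt (K := k) Ω ⟶ Y, w ^ (m * m) = 1 ∧
        (w ≫ v) ≫ projJ J = x ^ 2) ∧
      topologicalKrullDim Y.left = topologicalKrullDim (B ⊗ B).left ∧
      ∃ L : Y.left.Modules, CohB1.IsAmple L ∧ ∀ s : ℕ, 1 ≤ s →
        @Curv2.euler k _ Y.left ⟨Y.hom⟩ (CohB1.tensorPow L s) ≤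
          (Nat.card {z : SGA7.pt (K := k) Ω ⟶ B // z ^ 2 = 1} : ℤ) *
            |@Curv2.euler k _ (B ⊗ B).left ⟨(B ⊗ B).hom⟩ (CohB1.tensorPow P₂.L (2 * s))| := by
  have : IsAlgClosed Ω := IsAlgClosure.isAlgClosed k
  have : IsMonHom (fst B B * (snd B B ≫ J)) := Groth.AlgGrpAb.isMonHom_mul _ _
  have : IsMonHom (projJ J) := Groth.AlgGrpAb.isMonHom_mul _ _
  set N := m * m with hNdef
  have hN : ((N : ℕ) : k) ≠ 0 := by rw [hNdef, Nat.cast_mul]; exact mul_ne_zero hm hm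
  have hN0 : N ≠ 0 := fun e => hN (by rw [e, Nat.cast_zero])
  have hm0 : m ≠ 0 := fun e => hm (by rw [e, Nat.cast_zero])
  have hMx : ∀ x : SGA7.pt (K := k) Ω ⟶ B, x ^ N = 1 → x ≫ I ≫ J = x⁻¹ := fun x hx => by
    obtain ⟨d, hd⟩ := hM
    rw [hIJ, GrpObj.comp_zpow, Category.comp_id, eq_inv_iff_mul_eq_one,
      ← zpow_add_one, hd, zpow_mul, zpow_natCast, hx, one_zpow]
  obtain ⟨YD, _, _, qD, vD, _, _, _, _, hqvD, hvqD, hkerD⟩ :=
    exists_quotient_of_galois_stable B hN D hD hDgal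
  let E : Subgroup (SGA7.pt (K := k) Ω ⟶ B) := perp Ω P.c vD N
  obtain ⟨YE, _, _, qE, vE, _, _, _, _, hqvE, hvqE, hkerE⟩ :=
    exists_quotient_of_galois_stable B hN E (fun x hx => hx.1) fun σ x hx => galAct_mem_perp hx σ
  have hmemD := fun x => (hkerD x).symm.trans (mem_ker_iff_exists_tors qD vD hN0 hqvD hvqD x)
  have hmemE := fun x => (hkerE x).symm.trans (mem_ker_iff_exists_tors qE vE hN0 hqvE hvqE x)
  -- orthogonality of `D` and `E` in both orders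
  have hDE : ∀ y ∈ E, Orth Ω P.c vD y := fun y hy => hy.2
  have hED : ∀ x ∈ D, Orth Ω P.c vE x := fun x hx => by
    obtain ⟨z, hz, rfl⟩ := (hmemD x).1 hx
    exact Orth.symm hN (fun w hw => hDE _ ((hmemE _).2 ⟨w, hw, rfl⟩)) z hz
  -- the graph
  let α : (SGA7.pt (K := k) Ω ⟶ B) × (SGA7.pt (K := k) Ω ⟶ B) →* (SGA7.pt (K := k) Ω ⟶ B ⊗ B) :=
    MonoidHom.mk' (fun p => lift p.1 (p.1 ≫ I) * lift p.2 (p.2 ≫ I)⁻¹) fun p q => by
      refine CartesianMonoidalCategory.hom_ext _ _ ?_ ?_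
      · simp only [MonObj.mul_comp, lift_fst, Prod.fst_mul, Prod.snd_mul]
        exact _root_.mul_mul_mul_comm _ _ _ _
      · simp only [MonObj.mul_comp, lift_snd, Prod.fst_mul, Prod.snd_mul, _root_.mul_inv]
        exact _root_.mul_mul_mul_comm _ _ _ _
  have hα : ∀ x y, α (x, y) = lift x (x ≫ I) * lift y (y ≫ I)⁻¹ := fun x y => rfl
  let G : Subgroup (SGA7.pt (K := k) Ω ⟶ B ⊗ B) := (D.prod E).map α
  have hGN : ∀ g ∈ G, g ^ N = 1 := by
    rintro _ ⟨p, ⟨hp1, hp2⟩, rfl⟩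
    rw [← map_pow, show p ^ N = 1 from Prod.ext (hD _ hp1) hp2.1, map_one]
  have hGgal : ∀ (σ : Ω ≃ₐ[k] Ω), ∀ g ∈ G, SGA7.galAct σ g ∈ G := by
    rintro σ _ ⟨⟨x, y⟩, ⟨hx, hy⟩, rfl⟩
    refine ⟨(SGA7.galAct σ x, SGA7.galAct σ y), ⟨hDgal σ x hx, galAct_mem_perp hy σ⟩, ?_⟩
    simp only [hα, SGA7.galAct, MonObj.comp_mul, comp_lift, GrpObj.comp_inv, Category.assoc]
  obtain ⟨Y, _, _, u, v, _, _, _, _, huv, hvu, hker⟩ :=
    exists_quotient_of_galois_stable (B ⊗ B) hN G hGN hGgal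
  have hmemG := fun g => (hker g).symm.trans (mem_ker_iff_exists_tors u v hN0 huv hvu g)
  -- the values of the two forms on the graph
  have hval : ∀ x y : SGA7.pt (K := k) Ω ⟶ B, x ^ N = 1 → y ^ N = 1 →
      α (x, y) ≫ (fst B B * (snd B B ≫ J)) = y ^ 2 ∧ α (x, y) ≫ projJ J = x ^ 2 := by
    intro x y hx hy
    constructor
    · simp only [hα, MonObj.comp_mul, MonObj.mul_comp, ← Category.assoc, lift_fst, lift_snd,
        GrpObj.inv_comp]
      simp only [Category.assoc, hMx x hx, hMx y hy, _root_.inv_inv, pow_two]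
      rw [_root_.mul_mul_mul_comm, mul_inv_cancel, _root_.one_mul]
    · simp only [hα, projJ, MonObj.comp_mul, GrpObj.comp_inv, MonObj.mul_comp, ← Category.assoc,
        lift_fst, lift_snd, GrpObj.inv_comp]
      simp only [Category.assoc, hMx x hx, hMx y hy, _root_.inv_inv, _root_.mul_inv, pow_two]
      rw [_root_.mul_mul_mul_comm, mul_inv_cancel, _root_.mul_one]
  -- isotropy
  have hiso : ∀ g ∈ G, Orth Ω P₂.c v g := by
    rintro _ ⟨⟨x, y⟩, ⟨hx, hy⟩, rfl⟩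
    rw [hα, hP₂]
    have hJI := hAdj.symm (Y ⊗ SGA7.pt (K := k) Ω)
    refine Orth.mul ?_ ?_
    · have key : Orth Ω P.c (v ≫ (fst B B * (snd B B ≫ J))) x := by
        obtain ⟨z, hz, rfl⟩ := (hmemD x).1 hx
        refine Orth.symm hN (fun w hw => ?_) z hz
        obtain ⟨⟨x', y'⟩, ⟨hx', hy'⟩, e⟩ := (hmemG (w ≫ v)).2 ⟨w, hw, rfl⟩
        rw [← Category.assoc, ← e, (hval x' y' (hD x' hx') hy'.1).1, pow_two]
        exact (hDE y' hy').mul (hDE y' hy')
      rw [Orth, MonObj.comp_mul, MonObj.comp_mul, cross_mul_left] at key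
      rw [Orth, cross_boxSq]
      simp only [Category.assoc, lift_fst, lift_snd]
      simp only [← Category.assoc] at key ⊢
      rw [← hJI]
      simp only [Category.assoc] at key ⊢
      exact key
    · have key : Orth Ω P.c (v ≫ projJ J) y := by
        obtain ⟨z, hz, rfl⟩ := (hmemE y).1 hy
        refine Orth.symm hN (fun w hw => ?_) z hz
        obtain ⟨⟨x', y'⟩, ⟨hx', hy'⟩, e⟩ := (hmemG (w ≫ v)).2 ⟨w, hw, rfl⟩
        rw [← Category.assoc, ← e, (hval x' y' (hD x' hx') hy'.1).2, pow_two]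
        exact (hED x' hx').mul (hED x' hx')
      simp only [Orth, projJ, MonObj.comp_mul, GrpObj.comp_inv, cross_mul_left] at key
      rw [Orth, cross_boxSq]
      simp only [Category.assoc, lift_fst, lift_snd, GrpObj.comp_inv]
      rw [← zpow_neg_one, cross_zpow_left] at key
      rw [← zpow_neg_one, cross_zpow_right]
      simp only [← Category.assoc] at key ⊢
      rw [← hJI]
      simp only [Category.assoc] at key ⊢
      exact key
  obtain ⟨L, hL, heul⟩ := exists_ample_on_quotient (Ω := Ω) (L := P₂.L) P₂.isAmple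
    P₂.symm u v hN huv hvu fun z hz => hiso _ ((hmemG _).2 ⟨z, hz, rfl⟩)
  refine ⟨Y, inferInstance, inferInstance, u, v, inferInstance, inferInstance, inferInstance,
    inferInstance, huv, hvu, ?_, ?_, ?_, L, hL, fun s hs => ?_⟩
  · intro w hw
    obtain ⟨⟨x', y'⟩, ⟨hx', hy'⟩, e⟩ := (hmemG (w ≫ v)).2 ⟨w, hw, rfl⟩
    exact ⟨x', hx', by rw [← e]; exact (hval x' y' (hD x' hx') hy'.1).2⟩
  · intro x hx
    obtain ⟨w, hw, e⟩ := (hmemG _).1 ⟨(x, 1), ⟨hx, E.one_mem⟩, rfl⟩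
    exact ⟨w, hw, by rw [e]; exact (hval x 1 (hD x hx) (one_pow N)).2⟩
  · obtain ⟨hf, hsj, -⟩ := etale_of_mul_eq_pow u v hN huv hvu
    exact (topologicalKrullDim_eq_of_finite_surjective u.left).symm
  -- the size of the graph
  have hTfin : Finite {z : SGA7.pt (K := k) Ω ⟶ B // z ^ 2 = 1} :=
    (finite_tors (Ω := Ω) B two_ne_zero).to_subtype
  have hker2 : Nat.card ((α.comp (D.prod E).subtype).ker) ≤
      Nat.card {z : SGA7.pt (K := k) Ω ⟶ B // z ^ 2 = 1} := by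
    have h1 : ∀ p : (α.comp (D.prod E).subtype).ker, p.1.1.2 = p.1.1.1⁻¹ ∧ p.1.1.1 ^ 2 = 1 := by
      rintro ⟨⟨⟨x, y⟩, hx, hy⟩, hp⟩
      have hp' : α (x, y) = 1 := hp
      have hy' : y = x⁻¹ := by
        have h := congrArg (· ≫ fst B B) hp'
        simp only [hα, MonObj.mul_comp, lift_fst, MonObj.one_comp] at h
        exact eq_inv_of_mul_eq_one_right h
      refine ⟨hy', ?_⟩
      have h := (hval x y (hD x hx) hy.1).2
      rw [hp', MonObj.one_comp] at h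
      exact h.symm
    refine Nat.card_le_card_of_injective (fun p => ⟨p.1.1.1, (h1 p).2⟩) fun p q h => ?_
    have hx := congrArg Subtype.val h
    refine Subtype.ext (Subtype.ext (Prod.ext hx ?_))
    rw [(h1 p).1, (h1 q).1]; exact congrArg _ hx
  have hDE' : Nat.card D * Nat.card E ≤
      Nat.card {z : SGA7.pt (K := k) Ω ⟶ B // z ^ 2 = 1} * Nat.card G := by
    rw [← Nat.card_prod, ← Nat.card_congr (D.prodEquiv E).toEquiv,
      ← (α.comp (D.prod E).subtype).ker.card_mul_index, Subgroup.index_ker, MonoidHom.range_comp, Subgroup.range_subtype]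
    exact Nat.mul_le_mul_right _ hker2
  have hBN : Nat.card (AbDual.torsPts B N (SGA7.pt (K := k) Ω)) ≤ Nat.card D * Nat.card E := by
    refine (card_torsion_le hKB P.c qD vD hN hqvD hvqD).trans (le_of_eq ?_)
    rw [_root_.mul_comm]
    exact congrArg (· * _) (Nat.card_congr (Equiv.subtypeEquivRight hkerD))
  have hG : 0 < Nat.card G := by
    have : Finite G := ((finite_tors (Ω := Ω) (B ⊗ B) hN0).subset hGN).to_subtype
    exact Nat.card_pos
  have he := heul s hs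
  rw [show (2 * N * s) = m * m * (2 * s) by rw [hNdef]; ring,
    euler_tensorPow_sq_mul (Ω := Ω) P₂ hm, Nat.card_congr (torsProd m), Nat.card_prod,
    ← natCard_tors_sq B hm0,
    Nat.card_congr (Equiv.subtypeEquivRight hker : {x // x ≫ u = 1} ≃ {x // x ∈ G})] at he
  set e := @Curv2.euler k _ (B ⊗ B).left ⟨(B ⊗ B).hom⟩ (CohB1.tensorPow P₂.L (2 * s))
  have hle : (Nat.card (AbDual.torsPts B N (SGA7.pt (K := k) Ω)) : ℤ) ≤
      (Nat.card {z : SGA7.pt (K := k) Ω ⟶ B // z ^ 2 = 1} : ℤ) * (Nat.card G : ℤ) := by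
    exact_mod_cast hBN.trans hDE'
  refine le_of_mul_le_mul_left ?_ (by exact_mod_cast hG : (0 : ℤ) < (Nat.card G : ℤ))
  refine he.le.trans (((mul_le_mul_of_nonneg_left (le_abs_self e) (Nat.cast_nonneg _)).trans
    (mul_le_mul_of_nonneg_right hle (abs_nonneg e))).trans (le_of_eq ?_))
  ring

end Groth.AbVarTate
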