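import Mathlib.LinearAlgebra.Eigenspace.Semisimple
import Mathlib.LinearAlgebra.Eigenspace.Triangularizable
import Mathlib.LinearAlgebra.Charpoly.ToMatrix
import Mathlib.LinearAlgebra.Matrix.Charpoly.Basic
import Mathlib.FieldTheory.Perfect
import Mathlib.Algebra.MvPolynomial.Funext
import Mathlib.RingTheory.UniqueFactorizationDomain.NormalizedFactors
import Mathlib.FieldTheory.IsAlgClosed.AlgebraicClosure
import Mathlib.FieldTheory.Minpoly.Field

/-!
# Intertwiners of semisimple endomorphisms
-/

set_option autoImplicit false

open Polynomial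
open UniqueFactorizationMonoid (normalizedFactors)

noncomputable section

namespace Groth.AbVarTate

/-- Pairs of equal entries. -/
def pairCount {α : Type*} [DecidableEq α] (s t : Multiset α) : ℕ := (s.map fun a => t.count a).sum

theorem pairCount_map {α β : Type*} [DecidableEq α] [DecidableEq β] {f : α → β}
    (hf : Function.Injective f) (s t : Multiset α) :
    pairCount (s.map f) (t.map f) = pairCount s t := by
  simp only [pairCount, Multiset.map_map, Function.comp_def, Multiset.count_map_eq_count' f _ hf]

theorem pairCount_self_ge {α : Type*} [DecidableEq α] (s : Multiset α) :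
    s.card ≤ pairCount s s := by
  refine le_trans ?_ (Multiset.sum_map_le_sum_map (s := s) (fun _ => 1) (fun a => s.count a)
    fun a ha => Multiset.count_pos.2 ha)
  simp

theorem pairCount_self_eq_card_iff {α : Type*} [DecidableEq α] (s : Multiset α) :
    pairCount s s = s.card ↔ s.Nodup := by
  constructor
  · intro h
    rw [Multiset.nodup_iff_count_le_one]
    intro a
    by_cases ha : a ∈ s
    · by_contra hlt
      have : (s.map fun _ => 1).sum < (s.map fun b => s.count b).sum :=
        Multiset.sum_lt_sum (fun b hb => Multiset.count_pos.2 hb) ⟨a, ha, by omega⟩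
      simp only [Multiset.map_const', Multiset.sum_replicate, smul_eq_mul, mul_one] at this
      unfold pairCount at h
      omega
    · rw [Multiset.count_eq_zero.2 ha]; exact Nat.zero_le _
  · intro h
    rw [pairCount, Multiset.map_congr rfl fun a ha => Multiset.count_eq_one_of_mem h ha]
    simp

theorem pairCount_univ_map {α : Type*} [DecidableEq α] {ι κ : Type*} [Fintype ι] [Fintype κ]
    (d : ι → α) (e : κ → α) :
    Fintype.card {p : κ × ι // e p.1 = d p.2} =
      pairCount (Finset.univ.val.map d) (Finset.univ.val.map e) := by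
  classical
  have h : ∀ j : ι, Fintype.card {i : κ // e i = d j} = (Finset.univ.val.map e).count (d j) := by
    intro j
    rw [Multiset.count_map, Fintype.card_subtype, ← Finset.filter_val, Finset.card_def]
    congr 2
    ext i
    simp [eq_comm]
  let eqv : {p : κ × ι // e p.1 = d p.2} ≃ Σ j : ι, {i : κ // e i = d j} :=
    { toFun := fun p => ⟨p.1.2, p.1.1, p.2⟩
      invFun := fun q => ⟨(q.2.1, q.1), q.2.2⟩
      left_inv := fun _ => rfl
      right_inv := fun _ => rfl }
  rw [Fintype.card_congr eqv, Fintype.card_sigma, pairCount, Multiset.map_map, Finset.sum]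
  exact congrArg Multiset.sum (Multiset.map_congr rfl fun j _ => h j)

section Closed

variable {K V W : Type*} [Field K] [IsAlgClosed K] [DecidableEq K] [AddCommGroup V] [Module K V]
  [FiniteDimensional K V] [AddCommGroup W] [Module K W] [FiniteDimensional K W]

omit [DecidableEq K] in
/-- A semisimple endomorphism over an algebraically closed field has an eigenbasis. -/
theorem exists_eigenbasis {f : Module.End K V} (hf : f.IsSemisimple) :
    ∃ (n : ℕ) (b : Module.Basis (Fin n) K V) (d : Fin n → K),
      (∀ j, f (b j) = d j • b j) ∧ f.charpoly.roots = Finset.univ.val.map d := by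
  classical
  have hint : DirectSum.IsInternal f.eigenspace := by
    rw [DirectSum.isInternal_submodule_iff_iSupIndep_and_iSup_eq_top]
    exact ⟨f.eigenspaces_iSupIndep, hf.iSup_eigenspace_eq_top⟩
  let b₀ := hint.collectedBasis fun μ => Module.finBasis K (f.eigenspace μ)
  have : Fintype (Σ μ : K, Fin (Module.finrank K (f.eigenspace μ))) :=
    FiniteDimensional.fintypeBasisIndex b₀
  let σ := Fintype.equivFin (Σ μ : K, Fin (Module.finrank K (f.eigenspace μ)))
  let b := b₀.reindex σ
  have hb : ∀ j, f (b j) = (σ.symm j).1 • b j := fun j => by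
    rw [Module.Basis.reindex_apply]
    exact Module.End.mem_eigenspace_iff.1 (hint.collectedBasis_mem _ (σ.symm j))
  refine ⟨_, b, fun j => (σ.symm j).1, hb, ?_⟩
  have hM : LinearMap.toMatrix b b f = Matrix.diagonal fun j => (σ.symm j).1 := by
    ext i j
    rw [LinearMap.toMatrix_apply, hb, map_smul, Finsupp.smul_apply, b.repr_self,
      Finsupp.single_apply, Matrix.diagonal_apply, smul_eq_mul]
    by_cases h : i = j
    · subst h; simp
    · rw [if_neg (Ne.symm h), if_neg h, mul_zero]
  rw [← LinearMap.charpoly_toMatrix f b, hM, Matrix.charpoly_diagonal, Finset.prod_eq_multiset_prod,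
    show (Finset.univ.val.map fun i => X - C ((σ.symm i).1)) =
      (Finset.univ.val.map fun j => (σ.symm j).1).map (fun a => X - C a) by rw [Multiset.map_map]; rfl,
    roots_multiset_prod_X_sub_C]

/-- The intertwiners. -/
abbrev intertwiners {F V W : Type*} [Field F] [AddCommGroup V] [Module F V] [AddCommGroup W]
    [Module F W] (f : Module.End F V) (g : Module.End F W) : Submodule F (V →ₗ[F] W) :=
  LinearMap.ker (LinearMap.lcomp F W f - LinearMap.llcomp F V W W g)

omit [DecidableEq K] [IsAlgClosed K] [FiniteDimensional K V] [FiniteDimensional K W] in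
theorem mem_intertwiners {f : Module.End K V} {g : Module.End K W} {ψ : V →ₗ[K] W} :
    ψ ∈ intertwiners f g ↔ ψ ∘ₗ f = g ∘ₗ ψ := by
  rw [LinearMap.mem_ker, LinearMap.sub_apply, sub_eq_zero]
  rfl

/-- Intertwiners of semisimple endomorphisms over an algebraically closed field. -/
theorem finrank_intertwiners_closed {f : Module.End K V} {g : Module.End K W}
    (hf : f.IsSemisimple) (hg : g.IsSemisimple) :
    Module.finrank K (intertwiners f g) = pairCount f.charpoly.roots g.charpoly.roots := by
  classical
  obtain ⟨n, b, d, hb, hd⟩ := exists_eigenbasis hf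
  obtain ⟨m, c, e, hc, he⟩ := exists_eigenbasis hg
  rw [hd, he, ← pairCount_univ_map]
  have key : ∀ ψ : V →ₗ[K] W, ψ ∈ intertwiners f g ↔
      ∀ i j, e i ≠ d j → LinearMap.toMatrix b c ψ i j = 0 := by
    intro ψ
    have hcol : ∀ j i, c.repr (g (ψ (b j))) i = e i * c.repr (ψ (b j)) i := fun j i => by
      conv_lhs => rw [← c.sum_repr (ψ (b j))]
      simp only [map_sum, map_smul, hc, Finsupp.coe_finsetSum, Finset.sum_apply,
        Finsupp.smul_apply, c.repr_self, smul_eq_mul, Finsupp.single_apply]
      rw [Finset.sum_eq_single i (fun x _ hx => by rw [if_neg hx]; ring) (by simp), if_pos rfl]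
      ring
    rw [mem_intertwiners]
    constructor
    · intro h i j hij
      have h1 := congrArg (fun w => c.repr w i) (LinearMap.congr_fun h (b j))
      simp only [LinearMap.comp_apply, hb, map_smul, Finsupp.smul_apply, smul_eq_mul, hcol] at h1
      rw [LinearMap.toMatrix_apply]
      have : (e i - d j) * c.repr (ψ (b j)) i = 0 := by linear_combination -h1
      exact (mul_eq_zero.1 this).resolve_left (sub_ne_zero.2 hij)
    · intro h
      refine b.ext fun j => c.repr.injective (Finsupp.ext fun i => ?_)
      simp only [LinearMap.comp_apply, hb, map_smul, Finsupp.smul_apply, smul_eq_mul, hcol]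
      by_cases hij : e i = d j
      · rw [hij]
      · have := h i j hij
        rw [LinearMap.toMatrix_apply] at this
        rw [this, mul_zero, mul_zero]
  let S := {p : Fin m × Fin n // e p.1 = d p.2}
  let E : intertwiners f g →ₗ[K] (S → K) :=
    { toFun := fun ψ p => LinearMap.toMatrix b c ψ.1 p.1.1 p.1.2
      map_add' := fun ψ φ => funext fun p => by simp
      map_smul' := fun a ψ => funext fun p => by simp }
  have hbij : Function.Bijective E := by
    refine ⟨fun ψ φ h => Subtype.ext ((LinearMap.toMatrix b c).injective ?_), fun z => ?_⟩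
    · ext i j
      by_cases hij : e i = d j
      · exact congrFun h ⟨(i, j), hij⟩
      · rw [(key _).1 ψ.2 i j hij, (key _).1 φ.2 i j hij]
    · let M : Matrix (Fin m) (Fin n) K := fun i j => if h : e i = d j then z ⟨(i, j), h⟩ else 0
      refine ⟨⟨(LinearMap.toMatrix b c).symm M, (key _).2 fun i j hij => ?_⟩, funext fun p => ?_⟩
      · rw [LinearEquiv.apply_symm_apply]; exact dif_neg hij
      · show LinearMap.toMatrix b c ((LinearMap.toMatrix b c).symm M) p.1.1 p.1.2 = z p
        rw [LinearEquiv.apply_symm_apply]; exact dif_pos p.2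
  rw [(LinearEquiv.ofBijective E hbij).finrank_eq, Module.finrank_fintype_fun_eq_card]

/-- Semisimple endomorphisms with the same characteristic roots are conjugate. -/
theorem exists_equiv_intertwiner_closed {f : Module.End K V} {g : Module.End K W}
    (hf : f.IsSemisimple) (hg : g.IsSemisimple) (h : f.charpoly.roots = g.charpoly.roots) :
    ∃ ψ : V ≃ₗ[K] W, (ψ : V →ₗ[K] W) ∈ intertwiners f g := by
  classical
  obtain ⟨n, b, d, hb, hd⟩ := exists_eigenbasis hf
  obtain ⟨m, c, e, hc, he⟩ := exists_eigenbasis hg
  have hcount : ∀ a, Fintype.card {j // d j = a} = Fintype.card {i // e i = a} := fun a => by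
    have hh := congrArg (Multiset.count a) (hd.symm.trans (h.trans he))
    simp only [Multiset.count_map] at hh
    rw [Fintype.card_subtype, Fintype.card_subtype, Finset.card_def, Finset.card_def,
      Finset.filter_val, Finset.filter_val]
    simpa [eq_comm] using hh
  let σ : Fin n ≃ Fin m := Equiv.ofFiberEquiv (f := d) (g := e)
    fun a => Fintype.equivOfCardEq (hcount a)
  refine ⟨b.equiv c σ, mem_intertwiners.2 (b.ext fun j => ?_)⟩
  show (b.equiv c σ) (f (b j)) = g ((b.equiv c σ) (b j))
  have hσ : e (σ j) = d j := Equiv.ofFiberEquiv_map (f := d) (g := e) _ j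
  rw [hb, map_smul, Module.Basis.equiv_apply, hc, hσ]

end Closed

section Descent

variable {F K : Type*} [Field F] [Field K] [Algebra F K] {m n : Type*} [Fintype m] [Fintype n]

/-- The intertwining matrices. -/
def matIntertwiners (M : Matrix n n F) (N : Matrix m m F) : Submodule F (Matrix m n F) where
  carrier := {Y | Y * M = N * Y}
  add_mem' {a b} ha hb := by
    show (a + b) * M = N * (a + b)
    rw [Matrix.add_mul, Matrix.mul_add, ha, hb]
  zero_mem' := by show (0 : Matrix m n F) * M = N * 0; simp
  smul_mem' c a ha := by
    show (c • a) * M = N * (c • a)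
    rw [Matrix.smul_mul, Matrix.mul_smul, ha]

theorem mem_matIntertwiners {M : Matrix n n F} {N : Matrix m m F} {Y : Matrix m n F} :
    Y ∈ matIntertwiners M N ↔ Y * M = N * Y := Iff.rfl

omit [Fintype m] in
theorem map_mul_algebraMap (φ : K →ₗ[F] F) {l : Type*} (Y : Matrix m n K) (M : Matrix n l F) :
    (Y * M.map (algebraMap F K)).map φ = Y.map φ * M := by
  ext i j
  simp only [Matrix.map_apply, Matrix.mul_apply, map_sum]
  refine Finset.sum_congr rfl fun x _ => ?_
  rw [← Algebra.commutes, ← Algebra.smul_def, map_smul, smul_eq_mul, mul_comm]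

omit [Fintype n] in
theorem map_algebraMap_mul (φ : K →ₗ[F] F) {l : Type*} (N : Matrix l m F) (Y : Matrix m n K) :
    (N.map (algebraMap F K) * Y).map φ = N * Y.map φ := by
  ext i j
  simp only [Matrix.map_apply, Matrix.mul_apply, map_sum]
  refine Finset.sum_congr rfl fun x _ => ?_
  rw [← Algebra.smul_def, map_smul, smul_eq_mul]

/-- Intertwiners over an extension are spanned by those over the field. -/
theorem span_map_matIntertwiners (M : Matrix n n F) (N : Matrix m m F) :
    Submodule.span K ((fun Y => Y.map (algebraMap F K)) '' (matIntertwiners M N : Set (Matrix m n F))) =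
      matIntertwiners (M.map (algebraMap F K)) (N.map (algebraMap F K)) := by
  classical
  refine le_antisymm (Submodule.span_le.2 ?_) fun Y hY => ?_
  · rintro _ ⟨Y, hY, rfl⟩
    show Y.map (algebraMap F K) * _ = _
    rw [← Matrix.map_mul, ← Matrix.map_mul, show Y * M = N * Y from hY]
  · let e := Module.Basis.ofVectorSpace F K
    let s : Finset _ := Finset.univ.biUnion fun p : m × n => (e.repr (Y p.1 p.2)).support
    have hYe : Y = ∑ b ∈ s, e b • (Y.map (e.coord b)).map (algebraMap F K) := by
      ext i j
      rw [Matrix.sum_apply]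
      simp only [Matrix.smul_apply, Matrix.map_apply, smul_eq_mul, Module.Basis.coord_apply]
      conv_lhs => rw [← e.linearCombination_repr (Y i j), Finsupp.linearCombination_apply,
        Finsupp.sum_of_support_subset _
          (show (e.repr (Y i j)).support ⊆ s from
            Finset.subset_biUnion_of_mem (fun p : m × n => (e.repr (Y p.1 p.2)).support)
              (Finset.mem_univ (i, j)))
          _ (fun b _ => zero_smul F (e b))]
      exact Finset.sum_congr rfl fun b _ => by rw [Algebra.smul_def, mul_comm]
    rw [hYe]
    refine Submodule.sum_mem _ fun b _ => Submodule.smul_mem _ _ (Submodule.subset_span ?_)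
    refine ⟨_, ?_, rfl⟩
    show Y.map (e.coord b) * M = N * Y.map (e.coord b)
    rw [← map_mul_algebraMap, ← map_algebraMap_mul, show Y * _ = _ from hY]

omit [Fintype m] [Fintype n] in
/-- Independence persists. -/
theorem linearIndependent_map {ι : Type*} (v : ι → Matrix m n F) (hv : LinearIndependent F v) :
    LinearIndependent K (fun i => (v i).map (algebraMap F K)) := by
  rw [linearIndependent_iff'] at hv ⊢
  intro s c hc i hi
  let e := Module.Basis.ofVectorSpace F K
  refine e.repr.injective (Finsupp.ext fun b => ?_)
  rw [map_zero, Finsupp.zero_apply, ← Module.Basis.coord_apply]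
  refine hv s (fun i => e.coord b (c i)) ?_ i hi
  ext x y
  have h := congrArg (e.coord b) (congrFun (congrFun hc x) y)
  simp only [Matrix.sum_apply, Matrix.smul_apply, Matrix.map_apply, smul_eq_mul, map_sum,
    Matrix.zero_apply, map_zero] at h ⊢
  rw [← h]
  refine Finset.sum_congr rfl fun j _ => ?_
  rw [← Algebra.commutes, ← Algebra.smul_def, map_smul, smul_eq_mul, mul_comm]

/-- The dimension of intertwiners is invariant under extensions. -/
theorem finrank_matIntertwiners_map (M : Matrix n n F) (N : Matrix m m F) :
    Module.finrank K (matIntertwiners (M.map (algebraMap F K)) (N.map (algebraMap F K))) =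
      Module.finrank F (matIntertwiners M N) := by
  classical
  let b := Module.finBasis F (matIntertwiners M N)
  have hb : LinearIndependent K (fun i => (b i).1.map (algebraMap F K)) :=
    linearIndependent_map _ (b.linearIndependent.map' (matIntertwiners M N).subtype
      (Submodule.ker_subtype _))
  rw [← span_map_matIntertwiners (K := K) M N]
  have hspan : Submodule.span K ((fun Y => Y.map (algebraMap F K)) ''
      (matIntertwiners M N : Set (Matrix m n F))) =
      Submodule.span K (Set.range fun i => (b i).1.map (algebraMap F K)) := by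
    refine le_antisymm (Submodule.span_le.2 ?_) (Submodule.span_mono ?_)
    · rintro _ ⟨Y, hY, rfl⟩
      rw [show Y = ∑ i, b.repr ⟨Y, hY⟩ i • (b i).1 by
        have h := congrArg Subtype.val (b.sum_repr ⟨Y, hY⟩)
        rw [Submodule.coe_sum] at h
        exact h.symm]
      show (∑ i, b.repr ⟨Y, hY⟩ i • (b i).1).map (algebraMap F K) ∈ _
      rw [show (∑ i, b.repr ⟨Y, hY⟩ i • (b i).1).map (algebraMap F K) =
          ∑ i, algebraMap F K (b.repr ⟨Y, hY⟩ i) • (b i).1.map (algebraMap F K) by
        ext x y; simp [Matrix.sum_apply, Algebra.smul_def]]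
      exact Submodule.sum_mem _ fun i _ => Submodule.smul_mem _ _ (Submodule.subset_span ⟨i, rfl⟩)
    · rintro _ ⟨i, rfl⟩
      exact ⟨(b i).1, (b i).2, rfl⟩
  rw [hspan, finrank_span_eq_card hb, Fintype.card_fin]

end Descent

section General

variable {F V W : Type*} [Field F] [AddCommGroup V] [Module F V] [FiniteDimensional F V]
  [AddCommGroup W] [Module F W] [FiniteDimensional F W]

omit [FiniteDimensional F V] [FiniteDimensional F W] in
theorem finrank_intertwiners_matrix {ι κ : Type*} [Fintype ι] [Fintype κ] [DecidableEq ι]
    [DecidableEq κ] (b : Module.Basis ι F V) (c : Module.Basis κ F W) (f : Module.End F V)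
    (g : Module.End F W) :
    Module.finrank F (intertwiners f g) =
      Module.finrank F (matIntertwiners (LinearMap.toMatrix b b f) (LinearMap.toMatrix c c g)) := by
  refine (LinearEquiv.ofSubmodules (LinearMap.toMatrix b c) (intertwiners f g) _ ?_).finrank_eq
  ext Y
  constructor
  · rintro ⟨ψ, hψ, rfl⟩
    show LinearMap.toMatrix b c ψ * _ = _
    rw [← LinearMap.toMatrix_comp b b c, mem_intertwiners.1 hψ, LinearMap.toMatrix_comp b c c]
    rfl
  · intro hY
    refine ⟨(LinearMap.toMatrix b c).symm Y, mem_intertwiners.2 ((LinearMap.toMatrix b c).injective ?_),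
      (LinearMap.toMatrix b c).apply_symm_apply Y⟩
    rw [LinearMap.toMatrix_comp b b c, LinearMap.toMatrix_comp b c c, LinearEquiv.apply_symm_apply]
    exact hY

variable (K : Type*) [Field K] [Algebra F K]

theorem semisimple_map {ι : Type*} [Fintype ι] [DecidableEq ι] (b : Module.Basis ι F V)
    (f : Module.End F V) [PerfectField F] {p : F[X]} (hp : Squarefree p) (hpf : aeval f p = 0) :
    Module.End.IsSemisimple (Matrix.toLin' ((LinearMap.toMatrix b b f).map (algebraMap F K))) ∧
      (Matrix.toLin' ((LinearMap.toMatrix b b f).map (algebraMap F K))).charpoly =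
        f.charpoly.map (algebraMap F K) := by
  set M := LinearMap.toMatrix b b f
  refine ⟨Module.End.isSemisimple_of_squarefree_aeval_eq_zero
    (p := p.map (algebraMap F K))
    ((PerfectField.separable_iff_squarefree.2 hp).map).squarefree ?_, ?_⟩
  · have h1 : aeval M p = 0 := by
      have := congrArg (LinearMap.toMatrixAlgEquiv b) hpf
      rwa [map_zero, ← aeval_algHom_apply] at this
    have h2 : aeval (M.map (algebraMap F K)) (p.map (algebraMap F K)) = 0 := by
      rw [aeval_map_algebraMap]
      have := congrArg (Algebra.ofId F K).mapMatrix h1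
      rwa [map_zero, ← aeval_algHom_apply] at this
    have := congrArg Matrix.toLinAlgEquiv' h2
    rwa [map_zero, ← aeval_algHom_apply] at this
  · rw [← LinearMap.charpoly_toMatrix f b, ← Matrix.charpoly_map,
      ← LinearMap.charpoly_toMatrix (Matrix.toLin' _) (Pi.basisFun K ι),
      LinearMap.toMatrix_eq_toMatrix', LinearMap.toMatrix'_toLin']

variable [IsAlgClosed K] [DecidableEq K] [PerfectField F]

/-- **The dimension of the intertwiners of semisimple endomorphisms.** -/
theorem finrank_intertwiners {f : Module.End F V} {g : Module.End F W} {p q : F[X]}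
    (hp : Squarefree p) (hpf : aeval f p = 0) (hq : Squarefree q) (hqg : aeval g q = 0) :
    Module.finrank F (intertwiners f g) =
      pairCount (f.charpoly.map (algebraMap F K)).roots (g.charpoly.map (algebraMap F K)).roots := by
  classical
  let b := Module.finBasis F V
  let c := Module.finBasis F W
  obtain ⟨hfs, hfc⟩ := semisimple_map K b f hp hpf
  obtain ⟨hgs, hgc⟩ := semisimple_map K c g hq hqg
  rw [finrank_intertwiners_matrix b c, ← finrank_matIntertwiners_map (K := K), ← hfc, ← hgc,
    ← finrank_intertwiners_closed hfs hgs,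
    finrank_intertwiners_matrix (Pi.basisFun K _) (Pi.basisFun K _)]
  simp only [LinearMap.toMatrix_eq_toMatrix']
  erw [LinearMap.toMatrix'_toLin', LinearMap.toMatrix'_toLin']

/-- Semisimple endomorphisms with the same characteristic polynomial are conjugate. -/
theorem exists_equiv_intertwiner [Infinite F] {f : Module.End F V} {g : Module.End F W} {p q : F[X]}
    (hp : Squarefree p) (hpf : aeval f p = 0) (hq : Squarefree q) (hqg : aeval g q = 0)
    (h : f.charpoly = g.charpoly) :
    ∃ ψ : V ≃ₗ[F] W, (ψ : V →ₗ[F] W) ∈ intertwiners f g := by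
  classical
  have hdim : Module.finrank F V = Module.finrank F W := by
    rw [← LinearMap.charpoly_natDegree f, ← LinearMap.charpoly_natDegree g, h]
  let b := Module.finBasis F V
  let c := (Module.finBasis F W).reindex (finCongr hdim.symm)
  let L := AlgebraicClosure F
  obtain ⟨hfs, hfc⟩ := semisimple_map L b f hp hpf
  obtain ⟨hgs, hgc⟩ := semisimple_map L c g hq hqg
  obtain ⟨Ψ, hΨ⟩ := exists_equiv_intertwiner_closed hfs hgs (by rw [hfc, hgc]; exact congrArg (fun P => (Polynomial.map (algebraMap F L) P).roots) h)
  set M := LinearMap.toMatrix b b f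
  set N := LinearMap.toMatrix c c g
  let Y := LinearMap.toMatrix' Ψ.toLinearMap
  have hYdet : Y.det ≠ 0 := by
    rw [LinearMap.det_toMatrix']
    exact (LinearEquiv.isUnit_det' Ψ).ne_zero
  have hY : Y ∈ matIntertwiners (M.map (algebraMap F L)) (N.map (algebraMap F L)) := by
    have hh := congrArg LinearMap.toMatrix' (mem_intertwiners.1 hΨ)
    rw [LinearMap.toMatrix'_comp, LinearMap.toMatrix'_comp, LinearMap.toMatrix'_toLin',
      LinearMap.toMatrix'_toLin'] at hh
    exact hh
  rw [← span_map_matIntertwiners] at hY
  obtain ⟨T, hT, hYT⟩ := Submodule.mem_span_finite_of_mem_span hY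
  choose Z hZ hZY using fun y : T => hT y.2
  obtain ⟨a, ha⟩ := (Submodule.mem_span_finset).1 hYT
  let P : MvPolynomial T F :=
    (∑ y : T, (MvPolynomial.X y : MvPolynomial T F) • (Z y).map MvPolynomial.C).det
  have hev : ∀ (R : Type _) [CommRing R] [Algebra F R] (x : T → R),
      MvPolynomial.aeval x P = (∑ y : T, x y • (Z y).map (algebraMap F R)).det := by
    intro R _ _ x
    rw [AlgHom.map_det]
    congr 1
    ext i j
    simp [Matrix.sum_apply, AlgHom.mapMatrix_apply]
  have hP : P ≠ 0 := by
    intro h0
    have := hev L (fun y => a y)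
    rw [h0, map_zero] at this
    refine hYdet ?_
    rw [← ha.2, ← Finset.sum_coe_sort]
    refine Eq.trans ?_ this.symm
    congr 1
    exact Finset.sum_congr rfl fun y _ => by rw [show (Z y).map (algebraMap F L) = y.1 from hZY y]
  obtain ⟨x, hx⟩ : ∃ x : T → F, MvPolynomial.eval x P ≠ 0 := by
    by_contra hcon
    push Not at hcon
    exact hP (MvPolynomial.funext fun x => by rw [hcon x, map_zero])
  let Y₀ := ∑ y : T, x y • Z y
  have hY₀ : Y₀.det ≠ 0 := by
    have := hev F x
    rw [MvPolynomial.aeval_eq_eval] at this
    simpa [Algebra.algebraMap_self, Y₀] using this ▸ hx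
  have hmem : Y₀ ∈ matIntertwiners M N :=
    Submodule.sum_mem _ fun y _ => Submodule.smul_mem _ _ (hZ y)
  have hu : IsUnit (LinearMap.toMatrix b c ((LinearMap.toMatrix b c).symm Y₀)).det := by
    rw [LinearEquiv.apply_symm_apply]; exact hY₀.isUnit
  refine ⟨LinearEquiv.ofIsUnitDet hu, ?_⟩
  refine mem_intertwiners.2 ((LinearMap.toMatrix b c).injective ?_)
  rw [LinearMap.toMatrix_comp b b c, LinearMap.toMatrix_comp b c c]
  show LinearMap.toMatrix b c ((LinearMap.toMatrix b c).symm Y₀) * M =
    N * LinearMap.toMatrix b c ((LinearMap.toMatrix b c).symm Y₀)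
  rw [LinearEquiv.apply_symm_apply]
  exact hmem

end General

section Factors

variable {F : Type*} [Field F] [DecidableEq F] [PerfectField F] (K : Type*) [Field K] [Algebra F K]
  [IsAlgClosed K] [DecidableEq K]

/-- Equal roots are counted by common irreducible factors. -/
theorem pairCount_aroots {P Q : F[X]} (hP : P.Monic) (hQ : Q.Monic) :
    pairCount (P.map (algebraMap F K)).roots (Q.map (algebraMap F K)).roots =
      ∑ p ∈ (normalizedFactors P).toFinset,
        (normalizedFactors P).count p * (normalizedFactors Q).count p * p.natDegree := by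
  classical
  have hfac : ∀ {R : F[X]}, R.Monic →
      (R.map (algebraMap F K)).roots =
        (normalizedFactors R).bind fun p => (p.map (algebraMap F K)).roots := by
    intro R hR
    have hprod : (normalizedFactors R).prod = R := by
      rw [UniqueFactorizationMonoid.prod_normalizedFactors_eq hR.ne_zero, hR.normalize_eq_self]
    conv_lhs => rw [← hprod, Polynomial.map_multiset_prod]
    rw [roots_multiset_prod, Multiset.bind_map]
    intro h0
    obtain ⟨p, hp, hp0⟩ := Multiset.mem_map.1 h0
    exact (UniqueFactorizationMonoid.irreducible_of_normalized_factor p hp).ne_zero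
      ((Polynomial.map_eq_zero _).1 hp0)
  have hirr : ∀ {R : F[X]} {p : F[X]}, p ∈ normalizedFactors R → R ≠ 0 → Irreducible p ∧ p.Monic :=
    fun {R p} hp hR0 => ⟨UniqueFactorizationMonoid.irreducible_of_normalized_factor p hp,
      (Polynomial.mem_normalizedFactors_iff hR0).1 hp |>.2.1⟩
  have hnd : ∀ {p : F[X]}, Irreducible p → (p.map (algebraMap F K)).roots.Nodup := fun {p} hp =>
    nodup_roots (Polynomial.Separable.map (PerfectField.separable_of_irreducible hp))
  have hcount : ∀ {p : F[X]}, p ∈ normalizedFactors P → ∀ a ∈ (p.map (algebraMap F K)).roots,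
      (Q.map (algebraMap F K)).roots.count a = (normalizedFactors Q).count p := by
    intro p hp a ha
    obtain ⟨hpi, hpm⟩ := hirr hp hP.ne_zero
    have hmin : ∀ {q : F[X]}, Irreducible q → q.Monic → a ∈ (q.map (algebraMap F K)).roots →
        q = minpoly F a := fun {q} hqi hqm hq => by
      have h0 := (mem_roots'.1 hq).2
      rw [IsRoot.def, eval_map, ← aeval_def] at h0
      exact minpoly.eq_of_irreducible_of_monic hqi h0 hqm
    rw [hfac hQ, Multiset.count_bind]
    have : ∀ q ∈ normalizedFactors Q,
        (q.map (algebraMap F K)).roots.count a = if p = q then 1 else 0 := by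
      intro q hq
      obtain ⟨hqi, hqm⟩ := hirr hq hQ.ne_zero
      split_ifs with hpq
      · exact Multiset.count_eq_one_of_mem (hnd hqi) (hpq ▸ ha)
      · exact Multiset.count_eq_zero.2 fun hmem =>
          hpq ((hmin hpi hpm ha).trans (hmin hqi hqm hmem).symm)
    rw [Multiset.map_congr rfl this]
    induction normalizedFactors Q using Multiset.induction_on with
    | empty => simp
    | cons q t ih => rw [Multiset.map_cons, Multiset.sum_cons, ih, Multiset.count_cons, add_comm]
  rw [pairCount, hfac hP, Multiset.map_bind, Multiset.sum_bind,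
    Finset.sum_multiset_map_count]
  refine Finset.sum_congr rfl fun p hp => ?_
  obtain ⟨hpi, hpm⟩ := hirr (Multiset.mem_toFinset.1 hp) hP.ne_zero
  rw [smul_eq_mul, Multiset.map_congr rfl (hcount (Multiset.mem_toFinset.1 hp)), Multiset.map_const',
    Multiset.sum_replicate, smul_eq_mul, IsAlgClosed.card_roots_eq_natDegree, natDegree_map]
  ring

end Factors

end Groth.AbVarTate
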