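import Groth.Agent.AbVarTate.Tate
import Groth.Agent.AbVarTate.FrobGal
import Groth.Agent.AbVarTate.LinAlg
import Groth.Agent.AbVarMul.FrobWeil
import Groth.Agent.AbVarMul.DegCharpolyBC

/-!
# The rank of `Hom(A, B)` over a finite field is the dimension of the intertwiners of Frobenius
-/

set_option autoImplicit false
set_option linter.unusedSectionVars false
universe u

open CategoryTheory MonoidalCategory CartesianMonoidalCategory MonObj GrpObj AlgebraicGeometry
open AbDual
open scoped TensorProduct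

noncomputable section

namespace Groth.AbVarTate

open Groth.AbVarMul

section General

variable {R F : Type*} [CommRing R] [IsDomain R] [Field F] [Algebra R F] [IsFractionRing R F]
  {M N : Type*} [AddCommGroup M] [Module R M] [AddCommGroup N] [Module R N] [Module.Free R N]

theorem one_tmul_injective : Function.Injective (fun z : N => (1 : F) ⊗ₜ[R] z) := fun a b hab =>
  (TensorProduct.lid R N).symm.injective
    (Module.Flat.rTensor_preserves_injective_linearMap (Algebra.linearMap R F)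
      (IsFractionRing.injective R F) (by simpa using hab))

theorem baseChange_injective {f g : M →ₗ[R] N} (h : f.baseChange F = g.baseChange F) : f = g :=
  LinearMap.ext fun z => one_tmul_injective (F := F) (by
    simpa only [LinearMap.baseChange_tmul] using LinearMap.congr_fun h ((1 : F) ⊗ₜ[R] z))

/-- Independent maps stay independent after extension to the fraction field. -/
theorem linearIndependent_baseChange {J : Type*} {f : J → (M →ₗ[R] N)}
    (hf : LinearIndependent R f) : LinearIndependent F (fun j => (f j).baseChange F) := by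
  classical
  refine (linearIndependent_iff' (R := F) (v := fun j => (f j).baseChange F)).2 fun t c hc i hi => ?_
  obtain ⟨d, hd⟩ := IsLocalization.exist_integer_multiples (nonZeroDivisors R) t c
  choose a ha using hd
  let a' : J → R := fun j => if h : j ∈ t then a j h else 0
  have ha' : ∀ j ∈ t, algebraMap R F (a' j) = algebraMap R F (d : R) * c j := fun j hj => by
    simp only [a', dif_pos hj, ha, Algebra.smul_def]
  have key : ∀ z : M, ∑ j ∈ t, a' j • f j z = 0 := fun z => one_tmul_injective (F := F) (by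
    have h0 := congrArg (algebraMap R F (d : R) • ·)
      (LinearMap.congr_fun hc ((1 : F) ⊗ₜ[R] z))
    simp only [LinearMap.coe_sum, Finset.sum_apply, LinearMap.smul_apply, LinearMap.zero_apply,
      LinearMap.baseChange_tmul, Finset.smul_sum, smul_zero, smul_smul] at h0
    show (1 : F) ⊗ₜ[R] (∑ j ∈ t, a' j • f j z) = (1 : F) ⊗ₜ[R] (0 : N)
    rw [TensorProduct.tmul_zero, TensorProduct.tmul_sum, ← h0]
    refine Finset.sum_congr rfl fun j hj => ?_
    rw [TensorProduct.tmul_smul, ← algebraMap_smul F (a' j), ha' j hj])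
  have := (linearIndependent_iff'.1 hf) t a' (LinearMap.ext fun z => by
    rw [LinearMap.coe_sum, Finset.sum_apply, LinearMap.zero_apply]; exact key z) i hi
  have h2 := ha' i hi
  rw [this, map_zero, eq_comm, mul_eq_zero] at h2
  exact h2.resolve_left ((map_ne_zero_iff _ (IsFractionRing.injective R F)).2
    (nonZeroDivisors.coe_ne_zero d))

end General

variable {k : Type u} [Field k] {Ω : Type u} [Field Ω] [Algebra k Ω] [IsAlgClosure k Ω]
  {l : ℕ} [Fact l.Prime]
  {A B : Over (Spec (CommRingCat.of k))}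
  [GrpObj A] [IsCommMonObj A] [IsProper A.hom] [GeometricallyIntegral A.hom]
  [GrpObj B] [IsCommMonObj B] [IsProper B.hom] [GeometricallyIntegral B.hom]

local notation "Ω₀" => (SGA7.pt (K := k) Ω)

/-- The rational Tate map of a homomorphism in `EndAV.Hom`. -/
abbrev vMap (l : ℕ) [Fact l.Prime] (Ω : Type u) [Field Ω] [Algebra k Ω] (φ : EndAV.Hom A B) :
    ℚ_[l] ⊗[ℤ_[l]] TateMod A l (SGA7.pt (K := k) Ω) →ₗ[ℚ_[l]]
      ℚ_[l] ⊗[ℤ_[l]] TateMod B l (SGA7.pt (K := k) Ω) :=
  (EndAV.Hom.tateMap (A := A) (B := B) l (SGA7.pt (K := k) Ω) φ).baseChange ℚ_[l]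


variable [Finite k] (πA : A ⟶ A) [IsMonHom πA] (hπAb : πA.left.base = 𝟙 _)
  (hπAle : ∀ U : A.left.Opens, U ≤ πA.left ⁻¹ᵁ U)
  (hπAapp : ∀ (U : A.left.Opens) (s : Γ(A.left, U)), (πA.left.appLE U U (hπAle U)).hom s = s ^ Nat.card k)
  (πB : B ⟶ B) [IsMonHom πB] (hπBb : πB.left.base = 𝟙 _)
  (hπBle : ∀ U : B.left.Opens, U ≤ πB.left ⁻¹ᵁ U)
  (hπBapp : ∀ (U : B.left.Opens) (s : Γ(B.left, U)), (πB.left.appLE U U (hπBle U)).hom s = s ^ Nat.card k)

include hπAapp in
omit [IsAlgClosure k Ω] in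
/-- The minimal polynomial of Frobenius annihilates it on the rational Tate module. -/
theorem frob_killer :
    Squarefree ((minpoly ℚ (EndAV.toEnd0 (EndAV.End.of πA))).map (algebraMap ℚ ℚ_[l])) ∧
      Polynomial.aeval (qMap (Ω := Ω) (l := l) πA)
        ((minpoly ℚ (EndAV.toEnd0 (EndAV.End.of πA))).map (algebraMap ℚ ℚ_[l])) = 0 := by
  have hsq := (Groth.AbVarMul.frob_minpoly hπAle hπAapp).1
  obtain ⟨q, c, hc, hq, hqπ⟩ := Groth.AbVarMul.exists_int_smul_minpoly (EndAV.End.of πA)
  refine ⟨(PerfectField.separable_iff_squarefree.2 hsq).map.squarefree, ?_⟩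
  let Φ : EndAV.End A →+* Module.End ℚ_[l] (ℚ_[l] ⊗[ℤ_[l]] TateMod A l Ω₀) :=
    (Module.End.baseChangeHom ℤ_[l] ℚ_[l] (TateMod A l Ω₀)).toRingHom.comp
      (EndAV.End.tateRep (A := A) l Ω₀)
  have h := congrArg Φ hqπ
  rw [map_zero, Polynomial.hom_eval₂, RingHom.ext_int (Φ.comp _)
    (((algebraMap ℚ_[l] (Module.End ℚ_[l] (ℚ_[l] ⊗[ℤ_[l]] TateMod A l Ω₀))).comp
      (algebraMap ℚ ℚ_[l])).comp (Int.castRingHom ℚ)), ← Polynomial.eval₂_map, hq,
    ← Polynomial.eval₂_map, ← Polynomial.aeval_def] at h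
  rw [show (c • minpoly ℚ (EndAV.toEnd0 (EndAV.End.of πA))).map (algebraMap ℚ ℚ_[l]) =
    c • (minpoly ℚ (EndAV.toEnd0 (EndAV.End.of πA))).map (algebraMap ℚ ℚ_[l]) from
      map_zsmul (Polynomial.mapRingHom (algebraMap ℚ ℚ_[l])) c _, map_zsmul,
    ← Int.cast_smul_eq_zsmul ℚ_[l], smul_eq_zero] at h
  exact h.resolve_left (Int.cast_ne_zero.2 hc)

variable (hKB : KernelBound.{u}) (hBF : BoundedFinite k) (hl : (l : k) ≠ 0)

include hKB hBF hl hπAb hπAapp hπBb hπBapp in
/-- **The intertwiners of Frobenius are the combinations of homomorphisms.** -/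
theorem intertwiners_eq_span :
    intertwiners (qMap (Ω := Ω) (l := l) πA) (qMap (Ω := Ω) (l := l) πB) =
      Submodule.span ℚ_[l] (Set.range (vMap (A := A) (B := B) l Ω)) := by
  classical
  have : IsAlgClosed Ω := IsAlgClosure.isAlgClosed k
  have := (free_finite_tateMod Ω A hl).1
  have := (free_finite_tateMod Ω A hl).2
  have := (free_finite_tateMod Ω B hl).1
  refine le_antisymm (fun ψ hψ => ?_) (Submodule.span_le.2 ?_)
  · rw [mem_intertwiners] at hψ
    -- an integral multiple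
    let b := Module.Free.chooseBasis ℤ_[l] (TateMod A l Ω₀)
    have hden : ∀ i, ∃ (c : ℚ_[l]) (z : TateMod B l Ω₀), c ≠ 0 ∧
        c • ψ ((1 : ℚ_[l]) ⊗ₜ[ℤ_[l]] b i) = (1 : ℚ_[l]) ⊗ₜ[ℤ_[l]] z :=
      fun i => exists_pow_smul_eq_one_tmul _
    choose c z hc hz using hden
    obtain ⟨d, hd⟩ := IsLocalization.exist_integer_multiples (nonZeroDivisors ℤ_[l]) Finset.univ
      (fun i => (c i)⁻¹)
    choose a ha using fun i => hd i (Finset.mem_univ i)
    let w : TateMod A l Ω₀ →ₗ[ℤ_[l]] TateMod B l Ω₀ := b.constr ℤ_[l] fun i => a i • z i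
    have hd0 : algebraMap ℤ_[l] ℚ_[l] (d : ℤ_[l]) ≠ 0 :=
      (map_ne_zero_iff _ (IsFractionRing.injective _ _)).2 (nonZeroDivisors.coe_ne_zero d)
    have hw : w.baseChange ℚ_[l] = algebraMap ℤ_[l] ℚ_[l] (d : ℤ_[l]) • ψ := by
      refine (Algebra.TensorProduct.basis ℚ_[l] b).ext fun i => ?_
      rw [Algebra.TensorProduct.basis_apply, LinearMap.baseChange_tmul,
        show w (b i) = a i • z i from b.constr_basis _ _ _, TensorProduct.tmul_smul, ← hz,
        ← algebraMap_smul ℚ_[l] (a i), smul_smul, ha, Algebra.smul_def, LinearMap.smul_apply,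
        _root_.mul_assoc, inv_mul_cancel₀ (hc i), _root_.mul_one]
    have hcomm : ∀ τ : Ω ≃ₐ[k] Ω, w ∘ₗ tateGal A l τ = tateGal B l τ ∘ₗ w :=
      (commute_galois_iff πA hπAb hπAle hπAapp πB hπBb hπBle hπBapp w).2
        (baseChange_injective (F := ℚ_[l]) (by
          rw [LinearMap.baseChange_comp, LinearMap.baseChange_comp, hw, LinearMap.smul_comp,
            LinearMap.comp_smul, hψ]))
    have hwS := mem_span_of_commute hKB hBF hl w hcomm
    have hS : w.baseChange ℚ_[l] ∈ Submodule.span ℚ_[l] (Set.range (vMap (A := A) (B := B) l Ω)) := by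
      clear hw hcomm
      generalize w = w' at hwS ⊢
      induction hwS using Submodule.span_induction with
      | mem x hx => obtain ⟨φ, rfl⟩ := hx; exact Submodule.subset_span ⟨φ, rfl⟩
      | zero => rw [LinearMap.baseChange_zero]; exact Submodule.zero_mem _
      | add x y _ _ hx hy => rw [LinearMap.baseChange_add]; exact Submodule.add_mem _ hx hy
      | smul c x _ hx =>
        rw [LinearMap.baseChange_smul, ← algebraMap_smul ℚ_[l] c]
        exact Submodule.smul_mem _ _ hx
    rw [hw] at hS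
    exact (Submodule.smul_mem_iff _ hd0).1 hS
  · rintro _ ⟨φ, rfl⟩
    rw [SetLike.mem_coe, mem_intertwiners, ← LinearMap.baseChange_comp, ← LinearMap.baseChange_comp]
    refine congrArg (LinearMap.baseChange ℚ_[l]) ?_
    refine (commute_galois_iff πA hπAb hπAle hπAapp πB hπBb hπBle hπBapp _).1 fun τ => ?_
    exact tateMap_tateGal φ.toHom τ

include hKB hBF hl hπAb hπAapp hπBb hπBapp in
/-- **The rank of `Hom(A, B)`.** -/
theorem finrank_hom_eq :
    Module.finrank ℤ (EndAV.Hom A B) =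
      Module.finrank ℚ_[l] (intertwiners (qMap (Ω := Ω) (l := l) πA) (qMap (Ω := Ω) (l := l) πB)) := by
  classical
  have : IsAlgClosed Ω := IsAlgClosure.isAlgClosed k
  obtain ⟨g, hg⟩ := Groth.FibreDim.exists_dim_eq_nat A
  obtain ⟨h, hh⟩ := Groth.FibreDim.exists_dim_eq_nat B
  obtain ⟨hfree, hfin, -⟩ := free_finite_hom (A := A) (B := B) hg hh
  have := (free_finite_tateMod Ω B hl).1
  let bs := Module.Free.chooseBasis ℤ (EndAV.Hom A B)
  rw [intertwiners_eq_span πA hπAb hπAle hπAapp πB hπBb hπBle hπBapp hKB hBF hl]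
  have hsp : Submodule.span ℚ_[l] (Set.range (vMap (A := A) (B := B) l Ω)) =
      Submodule.span ℚ_[l] (Set.range fun i => vMap l Ω (bs i)) := by
    refine le_antisymm (Submodule.span_le.2 ?_) (Submodule.span_mono ?_)
    · rintro _ ⟨φ, rfl⟩
      let Ψ : EndAV.Hom A B →+ (ℚ_[l] ⊗[ℤ_[l]] TateMod A l Ω₀ →ₗ[ℚ_[l]] ℚ_[l] ⊗[ℤ_[l]] TateMod B l Ω₀) :=
        AddMonoidHom.mk' (fun ψ => vMap l Ω ψ) fun x y => by
          simp only [vMap, map_add, LinearMap.baseChange_add]
      show Ψ φ ∈ _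
      rw [← bs.sum_repr φ, map_sum]
      refine Submodule.sum_mem _ fun i _ => ?_
      rw [map_zsmul, ← Int.cast_smul_eq_zsmul ℚ_[l]]
      exact Submodule.smul_mem _ _ (Submodule.subset_span ⟨i, rfl⟩)
    · rintro _ ⟨i, rfl⟩; exact ⟨bs i, rfl⟩
  rw [hsp, finrank_span_eq_card (linearIndependent_baseChange
    (linearIndependent_tateMap_bc Ω hl _ bs.linearIndependent)), Module.finrank_eq_card_chooseBasisIndex]

include hKB hBF hl hπAb hπAapp hπBb hπBapp in
/-- **The rank of `Hom(A, B)` from the characteristic roots of Frobenius.** -/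
theorem finrank_hom_eq_pairCount (K : Type*) [Field K] [IsAlgClosed K] [DecidableEq K]
    [Algebra ℚ_[l] K] [Module.Finite ℤ_[l] (TateMod A l Ω₀)] [Module.Finite ℤ_[l] (TateMod B l Ω₀)] :
    Module.finrank ℤ (EndAV.Hom A B) =
      pairCount ((qMap (Ω := Ω) (l := l) πA).charpoly.map (algebraMap ℚ_[l] K)).roots
        ((qMap (Ω := Ω) (l := l) πB).charpoly.map (algebraMap ℚ_[l] K)).roots := by
  obtain ⟨hp, hpf⟩ := frob_killer (Ω := Ω) (l := l) πA hπAle hπAapp
  obtain ⟨hq, hqg⟩ := frob_killer (Ω := Ω) (l := l) πB hπBle hπBapp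
  rw [finrank_hom_eq πA hπAb hπAle hπAapp πB hπBb hπBle hπBapp hKB hBF hl (Ω := Ω),
    finrank_intertwiners K hp hpf hq hqg]

end Groth.AbVarTate
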