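import Groth.Agent.AbVarTate.LinAlg
import Mathlib.LinearAlgebra.Semisimple
import Mathlib.LinearAlgebra.Projection

/-!
# Intertwiners of semisimple endomorphisms over an arbitrary field
-/

set_option autoImplicit false
universe u v w

open Polynomial
open UniqueFactorizationMonoid (normalizedFactors)
open scoped Classical

noncomputable section

namespace Groth.AbVarTate

variable {K : Type u} [Field K]

/-- The number of common irreducible factors, weighted by degree. -/
def commonCount (f g : K[X]) : ℕ :=
  ((normalizedFactors f).map fun P => (normalizedFactors g).count P * P.natDegree).sum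

theorem commonCount_mul_left {f₁ f₂ : K[X]} (h₁ : f₁ ≠ 0) (h₂ : f₂ ≠ 0) (g : K[X]) :
    commonCount (f₁ * f₂) g = commonCount f₁ g + commonCount f₂ g := by
  rw [commonCount, UniqueFactorizationMonoid.normalizedFactors_mul h₁ h₂, Multiset.map_add,
    Multiset.sum_add]
  rfl

theorem commonCount_mul_right {g₁ g₂ : K[X]} (h₁ : g₁ ≠ 0) (h₂ : g₂ ≠ 0) (f : K[X]) :
    commonCount f (g₁ * g₂) = commonCount f g₁ + commonCount f g₂ := by
  simp only [commonCount, UniqueFactorizationMonoid.normalizedFactors_mul h₁ h₂, Multiset.count_add,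
    add_mul, Multiset.sum_map_add]

/-- No nontrivial invariant subspace. -/
def IsSimpleEnd {V : Type v} [AddCommGroup V] [Module K V] (π : Module.End K V) : Prop :=
  ∀ W : Submodule K V, (∀ x ∈ W, π x ∈ W) → W = ⊥ ∨ W = ⊤

/-- A simple endomorphism has irreducible characteristic polynomial and is cyclic. -/
theorem simple_spec {V : Type v} [AddCommGroup V] [Module K V] [FiniteDimensional K V]
    [Nontrivial V] {π : Module.End K V} (hπ : IsSimpleEnd π) :
    Irreducible π.charpoly ∧ ∃ v : V, v ≠ 0 ∧ ∀ x : V, ∃ q : K[X], aeval π q v = x := by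
  have hint : IsIntegral K π := Algebra.IsIntegral.isIntegral π
  obtain ⟨v, hv⟩ := exists_ne (0 : V)
  let ev : K[X] →ₗ[K] V := (LinearMap.applyₗ v).comp (aeval π).toLinearMap
  have hev : LinearMap.range ev = ⊤ := by
    refine (hπ _ ?_).resolve_left fun h => hv ?_
    · rintro _ ⟨q, rfl⟩
      exact ⟨X * q, by simp [ev]⟩
    · have : ev 1 ∈ LinearMap.range ev := ⟨1, rfl⟩
      rw [h, Submodule.mem_bot] at this
      simpa [ev] using this
  have hirr : Irreducible (minpoly K π) := by
    refine ⟨minpoly.not_isUnit K π, fun a b hab => ?_⟩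
    have h0 : aeval π a * aeval π b = 0 := by rw [← map_mul, ← hab, minpoly.aeval]
    have hne := minpoly.ne_zero hint
    have hdeg : ∀ {c d : K[X]}, minpoly K π = c * d → aeval π c = 0 → IsUnit d := by
      intro c d hcd hc
      obtain ⟨r, hr⟩ := minpoly.dvd K π hc
      refine IsUnit.of_mul_eq_one r ?_
      have : minpoly K π * (d * r) = minpoly K π * 1 := by
        rw [mul_one, mul_comm d r, ← mul_assoc, ← hr, ← hcd]
      exact mul_left_cancel₀ hne this
    rcases hπ (LinearMap.ker (aeval π a)) (fun x hx => by
      rw [LinearMap.mem_ker] at hx ⊢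
      show (aeval π a * π) x = 0
      rw [show aeval π a * π = π * aeval π a by simpa using congrArg (aeval π) (mul_comm a X)]
      show π (aeval π a x) = 0
      rw [hx, map_zero]) with h | h
    · refine Or.inl (hdeg (mul_comm a b ▸ hab) (LinearMap.ext fun x => ?_))
      refine LinearMap.ker_eq_bot.1 h ?_
      rw [LinearMap.zero_apply, map_zero]
      exact LinearMap.congr_fun h0 x
    · exact Or.inr (hdeg hab (LinearMap.ker_eq_top.1 h))
  refine ⟨?_, v, hv, fun x => ?_⟩
  · have hle : Module.finrank K V ≤ (minpoly K π).natDegree := by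
      let W := Submodule.span K (Set.range fun i : Fin (minpoly K π).natDegree => (π ^ (i : ℕ)) v)
      have hW : (⊤ : Submodule K V) ≤ W := by
        rw [← hev]
        rintro _ ⟨q, rfl⟩
        show aeval π q v ∈ W
        rw [← aeval_modByMonic_eq_self_of_root (p := q) (minpoly.aeval K π)]
        rcases eq_or_ne (q %ₘ minpoly K π) 0 with h0 | h0
        · rw [h0, map_zero]; exact zero_mem _
        rw [aeval_eq_sum_range, LinearMap.sum_apply]
        refine Submodule.sum_mem _ fun i hi => ?_
        rw [LinearMap.smul_apply]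
        refine Submodule.smul_mem _ _ (Submodule.subset_span ⟨⟨i, ?_⟩, rfl⟩)
        have h1 := natDegree_lt_natDegree h0 (degree_modByMonic_lt q (minpoly.monic hint))
        have := Finset.mem_range.1 hi
        omega
      rw [← finrank_top K V]
      refine (Submodule.finrank_mono hW).trans ((finrank_range_le_card _).trans ?_)
      rw [Fintype.card_fin]
    have heq : minpoly K π = π.charpoly :=
      (eq_of_monic_of_dvd_of_natDegree_le (minpoly.monic hint) π.charpoly_monic
        (minpoly.dvd K π π.aeval_self_charpoly) (by rw [π.charpoly_natDegree]; exact hle)).symm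
    exact heq ▸ hirr
  · obtain ⟨q, hq⟩ := (hev ▸ Submodule.mem_top : x ∈ LinearMap.range ev)
    exact ⟨q, hq⟩

theorem intertwine_aeval {V : Type v} {W : Type w} [AddCommGroup V] [Module K V] [AddCommGroup W]
    [Module K W] {π : Module.End K V} {σ : Module.End K W} {h : V →ₗ[K] W} (hh : h ∘ₗ π = σ ∘ₗ h)
    (q : K[X]) (x : V) : h (aeval π q x) = aeval σ q (h x) := by
  induction q using Polynomial.induction_on' generalizing x with
  | add p r hp hr => simp [hp, hr]
  | monomial n a =>
    induction n generalizing x with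
    | zero => simp [Module.algebraMap_end_apply]
    | succ n ih =>
      rw [← Polynomial.monomial_mul_X, map_mul, map_mul, aeval_X, aeval_X, Module.End.mul_apply,
        Module.End.mul_apply, ih, show h (π x) = σ (h x) from LinearMap.congr_fun hh x]

theorem mem_intertwiners_iff0 {V : Type v} {W : Type w} [AddCommGroup V] [Module K V] [AddCommGroup W]
    [Module K W] {π : Module.End K V} {σ : Module.End K W} {h : V →ₗ[K] W} :
    h ∈ intertwiners π σ ↔ h ∘ₗ π = σ ∘ₗ h := by
  rw [LinearMap.mem_ker, LinearMap.sub_apply, sub_eq_zero]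
  rfl

/-- The simple case. -/
theorem finrank_intertwiners_simple {V : Type v} {W : Type w} [AddCommGroup V] [Module K V]
    [FiniteDimensional K V] [AddCommGroup W] [Module K W] [FiniteDimensional K W] [Nontrivial V]
    [Nontrivial W] {π : Module.End K V} {σ : Module.End K W} (hπ : IsSimpleEnd π)
    (hσ : IsSimpleEnd σ) :
    Module.finrank K (intertwiners π σ) = commonCount π.charpoly σ.charpoly := by
  obtain ⟨hP, v, hv, hcyc⟩ := simple_spec hπ
  obtain ⟨hQ, -⟩ := simple_spec hσ
  have hnP : normalize π.charpoly = π.charpoly := π.charpoly_monic.normalize_eq_self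
  have hnQ : normalize σ.charpoly = σ.charpoly := σ.charpoly_monic.normalize_eq_self
  rw [commonCount, UniqueFactorizationMonoid.normalizedFactors_irreducible hP,
    UniqueFactorizationMonoid.normalizedFactors_irreducible hQ, hnP, hnQ, Multiset.map_singleton,
    Multiset.sum_singleton, Multiset.count_singleton]
  let Φ : intertwiners π σ →ₗ[K] W := (LinearMap.applyₗ v).comp (intertwiners π σ).subtype
  have hinj : Function.Injective Φ := by
    rintro ⟨h, hh⟩ ⟨h', hh'⟩ he
    refine Subtype.ext (LinearMap.ext fun x => ?_)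
    obtain ⟨q, rfl⟩ := hcyc x
    rw [intertwine_aeval (mem_intertwiners_iff0.1 hh), intertwine_aeval (mem_intertwiners_iff0.1 hh'),
      show h v = h' v from he]
  by_cases heq : π.charpoly = σ.charpoly
  · rw [if_pos heq, one_mul, heq, σ.charpoly_natDegree]
    refine (LinearEquiv.ofBijective Φ ⟨hinj, fun w => ?_⟩).finrank_eq
    let evV : K[X] →ₗ[K] V := (LinearMap.applyₗ v).comp (aeval π).toLinearMap
    let evW : K[X] →ₗ[K] W := (LinearMap.applyₗ w).comp (aeval σ).toLinearMap
    have hker : LinearMap.ker evV ≤ LinearMap.ker evW := by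
      intro q hq
      rw [LinearMap.mem_ker] at hq ⊢
      have hall : aeval π q = 0 := LinearMap.ext fun x => by
        obtain ⟨r, rfl⟩ := hcyc x
        show (aeval π q * aeval π r) v = 0
        rw [← map_mul, mul_comm, map_mul]
        show aeval π r (aeval π q v) = 0
        rw [show aeval π q v = 0 from hq, map_zero]
      have hdvd : π.charpoly ∣ q := (minpoly.eq_of_irreducible_of_monic hP π.aeval_self_charpoly
        π.charpoly_monic) ▸ minpoly.dvd K π hall
      obtain ⟨r, rfl⟩ := heq ▸ hdvd
      show aeval σ (σ.charpoly * r) w = 0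
      rw [map_mul, σ.aeval_self_charpoly, zero_mul, LinearMap.zero_apply]
    have hsur : Function.Surjective evV := hcyc
    let h : V →ₗ[K] W :=
      ((LinearMap.ker evV).liftQ evW hker).comp (evV.quotKerEquivOfSurjective hsur).symm.toLinearMap
    have hh : ∀ q : K[X], h (evV q) = evW q := fun q => by
      have : (evV.quotKerEquivOfSurjective hsur).symm (evV q) = Submodule.Quotient.mk q := by
        rw [LinearEquiv.symm_apply_eq]; rfl
      simp only [h, LinearMap.comp_apply, LinearEquiv.coe_coe, this, Submodule.liftQ_apply]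
    refine ⟨⟨h, mem_intertwiners_iff0.2 (LinearMap.ext fun x => ?_)⟩, ?_⟩
    · obtain ⟨q, rfl⟩ := hsur x
      show h (π (evV q)) = σ (h (evV q))
      rw [hh]
      have h1 : π (evV q) = evV (X * q) := by simp [evV]
      have h2 : σ (evW q) = evW (X * q) := by simp [evW]
      rw [h1, h2, hh]
    · show h v = w
      have := hh 1
      simpa [evV, evW] using this
  · rw [if_neg heq, zero_mul]
    have : ∀ h ∈ intertwiners π σ, h = 0 := by
      intro h hh
      obtain ⟨a, b, hab⟩ := (hP.coprime_iff_not_dvd).2 fun hdvd =>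
        heq (eq_of_monic_of_associated π.charpoly_monic σ.charpoly_monic (hP.associated_of_dvd hQ hdvd))
      ext x
      have h1 := intertwine_aeval (mem_intertwiners_iff0.1 hh) π.charpoly x
      rw [π.aeval_self_charpoly, LinearMap.zero_apply, map_zero] at h1
      have h2 : aeval σ (a * π.charpoly + b * σ.charpoly) (h x) = h x := by rw [hab, map_one]; rfl
      rw [map_add, map_mul, map_mul, σ.aeval_self_charpoly, mul_zero, add_zero, Module.End.mul_apply,
        ← h1, map_zero] at h2
      exact h2.symm
    rw [show intertwiners π σ = ⊥ from (Submodule.eq_bot_iff _).2 this, finrank_bot]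

section Split

variable {V : Type v} {W : Type w} [AddCommGroup V] [Module K V] [FiniteDimensional K V]
  [AddCommGroup W] [Module K W] [FiniteDimensional K W]

omit [FiniteDimensional K V] [FiniteDimensional K W] in
theorem mem_intertwiners_iff {π : Module.End K V} {σ : Module.End K W} {h : V →ₗ[K] W} :
    h ∈ intertwiners π σ ↔ ∀ x, h (π x) = σ (h x) := by
  rw [LinearMap.mem_ker, LinearMap.sub_apply, sub_eq_zero, LinearMap.ext_iff]
  rfl

theorem charpoly_split {π : Module.End K V} {p q : Submodule K V} (hp : ∀ x ∈ p, π x ∈ p)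
    (hq : ∀ x ∈ q, π x ∈ q) (h : IsCompl p q) :
    π.charpoly = (π.restrict hp).charpoly * (π.restrict hq).charpoly := by
  rw [← LinearMap.charpoly_prodMap, ← LinearEquiv.charpoly_conj (Submodule.prodEquivOfIsCompl p q h)]
  congr 1
  refine LinearMap.ext fun x => ?_
  obtain ⟨⟨a, b⟩, rfl⟩ := (Submodule.prodEquivOfIsCompl p q h).surjective x
  rw [LinearEquiv.conj_apply_apply, LinearEquiv.symm_apply_apply, LinearMap.prodMap_apply,
    Submodule.coe_prodEquivOfIsCompl', Submodule.coe_prodEquivOfIsCompl', map_add]
  rfl

theorem finrank_intertwiners_split_left {π : Module.End K V} (σ : Module.End K W)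
    {p q : Submodule K V} (hp : ∀ x ∈ p, π x ∈ p) (hq : ∀ x ∈ q, π x ∈ q) (h : IsCompl p q) :
    Module.finrank K (intertwiners π σ) =
      Module.finrank K (intertwiners (π.restrict hp) σ) +
        Module.finrank K (intertwiners (π.restrict hq) σ) := by
  rw [← Module.finrank_prod]
  refine LinearEquiv.finrank_eq
    { toFun := fun f => (⟨f.1 ∘ₗ p.subtype, mem_intertwiners_iff.2 fun x => mem_intertwiners_iff.1 f.2 x⟩,
        ⟨f.1 ∘ₗ q.subtype, mem_intertwiners_iff.2 fun x => mem_intertwiners_iff.1 f.2 x⟩)
      map_add' := fun _ _ => rfl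
      map_smul' := fun _ _ => rfl
      invFun := fun g => ⟨LinearMap.ofIsCompl h g.1.1 g.2.1, mem_intertwiners_iff.2 fun x => ?_⟩
      left_inv := fun f => Subtype.ext (LinearMap.ofIsCompl_eq h (fun _ => rfl) fun _ => rfl)
      right_inv := fun g => Prod.ext (Subtype.ext (LinearMap.ext fun x => LinearMap.ofIsCompl_apply_left h x))
        (Subtype.ext (LinearMap.ext fun x => LinearMap.ofIsCompl_apply_right h x)) }
  obtain ⟨⟨a, b⟩, rfl⟩ := (Submodule.prodEquivOfIsCompl p q h).surjective x
  rw [Submodule.coe_prodEquivOfIsCompl', map_add, map_add, map_add, map_add]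
  congr 1
  · rw [show π (a : V) = ((π.restrict hp a : p) : V) from rfl, LinearMap.ofIsCompl_apply_left,
      LinearMap.ofIsCompl_apply_left]
    exact mem_intertwiners_iff.1 g.1.2 a
  · rw [show π (b : V) = ((π.restrict hq b : q) : V) from rfl, LinearMap.ofIsCompl_apply_right,
      LinearMap.ofIsCompl_apply_right]
    exact mem_intertwiners_iff.1 g.2.2 b

theorem finrank_intertwiners_split_right (π : Module.End K V) {σ : Module.End K W}
    {p q : Submodule K W} (hp : ∀ x ∈ p, σ x ∈ p) (hq : ∀ x ∈ q, σ x ∈ q) (h : IsCompl p q) :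
    Module.finrank K (intertwiners π σ) =
      Module.finrank K (intertwiners π (σ.restrict hp)) +
        Module.finrank K (intertwiners π (σ.restrict hq)) := by
  have := Module.Free.of_divisionRing K ↥(intertwiners π (σ.restrict hp))
  have := Module.Free.of_divisionRing K ↥(intertwiners π (σ.restrict hq))
  rw [← Module.finrank_prod]
  let e := Submodule.prodEquivOfIsCompl p q h
  have he : ∀ y : W, e.symm (σ y) = (σ.restrict hp (e.symm y).1, σ.restrict hq (e.symm y).2) := by
    intro y
    rw [LinearEquiv.symm_apply_eq]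
    show σ y = _
    conv_lhs => rw [← e.apply_symm_apply y]
    rw [Submodule.coe_prodEquivOfIsCompl', Submodule.coe_prodEquivOfIsCompl', map_add]
    rfl
  refine LinearEquiv.finrank_eq
    { toFun := fun f => (⟨(LinearMap.fst K p q ∘ₗ e.symm.toLinearMap) ∘ₗ f.1, mem_intertwiners_iff.2 fun x => ?_⟩,
        ⟨(LinearMap.snd K p q ∘ₗ e.symm.toLinearMap) ∘ₗ f.1, mem_intertwiners_iff.2 fun x => ?_⟩)
      map_add' := fun _ _ => Prod.ext (Subtype.ext (LinearMap.comp_add _ _ _))
        (Subtype.ext (LinearMap.comp_add _ _ _))
      map_smul' := fun _ _ => Prod.ext (Subtype.ext (LinearMap.comp_smul _ _ _))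
        (Subtype.ext (LinearMap.comp_smul _ _ _))
      invFun := fun g => ⟨p.subtype ∘ₗ g.1.1 + q.subtype ∘ₗ g.2.1, mem_intertwiners_iff.2 fun x => ?_⟩
      left_inv := fun f => Subtype.ext (LinearMap.ext fun x => ?_)
      right_inv := fun g => Prod.ext (Subtype.ext (LinearMap.ext fun x => ?_))
        (Subtype.ext (LinearMap.ext fun x => ?_)) }
  · show (e.symm (f.1 (π x))).1 = _
    rw [mem_intertwiners_iff.1 f.2 x, he]
    rfl
  · show (e.symm (f.1 (π x))).2 = _
    rw [mem_intertwiners_iff.1 f.2 x, he]
    rfl
  · show (g.1.1 (π x) : W) + (g.2.1 (π x) : W) = σ ((g.1.1 x : W) + (g.2.1 x : W))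
    rw [mem_intertwiners_iff.1 g.1.2 x, mem_intertwiners_iff.1 g.2.2 x, map_add]
    rfl
  · show ((e.symm (f.1 x)).1 : W) + ((e.symm (f.1 x)).2 : W) = f.1 x
    exact (Submodule.coe_prodEquivOfIsCompl' p q h _).symm.trans (e.apply_symm_apply _)
  · show (e.symm ((g.1.1 x : W) + (g.2.1 x : W))).1 = g.1.1 x
    rw [show (g.1.1 x : W) + (g.2.1 x : W) = e (g.1.1 x, g.2.1 x) from
      (Submodule.coe_prodEquivOfIsCompl' p q h (g.1.1 x, g.2.1 x)).symm, e.symm_apply_apply]
  · show (e.symm ((g.1.1 x : W) + (g.2.1 x : W))).2 = g.2.1 x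
    rw [show (g.1.1 x : W) + (g.2.1 x : W) = e (g.1.1 x, g.2.1 x) from
      (Submodule.coe_prodEquivOfIsCompl' p q h (g.1.1 x, g.2.1 x)).symm, e.symm_apply_apply]

end Split

/-- Reduction of a semisimple endomorphism to simple ones. -/
theorem induction_simple {motive : ∀ (V : Type v) [AddCommGroup V] [Module K V] [FiniteDimensional K V],
      Module.End K V → Prop}
    (zero : ∀ (V : Type v) [AddCommGroup V] [Module K V] [FiniteDimensional K V] [Subsingleton V]
      (π : Module.End K V), motive V π)
    (simple : ∀ (V : Type v) [AddCommGroup V] [Module K V] [FiniteDimensional K V] [Nontrivial V]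
      (π : Module.End K V), IsSimpleEnd π → motive V π)
    (split : ∀ (V : Type v) [AddCommGroup V] [Module K V] [FiniteDimensional K V] (π : Module.End K V)
      (p q : Submodule K V) (hp : ∀ x ∈ p, π x ∈ p) (hq : ∀ x ∈ q, π x ∈ q), IsCompl p q →
      motive p (π.restrict hp) → motive q (π.restrict hq) → motive V π) :
    ∀ (V : Type v) [AddCommGroup V] [Module K V] [FiniteDimensional K V] (π : Module.End K V),
      π.IsSemisimple → motive V π := by
  suffices H : ∀ (n : ℕ) (V : Type v) [AddCommGroup V] [Module K V] [FiniteDimensional K V]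
      (π : Module.End K V), π.IsSemisimple → Module.finrank K V = n → motive V π from
    fun V _ _ _ π hπ => H _ V π hπ rfl
  intro n
  induction n using Nat.strong_induction_on with
  | _ n IH =>
    intro V _ _ _ π hπ hn
    rcases subsingleton_or_nontrivial V with hV | hV
    · exact zero V π
    by_cases hs : IsSimpleEnd π
    · exact simple V π hs
    simp only [IsSimpleEnd, not_forall, not_or] at hs
    obtain ⟨p, hp, hp0, hp1⟩ := hs
    obtain ⟨q, hq, hpq⟩ := Module.End.isSemisimple_iff.1 hπ p hp
    have hsum := Submodule.finrank_add_eq_of_isCompl hpq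
    have h1 : 0 < Module.finrank K p := by
      rw [Nat.pos_iff_ne_zero]
      exact fun h => hp0 (Submodule.finrank_eq_zero.1 h)
    have h2 : 0 < Module.finrank K q := by
      rw [Nat.pos_iff_ne_zero]
      intro h
      refine hp1 ?_
      have := hpq.sup_eq_top
      rwa [Submodule.finrank_eq_zero.1 h, sup_bot_eq] at this
    exact split V π p q hp hq hpq (IH _ (by omega) p _ (hπ.restrict hp) rfl)
      (IH _ (by omega) q _ (hπ.restrict hq) rfl)

/-- **The dimension of the intertwiners of two semisimple endomorphisms.** -/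
theorem finrank_intertwiners_eq_commonCount {V : Type v} {W : Type w} [AddCommGroup V] [Module K V]
    [FiniteDimensional K V] [AddCommGroup W] [Module K W] [FiniteDimensional K W]
    (π : Module.End K V) (σ : Module.End K W) (hπ : π.IsSemisimple) (hσ : σ.IsSemisimple) :
    Module.finrank K (intertwiners π σ) = commonCount π.charpoly σ.charpoly := by
  revert π
  intro π hπ
  revert W
  refine induction_simple (motive := fun V _ _ _ π => ∀ {W : Type w} [AddCommGroup W] [Module K W]
    [FiniteDimensional K W] (σ : Module.End K W), σ.IsSemisimple →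
      Module.finrank K (intertwiners π σ) = commonCount π.charpoly σ.charpoly) ?_ ?_ ?_ V π hπ
  · intro V _ _ _ _ π W _ _ _ σ _
    have : π.charpoly = 1 := π.charpoly_monic.natDegree_eq_zero.1
      (by rw [π.charpoly_natDegree]; exact Module.finrank_zero_of_subsingleton)
    rw [this, commonCount, UniqueFactorizationMonoid.normalizedFactors_one]
    simp [Module.finrank_zero_of_subsingleton]
  · intro V _ _ _ _ π hs W _ _ _ σ hσ
    refine induction_simple (motive := fun W _ _ _ σ =>
      Module.finrank K (intertwiners π σ) = commonCount π.charpoly σ.charpoly) ?_ ?_ ?_ W σ hσ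
    · intro W _ _ _ _ σ
      have : σ.charpoly = 1 := σ.charpoly_monic.natDegree_eq_zero.1
        (by rw [σ.charpoly_natDegree]; exact Module.finrank_zero_of_subsingleton)
      rw [this, commonCount, UniqueFactorizationMonoid.normalizedFactors_one]
      simp [Module.finrank_zero_of_subsingleton]
    · intro W _ _ _ _ σ hσ'
      exact finrank_intertwiners_simple hs hσ'
    · intro W _ _ _ σ p q hp hq h h1 h2
      rw [finrank_intertwiners_split_right π hp hq h, h1, h2, charpoly_split hp hq h,
        commonCount_mul_right (LinearMap.charpoly_monic _).ne_zero (LinearMap.charpoly_monic _).ne_zero]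
  · intro V _ _ _ π p q hp hq h h1 h2 W _ _ _ σ hσ
    rw [finrank_intertwiners_split_left σ hp hq h, h1 σ hσ, h2 σ hσ, charpoly_split hp hq h,
      commonCount_mul_left (LinearMap.charpoly_monic _).ne_zero (LinearMap.charpoly_monic _).ne_zero]

theorem commonCount_eq_sum (f g : K[X]) :
    commonCount f g = ∑ P ∈ (normalizedFactors f).toFinset,
      (normalizedFactors f).count P * (normalizedFactors g).count P * P.natDegree := by
  rw [commonCount, Finset.sum_multiset_map_count]
  exact Finset.sum_congr rfl fun P _ => by rw [smul_eq_mul, mul_assoc]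

end Groth.AbVarTate
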