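import Groth.Agent.AbVarTate.HomRank
import Groth.Agent.AbVarMul.SemisimpleEnd

/-!
# Isogenies from isomorphisms of Galois representations
-/

set_option autoImplicit false
set_option linter.unusedSectionVars false
universe u

open CategoryTheory MonoidalCategory CartesianMonoidalCategory MonObj GrpObj AlgebraicGeometry
open AbDual
open scoped TensorProduct

noncomputable section

namespace Groth.AbVarTate

open Groth.AbVarMul

/-- A span over a field of characteristic zero containing a bijective map contains a bijective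
integral combination. -/
theorem exists_bijective_intComb {F V W : Type*} [Field F] [CharZero F] [AddCommGroup V] [Module F V]
    [FiniteDimensional F V] [AddCommGroup W] [Module F W] [FiniteDimensional F W]
    {J : Type*} [Fintype J] (v : J → (V →ₗ[F] W)) {ψ : V →ₗ[F] W}
    (hψ : ψ ∈ Submodule.span F (Set.range v)) (hb : Function.Bijective ψ) :
    ∃ x : J → ℤ, Function.Bijective (∑ j, (x j : F) • v j : V →ₗ[F] W) := by
  classical
  let e := LinearEquiv.ofBijective ψ hb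
  let b := Module.finBasis F V
  obtain ⟨a, ha⟩ := (Submodule.mem_span_range_iff_exists_fun F).1 hψ
  let M : J → Matrix (Fin (Module.finrank F V)) (Fin (Module.finrank F V)) F :=
    fun j => LinearMap.toMatrix b (b.map e) (v j)
  let P : MvPolynomial J F :=
    (∑ j, (MvPolynomial.X j : MvPolynomial J F) • (M j).map MvPolynomial.C).det
  have hev : ∀ x : J → F, MvPolynomial.eval x P =
      (LinearMap.toMatrix b (b.map e) (∑ j, x j • v j)).det := by
    intro x
    rw [RingHom.map_det, map_sum]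
    congr 1
    ext i j
    simp [Matrix.sum_apply, RingHom.mapMatrix_apply, M]
  have hψ1 : LinearMap.toMatrix b (b.map e) ψ = 1 := by
    ext i j
    rw [LinearMap.toMatrix_apply, Module.Basis.map_repr, Matrix.one_apply]
    show b.repr (e.symm (e (b j))) i = _
    rw [e.symm_apply_apply, b.repr_self, Finsupp.single_apply]
    simp [eq_comm]
  have hP : P ≠ 0 := fun h0 => by
    have := hev a
    rw [h0, map_zero, ha, hψ1, Matrix.det_one] at this
    exact zero_ne_one this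
  obtain ⟨x, hx⟩ : ∃ x : J → ℤ, MvPolynomial.eval (fun j => (x j : F)) P ≠ 0 := by
    by_contra hcon
    push Not at hcon
    refine hP (MvPolynomial.funext_set (fun _ => Set.range (Int.cast : ℤ → F))
      (fun _ => Set.infinite_range_of_injective Int.cast_injective) fun y hy => ?_)
    choose x hx using fun j => hy j (Set.mem_univ j)
    rw [map_zero, show y = fun j => (x j : F) from funext fun j => (hx j).symm]
    exact hcon x
  refine ⟨x, ?_⟩
  have hu : IsUnit (LinearMap.toMatrix b (b.map e) (∑ j, (x j : F) • v j)).det := by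
    rw [← hev]; exact hx.isUnit
  exact (LinearEquiv.ofIsUnitDet hu).bijective

variable {k : Type u} [Field k] {Ω : Type u} [Field Ω] [Algebra k Ω] [IsAlgClosure k Ω]
  {l : ℕ} [Fact l.Prime]
  {A B : Over (Spec (CommRingCat.of k))}
  [GrpObj A] [IsCommMonObj A] [IsProper A.hom] [GeometricallyIntegral A.hom]
  [GrpObj B] [IsCommMonObj B] [IsProper B.hom] [GeometricallyIntegral B.hom]

local notation "Ω₀" => (SGA7.pt (K := k) Ω)

/-- An endomorphism bijective on the rational Tate module is finite and surjective. -/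
theorem finite_surjective_of_bijective (hl : (l : k) ≠ 0) (φ : EndAV.End A)
    (h : Function.Bijective (vMap l Ω φ)) : IsFinite φ.toHom.left ∧ Surjective φ.toHom.left := by
  have : IsAlgClosed Ω := IsAlgClosure.isAlgClosed k
  have := (free_finite_tateMod Ω A hl).1
  have := (free_finite_tateMod Ω A hl).2
  have hdet : LinearMap.det (vMap l Ω φ) ≠ 0 :=
    (LinearEquiv.isUnit_det' (LinearEquiv.ofBijective _ h)).ne_zero
  rw [LinearMap.det_baseChange] at hdet
  have h0 : homDeg φ.toHom ≠ 0 := fun h0 => hdet (by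
    rw [show EndAV.Hom.tateMap (A := A) (B := A) l Ω₀ φ = tateMapₗ (l := l) (T := Ω₀) φ.toHom from rfl,
      homDeg_eq_det Ω hl φ, h0, Nat.cast_zero, map_zero])
  have hf : IsFinite φ.toHom.left := by
    by_contra hc
    exact h0 (homDeg_of_not_isFinite _ hc)
  exact ⟨hf, (flat_surjective_of_isFinite φ.toHom rfl).2⟩

variable [Finite k] (πA : A ⟶ A) [IsMonHom πA] (hπAb : πA.left.base = 𝟙 _)
  (hπAle : ∀ U : A.left.Opens, U ≤ πA.left ⁻¹ᵁ U)
  (hπAapp : ∀ (U : A.left.Opens) (s : Γ(A.left, U)), (πA.left.appLE U U (hπAle U)).hom s = s ^ Nat.card k)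
  (πB : B ⟶ B) [IsMonHom πB] (hπBb : πB.left.base = 𝟙 _)
  (hπBle : ∀ U : B.left.Opens, U ≤ πB.left ⁻¹ᵁ U)
  (hπBapp : ∀ (U : B.left.Opens) (s : Γ(B.left, U)), (πB.left.appLE U U (hπBle U)).hom s = s ^ Nat.card k)
  (hKB : KernelBound.{u}) (hBF : BoundedFinite k) (hl : (l : k) ≠ 0)

include hKB hBF hl hπAb hπAapp hπBb hπBapp in
theorem exists_hom_bijective
    (ψ : ℚ_[l] ⊗[ℤ_[l]] TateMod A l Ω₀ →ₗ[ℚ_[l]] ℚ_[l] ⊗[ℤ_[l]] TateMod B l Ω₀)
    (hψ : ψ ∈ intertwiners (qMap (Ω := Ω) (l := l) πA) (qMap (Ω := Ω) (l := l) πB))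
    (hb : Function.Bijective ψ) : ∃ φ : EndAV.Hom A B, Function.Bijective (vMap l Ω φ) := by
  classical
  have : IsAlgClosed Ω := IsAlgClosure.isAlgClosed k
  have := (free_finite_tateMod Ω A hl).2
  have := (free_finite_tateMod Ω B hl).2
  rw [intertwiners_eq_span πA hπAb hπAle hπAapp πB hπBb hπBle hπBapp hKB hBF hl] at hψ
  obtain ⟨T, hT, hψT⟩ := Submodule.mem_span_finite_of_mem_span hψ
  choose φ hφ using fun y : T => hT y.2
  obtain ⟨x, hx⟩ := exists_bijective_intComb (fun y : T => vMap l Ω (φ y)) (ψ := ψ)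
    (Submodule.span_mono (show (T : Set _) ⊆ Set.range (fun y : T => vMap l Ω (φ y)) from
      fun y hy => ⟨⟨y, hy⟩, hφ ⟨y, hy⟩⟩) hψT) hb
  refine ⟨∑ y, x y • φ y, ?_⟩
  have : vMap l Ω (∑ y, x y • φ y) = ∑ y, (x y : ℚ_[l]) • vMap l Ω (φ y) := by
    let Ψ : EndAV.Hom A B →+ (ℚ_[l] ⊗[ℤ_[l]] TateMod A l Ω₀ →ₗ[ℚ_[l]] ℚ_[l] ⊗[ℤ_[l]] TateMod B l Ω₀) :=
      AddMonoidHom.mk' (fun ψ => vMap l Ω ψ) fun a b => by
        simp only [vMap, map_add, LinearMap.baseChange_add]
    show Ψ _ = ∑ y, (x y : ℚ_[l]) • Ψ (φ y)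
    rw [map_sum]
    exact Finset.sum_congr rfl fun y _ => by rw [map_zsmul, ← Int.cast_smul_eq_zsmul ℚ_[l]]
  rw [this]
  exact hx

include hKB hBF hl hπAb hπAapp hπBb hπBapp in
/-- **An isomorphism of the rational Tate modules compatible with Frobenius gives an isogeny.** -/
theorem exists_isogeny_of_equiv
    (e : (ℚ_[l] ⊗[ℤ_[l]] TateMod A l Ω₀) ≃ₗ[ℚ_[l]] ℚ_[l] ⊗[ℤ_[l]] TateMod B l Ω₀)
    (he : e.toLinearMap ∈ intertwiners (qMap (Ω := Ω) (l := l) πA) (qMap (Ω := Ω) (l := l) πB)) :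
    ∃ (u : A ⟶ B) (_ : IsMonHom u) (v : B ⟶ A) (_ : IsMonHom v) (n : ℕ), 0 < n ∧
      u ≫ v = (𝟙 A) ^ n ∧ v ≫ u = (𝟙 B) ^ n := by
  obtain ⟨φ, hφ⟩ := exists_hom_bijective πA hπAb hπAle hπAapp πB hπBb hπBle hπBapp hKB hBF hl _ he
    e.bijective
  have he' : e.symm.toLinearMap ∈ intertwiners (qMap (Ω := Ω) (l := l) πB) (qMap (Ω := Ω) (l := l) πA) := by
    rw [mem_intertwiners] at he ⊢
    refine LinearMap.ext fun y => e.injective ?_
    have := LinearMap.congr_fun he (e.symm y)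
    simp only [LinearMap.comp_apply, LinearEquiv.coe_coe, LinearEquiv.apply_symm_apply] at this ⊢
    exact this.symm
  obtain ⟨χ, hχ⟩ := exists_hom_bijective πB hπBb hπBle hπBapp πA hπAb hπAle hπAapp hKB hBF hl _ he'
    e.symm.bijective
  have h1 : Function.Bijective (vMap l Ω (EndAV.End.of (φ.toHom ≫ χ.toHom))) := by
    rw [show vMap l Ω (EndAV.End.of (φ.toHom ≫ χ.toHom)) = vMap l Ω χ ∘ₗ vMap l Ω φ from
      (qMap_comp φ.toHom χ.toHom (φ.toHom ≫ χ.toHom) rfl).symm]
    exact hχ.comp hφ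
  have h2 : Function.Bijective (vMap l Ω (EndAV.End.of (χ.toHom ≫ φ.toHom))) := by
    rw [show vMap l Ω (EndAV.End.of (χ.toHom ≫ φ.toHom)) = vMap l Ω φ ∘ₗ vMap l Ω χ from
      (qMap_comp χ.toHom φ.toHom (χ.toHom ≫ φ.toHom) rfl).symm]
    exact hφ.comp hχ
  obtain ⟨hf1, -⟩ := finite_surjective_of_bijective hl _ h1
  obtain ⟨-, hs2⟩ := finite_surjective_of_bijective hl _ h2
  have : IsFinite (φ.toHom.left ≫ χ.toHom.left) := hf1
  have : IsSeparated (χ.toHom.left ≫ A.hom) := by rw [Over.w]; infer_instance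
  have : IsSeparated χ.toHom.left := IsSeparated.of_comp χ.toHom.left A.hom
  have : IsFinite φ.toHom.left := IsFinite.of_comp φ.toHom.left χ.toHom.left
  have : Surjective (χ.toHom.left ≫ φ.toHom.left) := hs2
  have : Surjective φ.toHom.left := Surjective.of_comp χ.toHom.left φ.toHom.left
  obtain ⟨n, v, hn, hv, h12, h21⟩ := exists_quasi_inverse φ.toHom
  exact ⟨φ.toHom, inferInstance, v, hv, n, hn, h12, h21⟩

omit [Finite k] in
include hl in
/-- Isogenies give isomorphisms of rational Tate modules. -/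
theorem exists_equiv_of_isogeny (u : A ⟶ B) [IsMonHom u] (v : B ⟶ A) [IsMonHom v] {n : ℕ}
    (hn : 0 < n) (huv : u ≫ v = (𝟙 A) ^ n) (hvu : v ≫ u = (𝟙 B) ^ n) :
    ∃ e : (ℚ_[l] ⊗[ℤ_[l]] TateMod A l Ω₀) ≃ₗ[ℚ_[l]] ℚ_[l] ⊗[ℤ_[l]] TateMod B l Ω₀,
      e.toLinearMap = qMap u := by
  have : IsMonHom (𝟙 A ^ n : A ⟶ A) := huv ▸ inferInstance
  have : IsMonHom (𝟙 B ^ n : B ⟶ B) := hvu ▸ inferInstance
  have hn0 : (n : ℚ_[l]) ≠ 0 := Nat.cast_ne_zero.2 hn.ne'
  have e1 : ∀ x, qMap (Ω := Ω) (l := l) v (qMap u x) = (n : ℚ_[l]) • x := fun x => by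
    have h := qMap_comp (Ω := Ω) (l := l) u v _ huv
    refine (LinearMap.congr_fun h x).trans ?_
    rw [qMap, show tateMapₗ (l := l) (T := Ω₀) (𝟙 A ^ n : A ⟶ A) = (n : ℤ_[l]) • LinearMap.id from
      LinearMap.ext fun z => tateMap_pow n z, LinearMap.baseChange_smul, LinearMap.baseChange_id,
      LinearMap.smul_apply, ← algebraMap_smul ℚ_[l] (n : ℤ_[l]), map_natCast]
    rfl
  have e2 : ∀ y, qMap (Ω := Ω) (l := l) u (qMap v y) = (n : ℚ_[l]) • y := fun y => by
    have h := qMap_comp (Ω := Ω) (l := l) v u _ hvu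
    refine (LinearMap.congr_fun h y).trans ?_
    rw [qMap, show tateMapₗ (l := l) (T := Ω₀) (𝟙 B ^ n : B ⟶ B) = (n : ℤ_[l]) • LinearMap.id from
      LinearMap.ext fun z => tateMap_pow n z, LinearMap.baseChange_smul, LinearMap.baseChange_id,
      LinearMap.smul_apply, ← algebraMap_smul ℚ_[l] (n : ℤ_[l]), map_natCast]
    rfl
  exact ⟨LinearEquiv.ofLinearMap (qMap u) ((n : ℚ_[l])⁻¹ • qMap v)
    (LinearMap.ext fun y => by simp [e2, hn0])
    (LinearMap.ext fun x => by simp [e1, hn0]), rfl⟩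

end Groth.AbVarTate
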