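import Mathlib.FieldTheory.IsAlgClosed.AlgebraicClosure
import Mathlib.FieldTheory.PrimitiveElement
import Mathlib.FieldTheory.Minpoly.IsConjRoot
import Mathlib.RingTheory.RootsOfUnity.PrimitiveRoots
import Mathlib.LinearAlgebra.Dimension.Finite

/-!
# Independence of radicals
-/

set_option autoImplicit false

universe u v

namespace Groth.AbVarTate.Radicals

variable (F : Type u) (E : Type v) [Field F] [Field E] [Algebra F E]

/-- An element fixed by every embedding into an algebraic closure is rational. -/
theorem mem_range_of_forall [Algebra.IsSeparable F E] [FiniteDimensional F E] (z : E)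
    (ι : E →ₐ[F] AlgebraicClosure F) (h : ∀ σ : E →ₐ[F] AlgebraicClosure F, σ z = ι z) :
    z ∈ Set.range (algebraMap F E) := by
  have hint : IsIntegral F z := Algebra.IsIntegral.isIntegral z
  have hsep := Algebra.IsSeparable.isSeparable F z
  have hsub : ((minpoly F z).rootSet (AlgebraicClosure F)) ⊆ {ι z} := by
    intro a ha
    rw [← Algebra.IsAlgebraic.range_eval_eq_rootSet_minpoly (F := F) (A := AlgebraicClosure F) z] at ha
    obtain ⟨σ, rfl⟩ := ha
    exact h σ
  have hc := Polynomial.card_rootSet_eq_natDegree hsep (IsAlgClosed.splits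
    ((minpoly F z).map (algebraMap F (AlgebraicClosure F))))
  have hle : Fintype.card ((minpoly F z).rootSet (AlgebraicClosure F)) ≤ 1 := by
    rw [← Nat.card_eq_fintype_card]
    exact le_trans (Nat.card_mono (Set.finite_singleton _) hsub) (by simp)
  have hdeg : (minpoly F z).natDegree = 1 :=
    le_antisymm (hc ▸ hle) (minpoly.natDegree_pos hint)
  exact minpoly.natDegree_eq_one_iff.1 hdeg

/-- Pairwise inequivalent `N`-th radicals are linearly independent. -/
theorem linearIndependent [Algebra.IsSeparable F E] [FiniteDimensional F E] {N : ℕ} [NeZero N]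
    {ζ : F} (hζ : IsPrimitiveRoot ζ N) {I : Type*} (x : I → E) (hx : ∀ i, x i ≠ 0)
    (hN : ∀ i, (x i) ^ N ∈ Set.range (algebraMap F E))
    (hne : ∀ i j, i ≠ j → x i / x j ∉ Set.range (algebraMap F E)) :
    LinearIndependent F x := by
  classical
  let ι : E →ₐ[F] AlgebraicClosure F := IsAlgClosed.lift
  have hι : ∀ i, ι (x i) ≠ 0 := fun i => (map_ne_zero ι).2 (hx i)
  have key : ∀ (σ : E →ₐ[F] AlgebraicClosure F) (i : I),
      ∃ c : F, σ (x i) = algebraMap F _ c * ι (x i) := by
    intro σ i
    obtain ⟨r, hr⟩ := hN i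
    have h1 : (σ (x i) / ι (x i)) ^ N = 1 := by
      rw [div_pow, ← map_pow, ← map_pow, ← hr, AlgHom.commutes, AlgHom.commutes, div_self]
      rw [← AlgHom.commutes ι, hr, map_pow]
      exact pow_ne_zero _ (hι i)
    obtain ⟨j, -, hj⟩ := (hζ.map_of_injective
      (algebraMap F (AlgebraicClosure F)).injective).eq_pow_of_pow_eq_one h1
    exact ⟨ζ ^ j, by rw [map_pow, hj, div_mul_cancel₀ _ (hι i)]⟩
  choose χ hχ using key
  rw [linearIndependent_iff']
  intro s
  induction s using Finset.induction_on with
  | empty => intro g _ i hi; simp at hi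
  | @insert a s has ih =>
    intro g hg
    have e1 : ∀ σ, ∑ i ∈ insert a s, (g i * χ σ i) • x i = 0 := by
      intro σ
      apply ι.toRingHom.injective
      have := congrArg σ hg
      rw [map_sum, map_zero] at this
      change ι _ = ι 0
      rw [map_sum, map_zero, ← this]
      refine Finset.sum_congr rfl fun i _ => ?_
      rw [map_smul, map_smul, hχ σ i, mul_smul, Algebra.smul_def (χ σ i)]
    have hs : ∀ i ∈ s, g i = 0 := by
      intro i hi
      obtain ⟨σ, hσ⟩ : ∃ σ, χ σ i ≠ χ σ a := by
        by_contra hc
        push Not at hc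
        refine hne i a (fun e => has (e ▸ hi)) (mem_range_of_forall F E _ ι fun σ => ?_)
        rw [map_div₀, map_div₀, hχ σ i, hχ σ a, hc]
        refine mul_div_mul_left _ _ ?_
        intro h0
        exact (map_ne_zero σ).2 (hx a) (by rw [hχ σ a, h0, zero_mul])
      have hsum : ∑ j ∈ s, (g j * χ σ j - g j * χ σ a) • x j = 0 := by
        have h2 : ∑ j ∈ insert a s, (g j * χ σ j - g j * χ σ a) • x j = 0 := by
          simp only [sub_smul, Finset.sum_sub_distrib, e1 σ]
          have : ∑ j ∈ insert a s, (g j * χ σ a) • x j = χ σ a • ∑ j ∈ insert a s, g j • x j := by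
            rw [Finset.smul_sum]
            exact Finset.sum_congr rfl fun j _ => by rw [mul_comm, mul_smul]
          rw [this, hg, smul_zero, sub_zero]
        rwa [Finset.sum_insert has, sub_self, zero_smul, zero_add] at h2
      have := ih _ hsum i hi
      rw [← mul_sub, mul_eq_zero] at this
      exact this.resolve_right (sub_ne_zero.2 hσ)
    intro i hi
    rcases Finset.mem_insert.1 hi with rfl | hi
    · rw [Finset.sum_insert has, Finset.sum_eq_zero (fun j hj => by rw [hs j hj, zero_smul]),
        add_zero] at hg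
      exact (smul_eq_zero.1 hg).resolve_right (hx _)
    · exact hs i hi

/-- A set mapped to pairwise inequivalent `N`-th radicals has at most `[E : F]` elements. -/
theorem finite_and_ncard_le [Algebra.IsSeparable F E] [FiniteDimensional F E] {N : ℕ} [NeZero N]
    {ζ : F} (hζ : IsPrimitiveRoot ζ N) {α : Type*} (S : Set α) (x : S → E) (hx : ∀ i, x i ≠ 0)
    (hN : ∀ i, (x i) ^ N ∈ Set.range (algebraMap F E))
    (hne : ∀ i j, i ≠ j → x i / x j ∉ Set.range (algebraMap F E)) :
    S.Finite ∧ S.ncard ≤ Module.finrank F E := by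
  have hli := linearIndependent F E hζ x hx hN hne
  have : Finite S := hli.finite
  refine ⟨Set.toFinite S, ?_⟩
  rw [← Nat.card_coe_set_eq]
  cases nonempty_fintype S
  rw [Nat.card_eq_fintype_card]
  exact hli.fintype_card_le_finrank

end Groth.AbVarTate.Radicals
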