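import Groth.Agent.AbVarTate.BoundedSpec
import Groth.Agent.AbVarTate.Radicals
import Groth.Agent.Abvar.PicCalc
import Groth.Agent.FlatMor2.Chevalley.Integral
import Groth.Agent.Misc6.GenericDegree
import Mathlib.AlgebraicGeometry.Morphisms.Etale
import Mathlib.AlgebraicGeometry.Morphisms.Proper
import Mathlib.RingTheory.Unramified.Field
import Mathlib.RingTheory.Etale.Basic
import Mathlib.RingTheory.Flat.FaithfullyFlat.Algebra

/-!
# Few torsion classes die in a finite étale cover

A class killed by a finite étale cover and by `N` gives an `N`-th radical in the extension of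
function fields; distinct classes give inequivalent radicals.
-/

set_option autoImplicit false

universe u

open CategoryTheory Limits AlgebraicGeometry
open TopologicalSpace Groth.PicAux
open Groth.FlatMor2.Chevalley (ffMap ffMap_germ apply_genericPoint)
open scoped Groth.Abvar.PicCalc

namespace Groth.AbVarTate.Kummer

section Sections

variable {X : Scheme.{u}} [IsIntegral X]


theorem mem_inf' {U V : X.Opens} (h : (genericPoint ↥X) ∈ U) (h' : (genericPoint ↥X) ∈ V) :
    (genericPoint ↥X) ∈ U ⊓ V :=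
  ⟨h, h'⟩

theorem germ_ne_zero {U : X.Opens} (h : (genericPoint ↥X) ∈ U) {a : Γ(X, U)} (ha : IsUnit a) :
    (X.presheaf.germ U (genericPoint ↥X) h a : X.functionField) ≠ 0 :=
  (ha.map (X.presheaf.germ U (genericPoint ↥X) h).hom).ne_zero

theorem germ_resX' {U V : X.Opens} (hVU : V ≤ U) (h : (genericPoint ↥X) ∈ V) (a : Γ(X, U)) :
    (X.presheaf.germ V (genericPoint ↥X) h (resX X hVU a) : X.functionField) = X.presheaf.germ U (genericPoint ↥X) (hVU h) a :=
  X.presheaf.germ_res_apply (homOfLE hVU) (genericPoint ↥X) h a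

theorem germ_inj {U : X.Opens} (h : (genericPoint ↥X) ∈ U) {a b : Γ(X, U)}
    (e : (X.presheaf.germ U (genericPoint ↥X) h a : X.functionField) = X.presheaf.germ U (genericPoint ↥X) h b) : a = b := by
  have : Nonempty U := ⟨⟨_, h⟩⟩
  exact Scheme.germToFunctionField_injective X U e

variable {L : X.Modules} {U₀ : X.Opens} {e₀ : Γ(L, U₀)}

/-- The rational function of a section with respect to a basis. -/
noncomputable def val (he₀ : Gen L U₀ e₀) (h₀ : (genericPoint ↥X) ∈ U₀) {U : X.Opens} (h : (genericPoint ↥X) ∈ U) (t : Γ(L, U)) :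
    X.functionField :=
  X.presheaf.germ (U ⊓ U₀) (genericPoint ↥X) (mem_inf' h h₀)
    (he₀.exists_coeff (inf_le_right : U ⊓ U₀ ≤ U₀) (res L inf_le_left t)).choose

variable (he₀ : Gen L U₀ e₀) (h₀ : (genericPoint ↥X) ∈ U₀)

theorem val_eq {U V : X.Opens} (h : (genericPoint ↥X) ∈ U) (hV : (genericPoint ↥X) ∈ V) (hVU : V ≤ U) (hV0 : V ≤ U₀) (t : Γ(L, U))
    (r : Γ(X, V)) (hr : res L hVU t = r • res L hV0 e₀) :
    val he₀ h₀ h t = X.presheaf.germ V (genericPoint ↥X) hV r := by
  have hc := (he₀.exists_coeff (inf_le_right : U ⊓ U₀ ≤ U₀) (res L inf_le_left t)).choose_spec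
  have hc' := congrArg (res L (le_inf hVU hV0 : V ≤ U ⊓ U₀)) hc
  simp only [res_smul, res_res] at hc'
  rw [hr] at hc'
  rw [he₀.smul_inj hV0 hc']
  unfold val
  rw [germ_resX']

theorem exists_val {U : X.Opens} (h : (genericPoint ↥X) ∈ U) (t : Γ(L, U)) :
    ∃ r : Γ(X, U ⊓ U₀), res L inf_le_left t = r • res L inf_le_right e₀ ∧
      val he₀ h₀ h t = X.presheaf.germ (U ⊓ U₀) (genericPoint ↥X) (mem_inf' h h₀) r :=
  ⟨_, (he₀.exists_coeff (inf_le_right : U ⊓ U₀ ≤ U₀) (res L inf_le_left t)).choose_spec, rfl⟩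

theorem val_res {U V : X.Opens} (h : (genericPoint ↥X) ∈ U) (hV : (genericPoint ↥X) ∈ V) (hVU : V ≤ U) (t : Γ(L, U)) :
    val he₀ h₀ hV (res L hVU t) = val he₀ h₀ h t := by
  obtain ⟨r, hr, hv⟩ := exists_val he₀ h₀ hV (res L hVU t)
  rw [hv]
  refine (val_eq he₀ h₀ h (mem_inf' hV h₀) (inf_le_left.trans hVU) inf_le_right t r ?_).symm
  rw [← hr, res_res]

theorem val_smul {U : X.Opens} (h : (genericPoint ↥X) ∈ U) (a : Γ(X, U)) (t : Γ(L, U)) :
    val he₀ h₀ h (a • t) = X.presheaf.germ U (genericPoint ↥X) h a * val he₀ h₀ h t := by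
  obtain ⟨r, hr, hv⟩ := exists_val he₀ h₀ h t
  rw [hv, val_eq he₀ h₀ h (mem_inf' h h₀) inf_le_left inf_le_right _ (resX X inf_le_left a * r)
    (by rw [res_smul, hr, mul_smul]), map_mul, germ_resX']

theorem val_ne_zero {U : X.Opens} (h : (genericPoint ↥X) ∈ U) {t : Γ(L, U)} (ht : Gen L U t) :
    val he₀ h₀ h t ≠ 0 := by
  obtain ⟨r, hr, hv⟩ := exists_val he₀ h₀ h t
  obtain ⟨a, ha⟩ := (he₀.res (inf_le_right : U ⊓ U₀ ≤ U₀)).exists_unit
    (ht.res (inf_le_left : U ⊓ U₀ ≤ U))
  have : r = (a : Γ(X, U ⊓ U₀)) := he₀.smul_inj inf_le_right (hr.symm.trans ha)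
  rw [hv, this]
  exact germ_ne_zero _ a.isUnit

theorem val_powSec {U : X.Opens} (h : (genericPoint ↥X) ∈ U) (t : Γ(L, U)) (n : ℕ) :
    val (he₀.pow n) h₀ h (powSec t n) = val he₀ h₀ h t ^ n := by
  obtain ⟨r, hr, hv⟩ := exists_val he₀ h₀ h t
  rw [hv, val_eq (he₀.pow n) h₀ h (mem_inf' h h₀) inf_le_left inf_le_right _ (r ^ n)
    (by rw [res_powSec, res_powSec, hr, powSec_smul]), map_pow]

end Sections

/-- A function that is a unit near `x`. -/
def RegUnitAt {X : Scheme.{u}} [IsIntegral X] (z : X.functionField) (x : X) : Prop :=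
  ∃ (U : X.Opens) (h : genericPoint ↥X ∈ U) (a : Γ(X, U)),
    x ∈ U ∧ IsUnit a ∧ X.presheaf.germ U _ h a = z

theorem genericPoint_mem {X : Scheme.{u}} [IrreducibleSpace X] {U : X.Opens} {x : X} (h : x ∈ U) :
    genericPoint ↥X ∈ U :=
  ((genericPoint_spec X).mem_open_set_iff U.2).2 ⟨x, trivial, h⟩

theorem exists_top_of_regUnit {X : Scheme.{u}} [IsIntegral X] (z : X.functionField)
    (hz : ∀ x : X, RegUnitAt z x) :
    ∃ a : Γ(X, ⊤), (X.presheaf.germ ⊤ (genericPoint X) trivial a : X.functionField) = z := by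
  choose U h a hxU ha hz using hz
  have hc : (⊤ : X.Opens) ≤ iSup U := fun x _ => Opens.mem_iSup.2 ⟨x, hxU x⟩
  obtain ⟨s, hs, -⟩ := res_glue (M := Coh.structureModule X) U (fun _ => le_top) hc (fun x => a x)
    (fun i j => germ_inj (mem_inf' (h i) (h j)) (by
      change (X.presheaf.germ _ _ _ (resX X inf_le_left (a i)) : X.functionField) =
        X.presheaf.germ _ _ _ (resX X inf_le_right (a j))
      rw [germ_resX', germ_resX', hz i, hz j]))
  refine ⟨s, ?_⟩
  have x := genericPoint ↥X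
  rw [← germ_resX' (le_top : U x ≤ ⊤) (h x) s, ← hz x]
  exact congrArg (fun b : Γ(X, U x) => (X.presheaf.germ _ _ (h x) b : X.functionField)) (hs x)

section Morphism

variable {X Y : Scheme.{u}} [IsIntegral X] [IsIntegral Y] (q : X ⟶ Y) [Surjective q]

theorem mem_preimage {U : Y.Opens} (h : genericPoint ↥Y ∈ U) : genericPoint ↥X ∈ q ⁻¹ᵁ U := by
  change q (genericPoint ↥X) ∈ U
  rw [apply_genericPoint q]
  exact h

theorem ffMap_germ' {U : Y.Opens} (h : genericPoint ↥Y ∈ U) (a : Γ(Y, U)) :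
    ffMap q (Y.presheaf.germ U _ h a) =
      X.presheaf.germ (q ⁻¹ᵁ U) _ (mem_preimage q h) (q.app U a) := by
  have : Nonempty U := ⟨⟨_, h⟩⟩
  have : Nonempty (q ⁻¹ᵁ U) := ⟨⟨_, mem_preimage q h⟩⟩
  exact ffMap_germ q U a

theorem val_pullSec {L : Y.Modules} {U₀ : Y.Opens} {e₀ : Γ(L, U₀)} (he₀ : Gen L U₀ e₀)
    (h₀ : genericPoint ↥Y ∈ U₀) {U : Y.Opens} (h : genericPoint ↥Y ∈ U) (t : Γ(L, U)) :
    val (he₀.pull q) (mem_preimage q h₀) (mem_preimage q h) (pullSec q L t) =
      ffMap q (val he₀ h₀ h t) := by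
  obtain ⟨r, hr, hv⟩ := exists_val he₀ h₀ h t
  rw [hv, ffMap_germ' q]
  refine val_eq (he₀.pull q) _ _ _ (q.preimage_mono inf_le_left) (q.preimage_mono inf_le_right) _
    (q.app _ r) ?_
  rw [res_pullSec, res_pullSec, hr, pullSec_smul]
  exact inf_le_left

/-- A function whose pullback is regular at a point is regular at the image. -/
theorem exists_stalk_eq [Flat q] (s : Y.functionField) (x : X) (a : X.presheaf.stalk x)
    (ha : algebraMap (X.presheaf.stalk x) X.functionField a = ffMap q s) :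
    ∃ b : Y.presheaf.stalk (q x), algebraMap _ Y.functionField b = s := by
  have comm : ∀ b : Y.presheaf.stalk (q x),
      algebraMap _ X.functionField (q.stalkMap x b) = ffMap q (algebraMap _ Y.functionField b) := by
    intro b
    obtain ⟨U, hU, c, rfl⟩ := Y.presheaf.exists_germ_eq b
    have : Nonempty U := ⟨⟨_, hU⟩⟩
    have : Nonempty (q ⁻¹ᵁ U) := ⟨⟨x, hU⟩⟩
    rw [Scheme.Hom.germ_stalkMap_apply]
    have h1 : x ∈ q ⁻¹ᵁ U := hU
    refine (X.algebraMap_germ_eq_germToFunctionField (U := q ⁻¹ᵁ U) h1 _).trans ?_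
    rw [Y.algebraMap_germ_eq_germToFunctionField]
    exact (ffMap_germ q U c).symm
  obtain ⟨n, m, hm, hs⟩ := IsFractionRing.div_surjective (A := Y.presheaf.stalk (q x)) s
  have hm0 : algebraMap _ Y.functionField m ≠ 0 :=
    IsFractionRing.to_map_ne_zero_of_mem_nonZeroDivisors hm
  let := (q.stalkMap x).hom.toAlgebra
  have : Module.Flat (Y.presheaf.stalk (q x)) (X.presheaf.stalk x) := Flat.stalkMap q x
  have : IsLocalHom (algebraMap (Y.presheaf.stalk (q x)) (X.presheaf.stalk x)) := q.toLRSHom.prop x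
  have : Module.FaithfullyFlat (Y.presheaf.stalk (q x)) (X.presheaf.stalk x) :=
    Module.FaithfullyFlat.of_flat_of_isLocalHom
  have e : q.stalkMap x n = q.stalkMap x m * a := by
    apply IsFractionRing.injective (X.presheaf.stalk x) X.functionField
    rw [map_mul, comm, comm, ha, ← map_mul]
    congr 1
    rw [← hs, mul_div_cancel₀ _ hm0]
  have hn : n ∈ ((Ideal.span {m}).map (algebraMap _ (X.presheaf.stalk x))).comap
      (algebraMap (Y.presheaf.stalk (q x)) (X.presheaf.stalk x)) := by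
    rw [Ideal.mem_comap, Ideal.map_span, Set.image_singleton, Ideal.mem_span_singleton]
    exact ⟨a, e⟩
  rw [Ideal.comap_map_eq_self_of_faithfullyFlat, Ideal.mem_span_singleton] at hn
  obtain ⟨b, rfl⟩ := hn
  exact ⟨b, by rw [← hs, map_mul, mul_div_cancel_left₀ _ hm0]⟩

theorem regUnitAt_image [Flat q] (s : Y.functionField) (x : X) (hs : RegUnitAt (ffMap q s) x) :
    RegUnitAt s (q x) := by
  obtain ⟨U, h, a, hxU, hu, hz⟩ := hs
  have : Nonempty U := ⟨⟨_, h⟩⟩
  obtain ⟨b, hb⟩ := exists_stalk_eq q s x (X.presheaf.germ U x hxU a)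
    (by rw [Scheme.algebraMap_germ_eq_germToFunctionField]; exact hz)
  obtain ⟨b', hb'⟩ := exists_stalk_eq q s⁻¹ x (X.presheaf.germ U x hxU ↑hu.unit⁻¹) (by
    rw [Scheme.algebraMap_germ_eq_germToFunctionField, map_inv₀, ← hz]
    refine eq_inv_of_mul_eq_one_left ?_
    change X.germToFunctionField U _ * X.germToFunctionField U _ = 1
    rw [← map_mul, IsUnit.val_inv_mul, map_one])
  have hs0 : s ≠ 0 := by
    rintro rfl
    exact germ_ne_zero h hu (hz.trans (map_zero _))
  have hbu : IsUnit b := IsUnit.of_mul_eq_one b' (IsFractionRing.injective _ Y.functionField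
    (by rw [map_mul, hb, hb', mul_inv_cancel₀ hs0, map_one]))
  obtain ⟨W, hW, c, rfl⟩ := Y.presheaf.exists_germ_eq b
  have hmem : q x ∈ Y.basicOpen c := (Scheme.mem_basicOpen Y c _ hW).2 hbu
  refine ⟨Y.basicOpen c, genericPoint_mem hmem, resX Y (Y.basicOpen_le c) c, hmem, ?_, ?_⟩
  · exact RingedSpace.isUnit_res_basicOpen _ c
  · rw [germ_resX']
    have : Nonempty W := ⟨⟨_, hW⟩⟩
    exact (Scheme.algebraMap_germ_eq_germToFunctionField (X := Y) (U := W) hW c).symm.trans hb

theorem finrank_genericFibre {d : ℕ} [IsFinite q] [Etale q] (hd : ∀ y : Y, q.finrank y = d) :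
    letI := (ffMap q).hom.toAlgebra
    Algebra.IsSeparable Y.functionField X.functionField ∧
      FiniteDimensional Y.functionField X.functionField ∧
      Module.finrank Y.functionField X.functionField = d := by
  obtain ⟨V, hV, hηV, -⟩ :=
    exists_isAffineOpen_mem_and_subset (U := (⊤ : Y.Opens)) (x := genericPoint Y) trivial
  have : Nonempty V := ⟨⟨_, hηV⟩⟩
  let W := q ⁻¹ᵁ V
  have : Nonempty W := ⟨⟨_, mem_preimage q hηV⟩⟩
  have hW : IsAffineOpen W := hV.preimage q
  have hflat : (q.app V).hom.Flat := by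
    have := q.flat_appLE hV hW le_rfl
    rwa [Scheme.Hom.appLE_eq_app] at this
  have het : (q.app V).hom.Etale := by
    have := q.etale_appLE hV hW le_rfl
    rwa [Scheme.Hom.appLE_eq_app] at this
  let := (q.app V).hom.toAlgebra
  have : Module.Finite Γ(Y, V) Γ(X, W) := q.finite_app _ hV
  have : Module.Flat Γ(Y, V) Γ(X, W) := hflat
  have : Algebra.Etale Γ(Y, V) Γ(X, W) := het
  let := (ffMap q).hom.toAlgebra
  have := functionField_isFractionRing_of_isAffineOpen Y V hV
  have := functionField_isFractionRing_of_isAffineOpen X W hW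
  let : Algebra Γ(Y, V) X.functionField :=
    ((algebraMap Γ(X, W) X.functionField).comp (algebraMap Γ(Y, V) Γ(X, W))).toAlgebra
  have : IsScalarTower Γ(Y, V) Γ(X, W) X.functionField := IsScalarTower.of_algebraMap_eq fun _ => rfl
  have : IsScalarTower Γ(Y, V) Y.functionField X.functionField :=
    IsScalarTower.of_algebraMap_eq fun r => (ffMap_germ q V r).symm
  have : FaithfulSMul Γ(Y, V) Γ(X, W) := by
    rw [faithfulSMul_iff_algebraMap_injective]
    intro a b hab
    apply IsFractionRing.injective Γ(Y, V) Y.functionField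
    apply (algebraMap Y.functionField X.functionField).injective
    rw [← IsScalarTower.algebraMap_apply, ← IsScalarTower.algebraMap_apply,
      IsScalarTower.algebraMap_apply Γ(Y, V) Γ(X, W), IsScalarTower.algebraMap_apply Γ(Y, V) Γ(X, W) _ b, hab]
  have : Algebra.IsAlgebraic Γ(Y, V) Γ(X, W) := Algebra.IsIntegral.isAlgebraic
  have hbc := Algebra.IsAlgebraic.isBaseChange_of_isFractionRing Γ(Y, V) Γ(X, W)
    Y.functionField X.functionField
  have hfin : FiniteDimensional Y.functionField X.functionField := Module.Finite.equiv hbc.equiv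
  have : Algebra.IsPushout Γ(Y, V) Y.functionField Γ(X, W) X.functionField := ⟨hbc⟩
  have : Algebra.Etale Y.functionField X.functionField :=
    Algebra.Etale.of_equiv (Algebra.IsPushout.equiv Γ(Y, V) Y.functionField Γ(X, W) X.functionField)
  refine ⟨Algebra.FormallyUnramified.isSeparable _ _, hfin, ?_⟩
  let p : PrimeSpectrum Y.functionField := ⟨⊥, Ideal.isPrime_bot⟩
  let pt : PrimeSpectrum Γ(Y, V) := PrimeSpectrum.comap (algebraMap _ _) p
  have key : Module.rankAtStalk Γ(X, W) pt = d := by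
    have h := IsPullback.of_horiz_isIso (fst := hW.isoSpec.inv)
      (snd := Spec.map (CommRingCat.ofHom (algebraMap Γ(Y, V) Γ(X, W)))) (f := q ∣_ V)
      (g := hV.isoSpec.inv) ⟨by
        rw [← cancel_mono V.ι, Category.assoc, Category.assoc, morphismRestrict_ι,
          ← Category.assoc, IsAffineOpen.isoSpec_inv_ι, IsAffineOpen.isoSpec_inv_ι,
          ← hV.SpecMap_appLE_fromSpec q hW le_rfl, Scheme.Hom.appLE_eq_app]
        rfl⟩
    rw [← Scheme.Hom.finrank_SpecMap_algebraMap Γ(Y, V) Γ(X, W) pt]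
    refine (Scheme.Hom.finrank_of_isPullback _ _ _ _ h _).trans ?_
    exact (Scheme.Hom.finrank_of_isPullback _ _ _ _ (isPullback_morphismRestrict q V).flip _).trans (hd _)
  have h1 := congrFun (Module.rankAtStalk_eq_finrank_of_free
    (R := Y.functionField) (M := X.functionField)) p
  rw [← Module.rankAtStalk_eq_of_equiv hbc.equiv, Module.rankAtStalk_baseChange] at h1
  exact (key.symm.trans (h1.trans (Nat.cast_id _))).symm

end Morphism

/-- Few torsion classes die in a finite étale cover. -/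
theorem kernelBound : Groth.AbVarTate.KernelBound.{u} := by
  classical
  intro K _ _ P P' _ _ _ _ q _ _ _ d hd N hN
  obtain ⟨hsep, hfd, hrank⟩ := finrank_genericFibre q.left hd
  have : NeZero N := ⟨fun h => hN (by rw [h, Nat.cast_zero])⟩
  have : NeZero (N : K) := ⟨hN⟩
  let F := P'.left.functionField
  let E := P.left.functionField
  let := (ffMap q.left).hom.toAlgebra
  -- the constants
  let cK : K →+* F := (P'.left.presheaf.germ ⊤ (genericPoint ↥P'.left) trivial).hom.comp
    ((Scheme.ΓSpecIso (CommRingCat.of K)).inv ≫ P'.hom.appTop).hom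
  have hfield : IsField Γ(P.left, ⊤) := isField_of_universallyClosed K P.hom
  have hconst : ∀ a : Γ(P.left, ⊤),
      (P.left.presheaf.germ ⊤ (genericPoint ↥P.left) trivial a : E) ∈ Set.range (algebraMap F E) := by
    intro a
    let := hfield.toField
    let φ := ((Scheme.ΓSpecIso (CommRingCat.of K)).inv ≫ P.hom.appTop).hom
    let : Algebra K Γ(P.left, ⊤) := φ.toAlgebra
    have hfi : φ.Finite := (finite_appTop_of_universallyClosed K P.hom).comp
      (RingHom.Finite.of_surjective _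
        (ConcreteCategory.bijective_of_isIso (Scheme.ΓSpecIso (CommRingCat.of K)).inv).2)
    have : Module.Finite K Γ(P.left, ⊤) := hfi
    obtain ⟨c, rfl⟩ := (IsAlgClosed.algebraMap_bijective_of_isIntegral (k := K)
      (K := Γ(P.left, ⊤))).2 a
    refine ⟨cK c, ?_⟩
    change ffMap q.left (P'.left.presheaf.germ ⊤ _ trivial (P'.hom.appTop _)) = _
    refine (ffMap_germ' q.left (U := ⊤) trivial _).trans ?_
    have hw : P'.hom.appTop ≫ q.left.appTop = P.hom.appTop := by
      rw [← Scheme.Hom.comp_appTop, Over.w q]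
    exact congrArg (fun b : Γ(P.left, ⊤) => (P.left.presheaf.germ ⊤ _ trivial b : E))
      (congr($hw ((Scheme.ΓSpecIso (CommRingCat.of K)).inv c)))
  obtain ⟨ζ, hζ⟩ := HasEnoughRootsOfUnity.exists_primitiveRoot K N
  have hζF : IsPrimitiveRoot (cK ζ) N := hζ.map_of_injective cK.injective
  -- the radical of a class
  set S := {c : PicLoc.PicSet P'.left | Groth.Abvar.PicCalc.opull q c = 1 ∧ c ^ N = 1}
  have rad : ∀ c : S, ∃ (L : P'.left.Modules) (hL : PicF.IsInvertible L) (U₀ : P'.left.Opens)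
      (e₀ : Γ(L, U₀)) (he₀ : Gen L U₀ e₀) (h₀ : genericPoint ↥P'.left ∈ U₀)
      (g : Γ((Scheme.Modules.pullback q.left).obj L, ⊤))
      (_ : Gen ((Scheme.Modules.pullback q.left).obj L) ⊤ g),
      c.1 = PicGrp.cls L hL ∧
        val (he₀.pull q.left) (mem_preimage q.left h₀) (U := ⊤) trivial g ^ N ∈
          Set.range (algebraMap F E) := by
    rintro ⟨c, hc1, hc2⟩
    obtain ⟨L, hL, rfl⟩ := PicGrp.exists_eq_cls c
    obtain ⟨U₀, e₀, h₀, he₀⟩ := (isInvertible_iff_exists_gen L).1 hL (genericPoint ↥P'.left)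
    rw [Groth.Abvar.PicCalc.opull, Groth.Abvar.PicCalc.pull_cls,
      PicGrp.cls_eq_one_iff, nonempty_iso_structure_iff] at hc1
    obtain ⟨g, hg⟩ := hc1
    refine ⟨L, hL, U₀, e₀, he₀, h₀, g, hg, rfl, ?_⟩
    rw [← Groth.Abvar.PicCalc.cls_tensorPow hL N, PicGrp.cls_eq_one_iff,
      nonempty_iso_structure_iff] at hc2
    obtain ⟨w, hw⟩ := hc2
    set f := val (he₀.pull q.left) (mem_preimage q.left h₀) (U := ⊤) trivial g
    set h := val (he₀.pow N) h₀ (U := ⊤) trivial w with hh
    have hh0 : ffMap q.left h ≠ 0 :=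
      (map_ne_zero (ffMap q.left).hom).2 (val_ne_zero _ _ _ hw)
    obtain ⟨a, ha⟩ : ∃ a : Γ(P.left, ⊤),
        (P.left.presheaf.germ ⊤ (genericPoint ↥P.left) trivial a : E) = f ^ N / ffMap q.left h := by
      refine exists_top_of_regUnit _ fun x => ?_
      obtain ⟨U, e, hxU, he⟩ := (isInvertible_iff_exists_gen L).1 hL (q.left x)
      have hU := genericPoint_mem hxU
      obtain ⟨a, ha⟩ := (he.pull q.left).exists_unit (hg.res le_top)
      obtain ⟨b, hb⟩ := (he.pow N).exists_unit (hw.res le_top)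
      have e1 : f = P.left.presheaf.germ (q.left ⁻¹ᵁ U) _ (mem_preimage q.left hU) a *
          ffMap q.left (val he₀ h₀ hU e) := by
        rw [← val_pullSec q.left he₀ h₀ hU e, ← val_smul, ← ha, val_res]
      have e2 : h = P'.left.presheaf.germ U _ hU b * val he₀ h₀ hU e ^ N := by
        rw [hh, ← val_powSec he₀ h₀ hU e N, ← val_smul, ← hb, val_res]
      refine ⟨q.left ⁻¹ᵁ U, mem_preimage q.left hU,
        (a : Γ(P.left, q.left ⁻¹ᵁ U)) ^ N * q.left.app U ↑b⁻¹, hxU,
        (a.isUnit.pow N).mul ((b⁻¹).isUnit.map (q.left.app U).hom), ?_⟩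
      rw [map_mul, map_pow, ← ffMap_germ' q.left hU, eq_div_iff hh0, e1, e2, map_mul, map_pow,
        mul_pow]
      have hbb : ffMap q.left (P'.left.presheaf.germ U _ hU ↑b⁻¹) *
          ffMap q.left (P'.left.presheaf.germ U _ hU ↑b) = 1 := by
        rw [← map_mul, ← map_mul, Units.inv_mul, map_one, map_one]
      linear_combination (P.left.presheaf.germ (q.left ⁻¹ᵁ U) _ (mem_preimage q.left hU) a : E) ^ N
        * ffMap q.left (val he₀ h₀ hU e) ^ N * hbb
    obtain ⟨r, hr⟩ := hconst a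
    refine ⟨r * h, ?_⟩
    rw [map_mul, hr, ha]
    exact div_mul_cancel₀ _ hh0
  choose L hL U₀ e₀ he₀ h₀ g hg hcls hpow using rad
  let f : S → E := fun c => val ((he₀ c).pull q.left) (mem_preimage q.left (h₀ c)) (U := ⊤) trivial (g c)
  have hf : ∀ c, f c ≠ 0 := fun c => val_ne_zero _ _ _ (hg c)
  rw [← hrank]
  refine Radicals.finite_and_ncard_le F E hζF S f hf hpow ?_
  rintro c c' hne ⟨r, hr⟩
  refine hne (Subtype.ext ?_)
  rw [hcls c, hcls c', PicGrp.cls_eq_cls_iff]
  have hr0 : r ≠ 0 := by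
    rintro rfl
    rw [map_zero] at hr
    exact div_ne_zero (hf c) (hf c') hr.symm
  have hfc : f c = f c' * algebraMap F E r := by
    rw [hr, mul_div_cancel₀ _ (hf c')]
  have loc : ∀ y : P'.left, ∃ (W : P'.left.Opens) (hW : genericPoint ↥P'.left ∈ W)
      (e : Γ(L c, W)) (t : Γ(L c', W)), y ∈ W ∧ Gen (L c) W e ∧ Gen (L c') W t ∧
      val (he₀ c') (h₀ c') hW t * r = val (he₀ c) (h₀ c) hW e := by
    intro y
    obtain ⟨U, e, hyU, he⟩ := (isInvertible_iff_exists_gen _).1 (hL c) y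
    obtain ⟨U', e', hyU', he'⟩ := (isInvertible_iff_exists_gen _).1 (hL c') y
    let V : P'.left.Opens := U ⊓ U'
    have hV : genericPoint ↥P'.left ∈ V := genericPoint_mem (⟨hyU, hyU'⟩ : y ∈ V)
    let eV := res (L c) (inf_le_left : V ≤ U) e
    let eV' := res (L c') (inf_le_right : V ≤ U') e'
    have heV : Gen (L c) V eV := he.res _
    have heV' : Gen (L c') V eV' := he'.res _
    have hψ := val_ne_zero (he₀ c') (h₀ c') hV heV'
    let s : F := val (he₀ c) (h₀ c) hV eV / (val (he₀ c') (h₀ c') hV eV' * r)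
    have hs : ∀ x ∈ q.left ⁻¹ᵁ V, RegUnitAt (ffMap q.left s) x := by
      intro x hx
      obtain ⟨a, ha⟩ := (heV.pull q.left).exists_unit ((hg c).res le_top)
      obtain ⟨a', ha'⟩ := (heV'.pull q.left).exists_unit ((hg c').res le_top)
      let γ : Γ(P.left, q.left ⁻¹ᵁ V) →+* E :=
        (P.left.presheaf.germ (q.left ⁻¹ᵁ V) _ (mem_preimage q.left hV)).hom
      have e1 : f c = γ a * ffMap q.left (val (he₀ c) (h₀ c) hV eV) := by
        rw [← val_pullSec q.left (he₀ c) (h₀ c) hV eV]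
        refine Eq.trans ?_ (val_smul _ _ _ _ _)
        rw [← ha, val_res]
      have e2 : f c' = γ a' * ffMap q.left (val (he₀ c') (h₀ c') hV eV') := by
        rw [← val_pullSec q.left (he₀ c') (h₀ c') hV eV']
        refine Eq.trans ?_ (val_smul _ _ _ _ _)
        rw [← ha', val_res]
      refine ⟨_, mem_preimage q.left hV, (a' : Γ(P.left, q.left ⁻¹ᵁ V)) * ↑a⁻¹, hx,
        a'.isUnit.mul (a⁻¹).isUnit, ?_⟩
      change γ (↑a' * ↑a⁻¹) = _
      rw [map_mul, map_div₀, map_mul, eq_div_iff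
        (mul_ne_zero ((map_ne_zero _).2 hψ) ((map_ne_zero _).2 hr0))]
      have haa : γ ↑a⁻¹ * γ ↑a = 1 := by rw [← map_mul, Units.inv_mul, map_one]
      have key : γ a * ffMap q.left (val (he₀ c) (h₀ c) hV eV) =
          γ a' * ffMap q.left (val (he₀ c') (h₀ c') hV eV') * ffMap q.left r := by
        rw [← e1, ← e2]; exact hfc
      linear_combination γ ↑a⁻¹ * (key.symm) +
        ffMap q.left (val (he₀ c) (h₀ c) hV eV) * haa
    have hy : ∃ (W : P'.left.Opens) (hW : genericPoint ↥P'.left ∈ W) (σ : Γ(P'.left, W)),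
        y ∈ W ∧ W ≤ V ∧ IsUnit σ ∧ P'.left.presheaf.germ W _ hW σ = s := by
      -- regularity only over `V`
      obtain ⟨x, rfl⟩ := q.left.surjective y
      obtain ⟨W, hW, σ, hyW, hσ, hσs⟩ := regUnitAt_image q.left s x (hs x ⟨hyU, hyU'⟩)
      exact ⟨W ⊓ V, ⟨hW, hV⟩, resX _ inf_le_left σ, ⟨hyW, hyU, hyU'⟩, inf_le_right,
        hσ.map _, (germ_resX' _ _ σ).trans hσs⟩
    obtain ⟨W, hW, σ, hyW, hWV, hσ, hσs⟩ := hy
    refine ⟨W, hW, res (L c) hWV eV, σ • res (L c') hWV eV', hyW, heV.res hWV,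
      (heV'.res hWV).smul_unit hσ, ?_⟩
    rw [val_smul, val_res _ _ hV, val_res _ _ hV, hσs, mul_assoc]
    exact div_mul_cancel₀ _ (mul_ne_zero hψ hr0)
  choose W hW e t hyW he ht hval using loc
  obtain ⟨iso, -⟩ := exists_iso_of_gen (L := L c) (M := L c')
    (eq_top_iff.2 fun y _ => Opens.mem_iSup.2 ⟨y, hyW y⟩ : iSup W = ⊤) e he t ht
    (fun i j ρ hρ => by
      have hWij : genericPoint ↥P'.left ∈ W i ⊓ W j := ⟨hW i, hW j⟩
      obtain ⟨ρ', hρ'⟩ := ((ht j).res inf_le_right).exists_coeff le_rfl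
        (res (L c') (inf_le_left : W i ⊓ W j ≤ W i) (t i))
      rw [res_self] at hρ'
      have h1 := congrArg (val (he₀ c) (h₀ c) hWij) hρ
      rw [val_res _ _ (hW i), val_smul, val_res _ _ (hW j)] at h1
      have h2 := congrArg (val (he₀ c') (h₀ c') hWij) hρ'
      rw [val_res _ _ (hW i), val_smul, val_res _ _ (hW j)] at h2
      rw [hρ']
      congr 1
      refine germ_inj hWij (mul_right_cancel₀ (val_ne_zero (he₀ c) (h₀ c) (hW j) (he j)) ?_)
      rw [← h1, ← hval i, ← hval j, h2, mul_assoc])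
  exact ⟨iso⟩

end Groth.AbVarTate.Kummer

/-- The specification, proved. -/
theorem Groth.AbVarTate.kernelBound : Groth.AbVarTate.KernelBound.{u} :=
  Groth.AbVarTate.Kummer.kernelBound
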