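import Groth.Agent.AbVarTate.Square
import Groth.Agent.GrpschAbsch.AbVarEtale
import Groth.Agent.AlgGrpAb.Category
import Groth.Agent.Abvar.Cube.AnyBase
import Mathlib.NumberTheory.SumFourSquares

/-!
# Adjoint pairs with norm congruent to minus one on the fourth power
-/

set_option autoImplicit false
set_option linter.unusedSectionVars false
universe u

open CategoryTheory Limits MonoidalCategory CartesianMonoidalCategory MonObj GrpObj AlgebraicGeometry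

noncomputable section

namespace Groth.AbVarTate

open Groth.Abvar.PicCalc Groth.AbVarMul

variable {k : Type u} [Field k]

theorem isProper_tensor (A : Over (Spec (CommRingCat.of k))) [IsProper A.hom] :
    IsProper (A ⊗ A).hom := inferInstanceAs (IsProper (pullback.fst A.hom A.hom ≫ A.hom))

section Decomp

variable {X Z : Over (Spec (CommRingCat.of k))} [GrpObj X] [GrpObj Z] [IsCommMonObj Z]

variable (X Z) in
/-- The identity of `Z` is a sum of homomorphisms through `X`. -/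
def HasDecomp : Prop :=
  ∃ (J : Type) (_ : Fintype J) (i : J → (X ⟶ Z)) (p : J → (Z ⟶ X)),
    (∀ j, IsMonHom (i j)) ∧ (∀ j, IsMonHom (p j)) ∧ ∏ j, (p j ≫ i j) = 𝟙 Z

theorem hasDecomp_self [IsCommMonObj X] : HasDecomp X X :=
  ⟨Unit, inferInstance, fun _ => 𝟙 X, fun _ => 𝟙 X, fun _ => inferInstance, fun _ => inferInstance,
    by simp⟩

theorem comp_prod {A B C : Over (Spec (CommRingCat.of k))} [GrpObj C] [IsCommMonObj C] {J : Type}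
    [Fintype J] (f : A ⟶ B) (g : J → (B ⟶ C)) : f ≫ ∏ j, g j = ∏ j, f ≫ g j :=
  map_prod (MonoidHom.mk' (fun x : B ⟶ C => f ≫ x) fun a b => MonObj.comp_mul f a b) g _

theorem prod_comp {A B C : Over (Spec (CommRingCat.of k))} [GrpObj B] [IsCommMonObj B] [GrpObj C]
    [IsCommMonObj C] {J : Type} [Fintype J] (f : J → (A ⟶ B)) (g : B ⟶ C) [IsMonHom g] :
    (∏ j, f j) ≫ g = ∏ j, f j ≫ g :=
  map_prod (MonoidHom.mk' (fun x : A ⟶ B => x ≫ g) fun a b => MonObj.mul_comp a b g) f _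

theorem HasDecomp.square (h : HasDecomp X Z) [IsCommMonObj (Z ⊗ Z)] : HasDecomp X (Z ⊗ Z) := by
  obtain ⟨J, _, i, p, hi, hp, hsum⟩ := h
  have : IsMonHom (1 : Z ⟶ Z) := Groth.AlgGrpAb.isMonHom_one
  refine ⟨J ⊕ J, inferInstance, Sum.elim (fun j => i j ≫ lift (𝟙 Z) 1) (fun j => i j ≫ lift 1 (𝟙 Z)),
    Sum.elim (fun j => fst Z Z ≫ p j) (fun j => snd Z Z ≫ p j), ?_, ?_, ?_⟩
  · rintro (j | j) <;> (have := hi j; dsimp only [Sum.elim_inl, Sum.elim_inr]; infer_instance)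
  · rintro (j | j) <;> (have := hp j; dsimp only [Sum.elim_inl, Sum.elim_inr]; infer_instance)
  · rw [Fintype.prod_sum_type]
    simp only [Sum.elim_inl, Sum.elim_inr, Category.assoc]
    rw [← comp_prod, ← comp_prod]
    have h1 : ∀ g : Z ⟶ Z ⊗ Z, IsMonHom g → (∏ j, p j ≫ i j ≫ g) = g := fun g _ => by
      have h := prod_comp (fun j => p j ≫ i j) g
      rw [hsum, Category.id_comp] at h
      simpa only [Category.assoc] using h.symm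
    rw [h1 _ inferInstance, h1 _ inferInstance]
    refine CartesianMonoidalCategory.hom_ext _ _ ?_ ?_
    · rw [MonObj.mul_comp, Category.assoc, Category.assoc, lift_fst, lift_fst, Category.comp_id,
        MonObj.comp_one, _root_.mul_one, Category.id_comp]
    · rw [MonObj.mul_comp, Category.assoc, Category.assoc, lift_snd, lift_snd, Category.comp_id,
        MonObj.comp_one, _root_.one_mul, Category.id_comp]

end Decomp

variable {A : Over (Spec (CommRingCat.of k))} [GrpObj A] [IsCommMonObj A]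

theorem isMonHom_mat2 (P Q Q₀ P₀ : A ⟶ A) [IsMonHom P] [IsMonHom Q] [IsMonHom Q₀] [IsMonHom P₀] :
    IsMonHom (mat2 P Q Q₀ P₀) := by
  have := Groth.AlgGrpAb.isMonHom_mul (fst A A ≫ P) (snd A A ≫ Q)
  have := Groth.AlgGrpAb.isMonHom_mul (fst A A ≫ Q₀) (snd A A ≫ P₀)
  infer_instance

/-- Composition of scalar matrices. -/
theorem mat2_zpow_comp (a b a₀ b₀ c d c₀ d₀ : ℤ) :
    mat2 (𝟙 A ^ a : A ⟶ A) (𝟙 A ^ b) (𝟙 A ^ a₀) (𝟙 A ^ b₀) ≫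
        mat2 (𝟙 A ^ c : A ⟶ A) (𝟙 A ^ d) (𝟙 A ^ c₀) (𝟙 A ^ d₀) =
      mat2 (𝟙 A ^ (a * c + a₀ * d) : A ⟶ A) (𝟙 A ^ (b * c + b₀ * d)) (𝟙 A ^ (a * c₀ + a₀ * d₀))
        (𝟙 A ^ (b * c₀ + b₀ * d₀)) := by
  refine CartesianMonoidalCategory.hom_ext _ _ ?_ ?_
  · simp only [mat2, GrpObj.comp_zpow, Category.comp_id, Category.assoc, lift_fst, MonObj.comp_mul,
      lift_snd, mul_zpow, ← zpow_mul, zpow_add]
    exact _root_.mul_mul_mul_comm _ _ _ _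
  · simp only [mat2, GrpObj.comp_zpow, Category.comp_id, Category.assoc, lift_fst, MonObj.comp_mul,
      lift_snd, mul_zpow, ← zpow_mul, zpow_add]
    exact _root_.mul_mul_mul_comm _ _ _ _

variable [IsProper A.hom] [GeometricallyIntegral A.hom]

theorem IsAdj.congr {c : PicLoc.PicSet A.left} {I I' J J' : A ⟶ A} (h : IsAdj c I J) (e1 : I = I')
    (e2 : J = J') : IsAdj c I' J' := e1 ▸ e2 ▸ h

/-- The first doubling. -/
theorem exists_complex_pair (c : PicLoc.PicSet A.left) (a b : ℤ) :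
    IsAdj (boxSq c) (mat2 (𝟙 A ^ a : A ⟶ A) (𝟙 A ^ b) (𝟙 A ^ (-b)) (𝟙 A ^ a))
      (mat2 (𝟙 A ^ a : A ⟶ A) (𝟙 A ^ (-b)) (𝟙 A ^ b) (𝟙 A ^ a)) := by
  have h := isAdj_double (isAdj_zpow c a) (isAdj_zpow c b)
  rw [← zpow_neg] at h
  exact h

theorem mat2_scalar (n : ℤ) :
    mat2 (𝟙 A ^ n : A ⟶ A) (𝟙 A ^ (0 : ℤ)) (𝟙 A ^ (0 : ℤ)) (𝟙 A ^ n) = (𝟙 (A ⊗ A) : A ⊗ A ⟶ A ⊗ A) ^ n := by
  refine CartesianMonoidalCategory.hom_ext _ _ ?_ ?_
  · rw [mat2, lift_fst, GrpObj.zpow_comp, Category.id_comp, GrpObj.comp_zpow, GrpObj.comp_zpow,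
      Category.comp_id, Category.comp_id, zpow_zero, _root_.mul_one]
  · rw [mat2, lift_snd, GrpObj.zpow_comp, Category.id_comp, GrpObj.comp_zpow, GrpObj.comp_zpow,
      Category.comp_id, Category.comp_id, zpow_zero, _root_.one_mul]

/-- The conjugate pair has the norm as composite. -/
theorem complex_norm (a b : ℤ) :
    mat2 (𝟙 A ^ a : A ⟶ A) (𝟙 A ^ b) (𝟙 A ^ (-b)) (𝟙 A ^ a) ≫
        mat2 (𝟙 A ^ a : A ⟶ A) (𝟙 A ^ (-b)) (𝟙 A ^ b) (𝟙 A ^ a) =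
      (𝟙 (A ⊗ A) : A ⊗ A ⟶ A ⊗ A) ^ (a * a + b * b) ∧
    mat2 (𝟙 A ^ a : A ⟶ A) (𝟙 A ^ (-b)) (𝟙 A ^ b) (𝟙 A ^ a) ≫
        mat2 (𝟙 A ^ a : A ⟶ A) (𝟙 A ^ b) (𝟙 A ^ (-b)) (𝟙 A ^ a) =
      (𝟙 (A ⊗ A) : A ⊗ A ⟶ A ⊗ A) ^ (a * a + b * b) := by
  rw [mat2_zpow_comp, mat2_zpow_comp, ← mat2_scalar]
  constructor <;> congr 1 <;> ring_nf

/-- **The fourth power carries adjoint pairs of norm congruent to minus one.** -/
theorem exists_pairs (P₁ : GoodPol A) [IsCommMonObj (A ⊗ A)] [IsProper (A ⊗ A).hom]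
    [GeometricallyIntegral (A ⊗ A).hom] :
    ∃ P₄ : GoodPol ((A ⊗ A) ⊗ (A ⊗ A)), ∀ N : ℕ, N ≠ 0 →
      ∃ (I J : (A ⊗ A) ⊗ (A ⊗ A) ⟶ (A ⊗ A) ⊗ (A ⊗ A)) (M : ℤ), IsMonHom I ∧ IsMonHom J ∧
        IsAdj P₄.c I J ∧ I ≫ J = (𝟙 _) ^ M ∧ (N : ℤ) ∣ M + 1 := by
  obtain ⟨P₂, hP₂⟩ := P₁.exists_square
  obtain ⟨P₄, hP₄⟩ := P₂.exists_square
  refine ⟨P₄, fun N hN => ?_⟩
  obtain ⟨a', b', c', d', he⟩ := Nat.sum_four_squares (N - 1)
  let a : ℤ := a'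
  let b : ℤ := b'
  let c : ℤ := c'
  let d : ℤ := d'
  have hP := exists_complex_pair P₁.c a b
  have hQ := exists_complex_pair P₁.c c d
  rw [← hP₂] at hP hQ
  have hI := isAdj_double hP hQ
  rw [← hP₄] at hI
  let P := mat2 (𝟙 A ^ a : A ⟶ A) (𝟙 A ^ b) (𝟙 A ^ (-b)) (𝟙 A ^ a)
  let P' := mat2 (𝟙 A ^ a : A ⟶ A) (𝟙 A ^ (-b)) (𝟙 A ^ b) (𝟙 A ^ a)
  let Q := mat2 (𝟙 A ^ c : A ⟶ A) (𝟙 A ^ d) (𝟙 A ^ (-d)) (𝟙 A ^ c)
  let Q' := mat2 (𝟙 A ^ c : A ⟶ A) (𝟙 A ^ (-d)) (𝟙 A ^ d) (𝟙 A ^ c)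
  have : IsMonHom P := isMonHom_mat2 _ _ _ _
  have : IsMonHom P' := isMonHom_mat2 _ _ _ _
  have : IsMonHom Q := isMonHom_mat2 _ _ _ _
  have : IsMonHom Q' := isMonHom_mat2 _ _ _ _
  have h1 : Q ≫ P' = P' ≫ Q := by
    simp only [P', Q, mat2_zpow_comp]; congr 1 <;> ring_nf
  have h2 : P ≫ Q' = Q' ≫ P := by
    simp only [P, Q', mat2_zpow_comp]; congr 1 <;> ring_nf
  refine ⟨_, _, (a * a + b * b) + (c * c + d * d), isMonHom_mat2 P Q Q'⁻¹ P',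
    isMonHom_mat2 P' Q⁻¹ Q' P, hI, double_comp h1 h2 (complex_norm a b).1 (complex_norm c d).2
      (complex_norm a b).2 (complex_norm c d).1, ⟨1, ?_⟩⟩
  have he' : ((a' ^ 2 + b' ^ 2 + c' ^ 2 + d' ^ 2 : ℕ) : ℤ) = ((N - 1 : ℕ) : ℤ) := by rw [he]
  push_cast [Nat.cast_sub (Nat.one_le_iff_ne_zero.2 hN)] at he'
  linear_combination he'

end Groth.AbVarTate
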