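import Groth.Agent.AbVarTate.Graph
import Groth.Agent.AbVarTate.Quaternion
import Groth.Agent.AbVarTate.BoundedSpec
import Groth.Agent.AbVarMul.TateDiv
import Groth.Agent.AbVarMul.IsogenyPts

/-!
# Stable lattices are sums of images of endomorphisms: the limit argument
-/

set_option autoImplicit false
set_option linter.unusedSectionVars false
universe u

open CategoryTheory Limits MonoidalCategory CartesianMonoidalCategory MonObj GrpObj AlgebraicGeometry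
open AbDual Filter

noncomputable section

namespace Groth.AbVarTate

open Groth.Abvar.PicCalc Groth.AbVarMul

variable {k : Type u} [Field k] {Ω : Type u} [Field Ω] [Algebra k Ω] [IsAlgClosure k Ω]

local notation "Ω₀" => (SGA7.pt (K := k) Ω)

/-- An isomorphism of the underlying varieties gives one of groups. -/
theorem exists_group_iso {Y Y' : Over (Spec (CommRingCat.of k))} [GrpObj Y] [IsProper Y.hom]
    [GeometricallyIntegral Y.hom] [GrpObj Y'] [IsCommMonObj Y'] [IsProper Y'.hom]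
    [GeometricallyIntegral Y'.hom] (e : Y ≅ Y') :
    ∃ (f : Y ⟶ Y') (f' : Y' ⟶ Y), IsMonHom f ∧ IsMonHom f' ∧ f' ≫ f = 𝟙 Y' := by
  let c : 𝟙_ _ ⟶ Y' := η[Y] ≫ e.hom
  let f : Y ⟶ Y' := e.hom * (toUnit Y ≫ c)⁻¹
  let f' : Y' ⟶ Y := (𝟙 Y' * (toUnit Y' ≫ c)) ≫ e.inv
  refine ⟨f, f', Groth.Abvar.isMonHom_mul_inv e.hom, ?_, ?_⟩
  · exact Groth.Abvar.isMonHom_of_one f' (by
      show η[Y'] ≫ (𝟙 Y' * (toUnit Y' ≫ c)) ≫ e.inv = η[Y]
      rw [← Category.assoc, MonObj.comp_mul, Category.comp_id, ← Category.assoc (η[Y']),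
        toUnit_unique (η[Y'] ≫ toUnit _) (𝟙 _), Category.id_comp,
        show (η[Y'] : 𝟙_ _ ⟶ _) = 1 by
          rw [Hom.one_def, toUnit_unique (toUnit (𝟙_ _)) (𝟙 _), Category.id_comp],
        _root_.one_mul, Category.assoc, e.hom_inv_id, Category.comp_id])
  · show f' ≫ (e.hom * (toUnit Y ≫ c)⁻¹) = _
    rw [MonObj.comp_mul, GrpObj.comp_inv, Category.assoc, e.inv_hom_id, Category.comp_id,
      ← Category.assoc f', toUnit_unique (f' ≫ toUnit Y) (toUnit _), mul_inv_cancel_right]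

variable {l : ℕ} [Fact l.Prime] {X : Over (Spec (CommRingCat.of k))} [GrpObj X] [IsCommMonObj X]
  [IsProper X.hom] [GeometricallyIntegral X.hom]

local notation "T[" A "]" => TateMod A l (SGA7.pt (K := k) Ω)

omit [IsAlgClosure k Ω] [IsProper X.hom] [GeometricallyIntegral X.hom] in
/-- The points of level `n` of a submodule of the Tate module. -/
def levelPts (L : Submodule ℤ_[l] T[X]) (n : ℕ) : Subgroup (Ω₀ ⟶ X) where
  carrier := {a | ∃ z ∈ L, TateMod.component X l Ω₀ n z = Additive.ofMul a}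
  one_mem' := ⟨0, L.zero_mem, map_zero _⟩
  mul_mem' := by
    rintro a b ⟨z, hz, ez⟩ ⟨w, hw, ew⟩
    exact ⟨z + w, L.add_mem hz hw, by rw [map_add, ez, ew]; rfl⟩
  inv_mem' := by
    rintro a ⟨z, hz, ez⟩
    exact ⟨-z, L.neg_mem hz, by rw [map_neg, ez]; rfl⟩

theorem levelPts_pow (L : Submodule ℤ_[l] T[X]) (n : ℕ) {a : Ω₀ ⟶ X} (ha : a ∈ levelPts L n) :
    a ^ l ^ n = 1 := by
  obtain ⟨z, -, ez⟩ := ha
  have := TateMod.component_mem z n
  rwa [ez] at this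

variable [Module.Finite ℤ_[l] (TateMod X l (SGA7.pt (K := k) Ω))]

set_option maxHeartbeats 4000000 in
/-- **A Galois stable lattice is, up to finite index, a sum of images of endomorphisms.** -/
theorem exists_ranges_of_stable (hKB : KernelBound.{u}) (hBF : BoundedFinite k) (hl : (l : k) ≠ 0)
    (L : Submodule ℤ_[l] T[X])
    (hL : ∀ (σ : Ω ≃ₐ[k] Ω) (n : ℕ), ∀ z ∈ L, ∃ z' ∈ L,
      (TateMod.component X l Ω₀ n z').toMul = SGA7.galAct σ (TateMod.component X l Ω₀ n z).toMul) :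
    ∃ (J : Type) (_ : Fintype J) (u : J → Module.End ℤ_[l] T[X]) (c : ℕ), c ≠ 0 ∧
      (∀ j, u j ∈ Submodule.span ℤ_[l] (Set.range (EndAV.End.tateRep (A := X) l Ω₀))) ∧
      (∀ j, LinearMap.range (u j) ≤ L) ∧
      ∀ z ∈ L, (c : ℤ_[l]) • z ∈ ⨆ j, LinearMap.range (u j) := by
  classical
  have hlp : l.Prime := Fact.out
  have : IsAlgClosed Ω := IsAlgClosure.isAlgClosed k
  -- the powers of `X`
  have : IsProper (X ⊗ X).hom := isProper_tensor X
  have : GeometricallyIntegral (X ⊗ X).hom := Groth.Abvar.Cube.geometricallyIntegral_tensor X X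
  have := GrpschAbsch.isCommMonObj_of_isProper (X ⊗ X)
  let B := (X ⊗ X) ⊗ (X ⊗ X)
  have : IsProper B.hom := isProper_tensor (X ⊗ X)
  have : GeometricallyIntegral B.hom :=
    Groth.Abvar.Cube.geometricallyIntegral_tensor (X ⊗ X) (X ⊗ X)
  have := GrpschAbsch.isCommMonObj_of_isProper B
  have : IsProper (B ⊗ B).hom := isProper_tensor B
  have : GeometricallyIntegral (B ⊗ B).hom := Groth.Abvar.Cube.geometricallyIntegral_tensor B B
  have := GrpschAbsch.isCommMonObj_of_isProper (B ⊗ B)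
  obtain ⟨Jd, _, ι', π', hι, hπ, hdec⟩ : HasDecomp X (B ⊗ B) :=
    (((hasDecomp_self (X := X)).square).square).square
  have : IsMonHom (1 : X ⟶ X) := Groth.AlgGrpAb.isMonHom_one
  have : IsMonHom (1 : X ⟶ X ⊗ X) := Groth.AlgGrpAb.isMonHom_one
  let i₁ : X ⟶ B := lift (lift (𝟙 X) 1) 1
  let π₁ : B ⟶ X := fst (X ⊗ X) (X ⊗ X) ≫ fst X X
  have : IsMonHom i₁ := inferInstanceAs (IsMonHom (lift (lift (𝟙 X) (1 : X ⟶ X)) (1 : X ⟶ X ⊗ X)))
  have : IsMonHom π₁ := inferInstanceAs (IsMonHom (fst (X ⊗ X) (X ⊗ X) ≫ fst X X))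
  have hiπ : i₁ ≫ π₁ = 𝟙 X := by
    show lift (lift (𝟙 X) (1 : X ⟶ X)) (1 : X ⟶ X ⊗ X) ≫ fst (X ⊗ X) (X ⊗ X) ≫ fst X X = _
    rw [lift_fst_assoc, lift_fst]
  obtain ⟨P₁⟩ := exists_goodPol X
  obtain ⟨P₄, hP₄⟩ := exists_pairs P₁
  obtain ⟨P₈, hP₈⟩ := P₄.exists_square
  -- the quotients
  let N : ℕ → ℕ := fun e => l ^ e * l ^ e
  have hN : ∀ e, N e = l ^ (e + e) := fun e => (pow_add l e e).symm
  let H : ℕ → Subgroup (Ω₀ ⟶ X) := fun e => levelPts L (e + e)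
  let D : ℕ → Subgroup (Ω₀ ⟶ B) := fun e =>
    (H e).map (MonoidHom.mk' (fun x => x ≫ i₁) fun a b => MonObj.mul_comp a b i₁)
  let C : ℕ → ℕ := fun s => Int.toNat
    ((Nat.card {z : Ω₀ ⟶ B // z ^ 2 = 1} : ℤ) *
      |@Curv2.euler k _ (B ⊗ B).left ⟨(B ⊗ B).hom⟩ (CohB1.tensorPow P₈.L (2 * s))|)
  obtain ⟨g, hg⟩ := Groth.FibreDim.exists_dim_eq_nat (B ⊗ B)
  obtain ⟨n, F, hF⟩ := hBF g C
  have hq : ∀ e : ℕ, ∃ (Y : Over (Spec (CommRingCat.of k))) (_ : GrpObj Y) (_ : IsCommMonObj Y)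
      (_ : IsProper Y.hom) (_ : GeometricallyIntegral Y.hom)
      (u : B ⊗ B ⟶ Y) (v : Y ⟶ B ⊗ B) (r : Y ⟶ X) (_ : IsMonHom u) (_ : IsMonHom v)
      (_ : IsMonHom r), v ≫ u = (𝟙 Y : Y ⟶ Y) ^ N e ∧
      (∀ w : Ω₀ ⟶ Y, w ^ N e = 1 → w ≫ r ∈ H e) ∧
      (∀ y ∈ H e, ∃ w : Ω₀ ⟶ Y, w ^ N e = 1 ∧ w ≫ r = y ^ 2) ∧
      ∃ i, Nonempty (Y ≅ F i) := by
    intro e
    obtain ⟨I, J, M, _, _, hAdj, hIJ, hdvd⟩ := hP₄ (N e) (by
      rw [hN]; exact pow_ne_zero _ hlp.ne_zero)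
    have hm : ((l ^ e : ℕ) : k) ≠ 0 := by rw [Nat.cast_pow]; exact pow_ne_zero _ hl
    obtain ⟨Y, _, _, u, v, _, _, _, _, huv, hvu, ha, hb, hdim, Ly, hLy, heul⟩ :=
      exists_graph_quotient hKB P₄ P₈ hP₈ I J hAdj hIJ hm hdvd (D e)
        (by
          rintro _ ⟨x, hx, rfl⟩
          show (x ≫ i₁) ^ _ = 1
          rw [← MonObj.pow_comp, ← pow_add, levelPts_pow L _ hx, MonObj.one_comp])
        (by
          rintro σ _ ⟨x, ⟨z, hz, ez⟩, rfl⟩
          obtain ⟨z', hz', e'⟩ := hL σ (e + e) z hz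
          rw [ez] at e'
          refine ⟨SGA7.galAct σ x, ⟨z', hz', congrArg Additive.ofMul e'⟩, ?_⟩
          exact Category.assoc (SGA7.specAut σ) x i₁)
    have : IsMonHom (projJ J) := Groth.AlgGrpAb.isMonHom_mul _ _
    refine ⟨Y, inferInstance, inferInstance, inferInstance, inferInstance, u, v,
      v ≫ projJ J ≫ π₁, inferInstance, inferInstance, inferInstance, hvu, ?_, ?_, ?_⟩
    · intro w hw
      obtain ⟨_, ⟨x, hx, rfl⟩, e⟩ := ha w hw
      rw [← Category.assoc, ← Category.assoc, e]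
      show ((x ≫ i₁ : Ω₀ ⟶ B) ^ 2) ≫ π₁ ∈ _
      rw [MonObj.pow_comp, Category.assoc, hiπ, Category.comp_id]
      exact pow_mem hx 2
    · intro y hy
      obtain ⟨w, hw, e⟩ := hb (y ≫ i₁) ⟨y, hy, rfl⟩
      refine ⟨w, hw, ?_⟩
      rw [← Category.assoc, ← Category.assoc, e, MonObj.pow_comp, Category.assoc, hiπ,
        Category.comp_id]
    · refine hF Y (hdim.trans hg) Ly hLy fun s hs => (heul s hs).trans ?_
      exact (Int.toNat_of_nonneg (mul_nonneg (Nat.cast_nonneg _) (abs_nonneg _))).ge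
  choose Y instY instY' hYp hYg u v r hum hvm hrm hvu hr₁ hr₂ idx hiso using hq
  obtain ⟨i₀, hi₀⟩ := Finite.exists_infinite_fiber idx
  have hinf : (idx ⁻¹' {i₀}).Infinite := Set.infinite_coe_iff.1 hi₀
  obtain ⟨e₀, he₀⟩ := hinf.nonempty
  let ns : ℕ → ℕ := Nat.nth (· ∈ idx ⁻¹' {i₀})
  have hns : StrictMono ns := Nat.nth_strictMono hinf
  -- the homomorphisms
  let c₀ : ℕ := 2 * N e₀
  have hU : ∀ j, ∃ U : Jd → EndAV.End X,
      (∀ i z, ∃ y ∈ L, ∃ w, EndAV.End.tateRep l Ω₀ (U i) z = y + (l : ℤ_[l]) ^ ns j • w) ∧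
      ∀ y ∈ L, ∃ (ζ : Jd → T[X]) (w : T[X]), ∑ i, EndAV.End.tateRep l Ω₀ (U i) (ζ i) =
        (c₀ : ℤ_[l]) • y + (l : ℤ_[l]) ^ ns j • w := by
    intro j
    let := instY e₀; have := instY' e₀; have := hYp e₀; have := hYg e₀; have := hum e₀
    let := instY (ns j); have := instY' (ns j); have := hYp (ns j); have := hYg (ns j)
    have := hrm (ns j); have := hvm e₀
    obtain ⟨a₀⟩ := hiso e₀
    obtain ⟨a₁⟩ := hiso (ns j)
    obtain ⟨f, f', hfm, hf'm, hf'f⟩ := exists_group_iso (Y := Y e₀) (Y' := Y (ns j))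
      (a₀ ≪≫ eqToIso (by rw [show idx e₀ = i₀ from he₀]; exact congrArg F (Nat.nth_mem_of_infinite hinf j).symm) ≪≫ a₁.symm)
    let h : B ⊗ B ⟶ X := u e₀ ≫ f ≫ r (ns j)
    have : IsMonHom h := inferInstanceAs (IsMonHom (u e₀ ≫ f ≫ r (ns j)))
    have hhH : ∀ z : Ω₀ ⟶ B ⊗ B, z ^ N (ns j) = 1 → z ≫ h ∈ H (ns j) := fun z hz => by
      show z ≫ u e₀ ≫ f ≫ r (ns j) ∈ _
      rw [← Category.assoc, ← Category.assoc]
      exact hr₁ _ _ (by rw [← MonObj.pow_comp, ← MonObj.pow_comp, hz, MonObj.one_comp,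
        MonObj.one_comp])
    have hcomp : ∀ (y : Ω₀ ⟶ X), y ^ N (ns j) = 1 → ∃ a : T[X],
        TateMod.component X l Ω₀ (ns j + ns j) a = Additive.ofMul y := fun y hy =>
      exists_tateMod_component (fun b => exists_pow_eq_bc (A := X) Ω hlp.ne_zero b) _ y
        (by rwa [← hN])
    refine ⟨fun i => haveI := hι i; EndAV.End.of (ι' i ≫ h), ?_, ?_⟩
    · intro i z
      have := hι i
      have hz : (TateMod.component X l Ω₀ (ns j + ns j) z).toMul ≫ ι' i ≫ h ∈ H (ns j) := by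
        rw [← Category.assoc]
        refine hhH _ ?_
        rw [← MonObj.pow_comp, hN]
        exact (congrArg (· ≫ ι' i) (TateMod.component_mem z (ns j + ns j))).trans
          (MonObj.one_comp (ι' i))
      obtain ⟨y, hy, ey⟩ := hz
      obtain ⟨w, hw⟩ := exists_eq_pow_smul
        (tateMapₗ (l := l) (T := Ω₀) (ι' i ≫ h) z - y) (ns j + ns j) (by
          rw [map_sub, ey]; exact sub_self _)
      refine ⟨y, hy, (l : ℤ_[l]) ^ ns j • w, ?_⟩
      rw [smul_smul, ← pow_add, ← hw, add_sub_cancel]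
      rfl
    · intro y hy
      set y' := (TateMod.component X l Ω₀ (ns j + ns j) y).toMul with hy'
      have hyH : y' ∈ H (ns j) := ⟨y, hy, rfl⟩
      obtain ⟨w, hw, ew⟩ := hr₂ (ns j) y' hyH
      let z : Ω₀ ⟶ B ⊗ B := (w ≫ f') ≫ v e₀
      have hz : z ^ N (ns j) = 1 := by
        rw [← MonObj.pow_comp, ← MonObj.pow_comp, hw, MonObj.one_comp, MonObj.one_comp]
      have hzh : z ≫ h = y' ^ c₀ := by
        show ((w ≫ f') ≫ v e₀) ≫ u e₀ ≫ f ≫ r (ns j) = _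
        rw [Category.assoc (w ≫ f'), ← Category.assoc (v e₀), hvu e₀, MonObj.pow_comp,
          Category.id_comp, MonObj.comp_pow, Category.assoc, ← Category.assoc f', hf'f,
          Category.id_comp, ew, ← pow_mul]
      have hzi : ∀ i, ∃ a : T[X],
          TateMod.component X l Ω₀ (ns j + ns j) a = Additive.ofMul (z ≫ π' i) := fun i => by
        have := hπ i
        exact hcomp _ (by rw [← MonObj.pow_comp, hz, MonObj.one_comp])
      choose ζ hζ using hzi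
      have hsum : TateMod.component X l Ω₀ (ns j + ns j)
          ((∑ i, tateMapₗ (l := l) (T := Ω₀) (ι' i ≫ h) (ζ i)) - (c₀ : ℤ_[l]) • y) = 0 := by
        rw [map_sub, map_sum, sub_eq_zero]
        have e1 : ∀ i, TateMod.component X l Ω₀ (ns j + ns j)
            (tateMapₗ (l := l) (T := Ω₀) (ι' i ≫ h) (ζ i)) =
              Additive.ofMul ((z ≫ π' i) ≫ ι' i ≫ h) := fun i =>
          congrArg (fun a : Additive (Ω₀ ⟶ X) => Additive.ofMul (a.toMul ≫ ι' i ≫ h)) (hζ i)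
        rw [Finset.sum_congr rfl fun i _ => e1 i, ← ofMul_prod]
        refine Eq.trans ?_ (component_natCast_smul c₀ y (ns j + ns j)).symm
        show Additive.ofMul _ = Additive.ofMul (y' ^ c₀)
        refine congrArg Additive.ofMul ?_
        rw [← hzh]
        conv_rhs => rw [← Category.id_comp h, ← hdec, prod_comp, comp_prod]
        simp only [Category.assoc]
      obtain ⟨w', hw'⟩ := exists_eq_pow_smul _ _ hsum
      refine ⟨ζ, (l : ℤ_[l]) ^ ns j • w', ?_⟩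
      rw [smul_smul, ← pow_add, ← hw', add_sub_cancel]
      rfl
  choose U hU1 hU2 using hU
  obtain ⟨gX, hgX⟩ := Groth.FibreDim.exists_dim_eq_nat X
  have : Module.Finite ℤ (EndAV.End X) := (free_finite_hom (A := X) (B := X) hgX hgX).2.1
  obtain ⟨rk, gen, hgen⟩ := Module.Finite.exists_fin (R := ℤ) (M := EndAV.End X)
  have hco : ∀ j i, ∃ c : Fin rk → ℤ, ∑ a, c a • gen a = U j i := fun j i =>
    (Submodule.mem_span_range_iff_exists_fun ℤ).1 (hgen ▸ Submodule.mem_top)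
  choose co hco using hco
  let eJ := Fintype.equivFin (Jd × Fin rk)
  obtain ⟨φ, b, hφ, hb⟩ := exists_subseq_congr (l := l)
    (fun j q => co j (eJ.symm q).1 (eJ.symm q).2)
  set ρ := EndAV.End.tateRep (A := X) l Ω₀ with hρ
  let lim : Jd → Module.End ℤ_[l] T[X] := fun i => ∑ a, b (eJ (i, a)) • ρ (gen a)
  have hclose : ∀ M : ℕ, ∀ᶠ j in atTop, ∀ i z, ∃ y, lim i z - ρ (U (φ j) i) z = (l : ℤ_[l]) ^ M • y := by
    intro M
    filter_upwards [hb M] with j hj i z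
    choose y hy using hj
    refine ⟨∑ a, y (eJ (i, a)) • ρ (gen a) z, ?_⟩
    rw [← hco (φ j) i, map_sum, Finset.smul_sum]
    simp only [lim, LinearMap.sum_apply, LinearMap.smul_apply, map_zsmul, ← Finset.sum_sub_distrib]
    refine Finset.sum_congr rfl fun a _ => ?_
    have hh := hy (eJ (i, a))
    rw [eJ.symm_apply_apply] at hh
    rw [← Int.cast_smul_eq_zsmul ℤ_[l], ← sub_smul, hh, smul_smul]
  have hbig : ∀ M : ℕ, ∀ᶠ j in atTop, M ≤ ns (φ j) := fun M =>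
    (hns.comp hφ).tendsto_atTop.eventually_ge_atTop M
  refine ⟨Jd, inferInstance, lim, c₀, Nat.mul_ne_zero two_ne_zero (by
    rw [hN]; exact pow_ne_zero _ hlp.ne_zero), fun i => Submodule.sum_mem _ fun a _ =>
      Submodule.smul_mem _ _ (Submodule.subset_span ⟨gen a, rfl⟩), ?_, fun y hy => ?_⟩
  · rintro i _ ⟨z, rfl⟩
    refine mem_of_forall_mem_add_pow L _ fun M => ?_
    obtain ⟨j, hj, hjM⟩ := ((hclose M).and (hbig M)).exists
    obtain ⟨y₁, hy₁⟩ := hj i z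
    obtain ⟨y₂, hy₂, w, hw⟩ := hU1 (φ j) i z
    refine ⟨y₁ + (l : ℤ_[l]) ^ (ns (φ j) - M) • w, ?_⟩
    rw [smul_add, smul_smul, ← pow_add, Nat.add_sub_cancel' hjM, ← hy₁]
    rw [show ρ (U (φ j) i) z = y₂ + (l : ℤ_[l]) ^ ns (φ j) • w from hw]
    convert hy₂ using 1
    abel
  · refine mem_of_forall_mem_add_pow _ _ fun M => ?_
    obtain ⟨j, hj, hjM⟩ := ((hclose M).and (hbig M)).exists
    obtain ⟨ζ, w, hw⟩ := hU2 (φ j) y hy
    choose d hd using fun i => hj i (ζ i)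
    refine ⟨-(∑ i, d i) - (l : ℤ_[l]) ^ (ns (φ j) - M) • w, ?_⟩
    have e : (c₀ : ℤ_[l]) • y - (l : ℤ_[l]) ^ M •
        (-(∑ i, d i) - (l : ℤ_[l]) ^ (ns (φ j) - M) • w) = ∑ i, lim i (ζ i) := by
      rw [smul_sub, smul_neg, smul_smul, ← pow_add, Nat.add_sub_cancel' hjM, Finset.smul_sum,
        ← Finset.sum_congr rfl fun i _ => hd i, Finset.sum_sub_distrib, hw]
      abel
    rw [e]
    exact Submodule.sum_mem _ fun i _ => Submodule.mem_iSup_of_mem i ⟨_, rfl⟩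

end Groth.AbVarTate
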