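import Groth.Agent.AbVarTate.Points

/-!
# Descent of cross terms along multiplication and the symmetry of orthogonality
-/

set_option autoImplicit false
set_option linter.unusedSectionVars false
set_option backward.isDefEq.respectTransparency.types false
universe u

open CategoryTheory MonoidalCategory CartesianMonoidalCategory MonObj GrpObj AlgebraicGeometry

noncomputable section

namespace Groth.AbVarTate

open Groth.Abvar.PicCalc

variable {k : Type u} [Field k] (Ω : Type u) [Field Ω] [Algebra k Ω] [IsAlgClosure k Ω]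

variable {X A B : Over (Spec (CommRingCat.of k))}
  [GrpObj X] [IsCommMonObj X] [IsProper X.hom] [GeometricallyIntegral X.hom]
  [GrpObj A] [IsCommMonObj A] [IsProper A.hom] [GeometricallyIntegral A.hom]
  [GrpObj B] [IsCommMonObj B] [IsProper B.hom] [GeometricallyIntegral B.hom]

/-- The pullback of the cross term to `A × B`. -/
abbrev crossClass (c : PicLoc.PicSet X.left) (v₁ : A ⟶ X) (v₂ : B ⟶ X) :
    PicLoc.PicSet (A ⊗ B).left := cross c (fst A B ≫ v₁) (snd A B ≫ v₂)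

theorem opull_crossClass (c : PicLoc.PicSet X.left) (v₁ : A ⟶ X) (v₂ : B ⟶ X)
    {W : Over (Spec (CommRingCat.of k))} (a : W ⟶ A) (b : W ⟶ B) :
    opull (lift a b) (crossClass c v₁ v₂) = cross c (a ≫ v₁) (b ≫ v₂) := by
  rw [opull_cross, lift_fst_assoc, lift_snd_assoc]

theorem sfq_pow {N : ℕ} (hN : (N : k) ≠ 0) :
    Flat (𝟙 B ^ N : B ⟶ B).left ∧ QuasiCompact (𝟙 B ^ N : B ⟶ B).left ∧
      Surjective (𝟙 B ^ N : B ⟶ B).left := by
  have hN0 : (N : ℤ) ≠ 0 := fun h => hN (by rw [show N = 0 by exact_mod_cast h, Nat.cast_zero])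
  rw [← zpow_natCast]
  obtain ⟨h1, h2, h3⟩ := Groth.AbVarMul.isogeny_zpow (A := B) hN0
  exact ⟨h2, inferInstance, h3⟩

/-- A cross term trivial against the `N`-torsion of the second factor descends along `N`. -/
theorem exists_cross_descent (c : PicLoc.PicSet X.left) (v₁ : A ⟶ X) [IsMonHom v₁] (v₂ : B ⟶ X)
    [IsMonHom v₂] {N : ℕ} (hN : (N : k) ≠ 0)
    (h : ∀ z : SGA7.pt (K := k) Ω ⟶ B, z ^ N = 1 →
      cross c (fst A _ ≫ v₁) (snd A _ ≫ z ≫ v₂) = 1) :
    ∃ Q : PicLoc.PicSet (A ⊗ B).left, opull (lift (1 : B ⟶ A) (𝟙 B)) Q = 1 ∧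
      ∀ (W : Over (Spec (CommRingCat.of k))) (a : W ⟶ A) (b : W ⟶ B),
        opull (lift a (b ^ N)) Q = cross c (a ≫ v₁) (b ≫ v₂) := by
  have hN0 : (N : ℤ) ≠ 0 := fun e => hN (by rw [show N = 0 by exact_mod_cast e, Nat.cast_zero])
  have : IsMonHom (𝟙 B ^ N : B ⟶ B) := by rw [← zpow_natCast]; infer_instance
  obtain ⟨K, _, j, _, _, hjc, hK⟩ := AlgGrpAb.exists_kernel (𝟙 B ^ N : B ⟶ B)
  have : IsFinite K.hom := by
    have : IsFinite (𝟙 B ^ N : B ⟶ B).left := by
      rw [← zpow_natCast]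
      exact (Groth.AbVarMul.isogeny_zpow (A := B) hN0).1
    exact MorphismProperty.of_isPullback (P := @IsFinite) (hK.map (Over.forget _)) this
  have : Etale K.hom := by
    have : Etale (𝟙 B ^ N : B ⟶ B).left := by
      rw [← zpow_natCast]
      exact GrpschAbsch.etale_zpow (N : ℤ) (by exact_mod_cast hN)
    exact MorphismProperty.of_isPullback (P := @Etale) (hK.map (Over.forget _)) this
  have hj : j ^ N = 1 := by
    have h := AlgGrp1.IsKernel.comp_eq_one hK
    rwa [MonObj.comp_pow, Category.comp_id] at h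
  have huniv : cross c (fst A K ≫ v₁) (snd A K ≫ j ≫ v₂) = 1 := by
    refine eq_one_of_points Ω ?_ fun w => ?_
    · rw [opull_cross, lift_fst_assoc, MonObj.one_comp, cross_one_left]
    · rw [opull_cross, whiskerLeft_fst_assoc, whiskerLeft_snd_assoc, ← Category.assoc w j v₂]
      exact h (w ≫ j) (by rw [← MonObj.comp_pow, hj, MonObj.comp_one])
  obtain ⟨_, _, _⟩ := sfq_pow (B := B) hN
  obtain ⟨Q, hQ1, hQ⟩ := exists_descend (A := A) (𝟙 B ^ N : B ⟶ B) (c' := crossClass c v₁ v₂)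
    (by rw [opull_crossClass, MonObj.one_comp, cross_one_left]) fun W b b' hbb => by
      rw [opull_cross, opull_cross, whiskerLeft_fst_assoc, whiskerLeft_snd_assoc,
        whiskerLeft_fst_assoc, whiskerLeft_snd_assoc]
      rw [MonObj.comp_pow, MonObj.comp_pow, Category.comp_id, Category.comp_id] at hbb
      obtain ⟨d, hd⟩ := AlgGrp1.IsKernel.exists_lift hK (b * b'⁻¹) (by
        rw [MonObj.comp_pow, Category.comp_id, mul_pow, inv_pow, hbb, mul_inv_cancel])
      have e : b = (d ≫ j) * b' := by rw [hd, inv_mul_cancel_right]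
      rw [e, MonObj.mul_comp, MonObj.comp_mul, cross_mul_right,
        show cross c (fst A W ≫ v₁) (snd A W ≫ (d ≫ j) ≫ v₂) =
          opull (A ◁ d) (cross c (fst A K ≫ v₁) (snd A K ≫ j ≫ v₂)) by
            rw [opull_cross, whiskerLeft_fst_assoc, whiskerLeft_snd_assoc, Category.assoc],
        huniv, map_one, _root_.one_mul]
  refine ⟨Q, hQ1, fun W a b => ?_⟩
  have e : lift a (b ^ N) = lift a b ≫ (A ◁ (𝟙 B ^ N : B ⟶ B)) := by
    rw [lift_whiskerLeft, MonObj.comp_pow, Category.comp_id]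
  rw [e, opull_comp, hQ, opull_crossClass]

/-- A descended cross term moves multiples of `N` between the variables. -/
theorem descent_swap {c : PicLoc.PicSet X.left} {v₁ : A ⟶ X} [IsMonHom v₁] {v₂ : B ⟶ X}
    [IsMonHom v₂] {N : ℕ} (hN : (N : k) ≠ 0) {Q : PicLoc.PicSet (A ⊗ B).left}
    (hQ1 : opull (lift (1 : B ⟶ A) (𝟙 B)) Q = 1)
    (hQ : ∀ (W : Over (Spec (CommRingCat.of k))) (a : W ⟶ A) (b : W ⟶ B),
      opull (lift a (b ^ N)) Q = cross c (a ≫ v₁) (b ≫ v₂))
    {W : Over (Spec (CommRingCat.of k))} (a : W ⟶ A) (b : W ⟶ B) :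
    opull (lift a (b ^ N)) Q = opull (lift (a ^ N) b) Q := by
  obtain ⟨_, _, _⟩ := sfq_pow (B := B) hN
  have h1Q : ∀ {W : Over (Spec (CommRingCat.of k))} (b : W ⟶ B),
      opull (lift (1 : W ⟶ A) b) Q = 1 := fun {W} b => by
    rw [show lift (1 : W ⟶ A) b = b ≫ lift (1 : B ⟶ A) (𝟙 B) by
      rw [comp_lift, MonObj.comp_one, Category.comp_id], opull_comp, hQ1, map_one]
  let R : PicLoc.PicSet (A ⊗ B).left :=
    opull (lift (fst A B) (snd A B ^ N)) Q / opull (lift (fst A B ^ N) (snd A B)) Q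
  have hR : ∀ {W : Over (Spec (CommRingCat.of k))} (a : W ⟶ A) (b : W ⟶ B),
      opull (lift a b) R = opull (lift a (b ^ N)) Q / opull (lift (a ^ N) b) Q := fun a b => by
    simp only [R, map_div, ← opull_comp, comp_lift, MonObj.comp_pow, lift_fst, lift_snd]
  have h1 : R = 1 := by
    refine eq_one_of_cover (𝟙 B ^ N : B ⟶ B) ?_ ?_
    · rw [hR, one_pow, h1Q, h1Q, div_one]
    · rw [show (A ◁ (𝟙 B ^ N : B ⟶ B)) = lift (fst A B) ((snd A B) ^ N) by
        refine CartesianMonoidalCategory.hom_ext _ _ ?_ ?_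
        · rw [whiskerLeft_fst, lift_fst]
        · rw [whiskerLeft_snd, lift_snd, MonObj.comp_pow, Category.comp_id], hR, hQ, hQ,
        div_eq_one]
      simp only [MonObj.pow_comp, cross_pow_left, cross_pow_right]
  have := hR a b
  rw [h1, map_one] at this
  exact div_eq_one.1 this.symm

/-- `v` and the point `y` are orthogonal for the cross term. -/
def Orth (c : PicLoc.PicSet X.left) (v : A ⟶ X) (y : SGA7.pt (K := k) Ω ⟶ X) : Prop :=
  cross c (fst A (SGA7.pt (K := k) Ω) ≫ v) (snd A (SGA7.pt (K := k) Ω) ≫ y) = 1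

variable {Ω}

theorem Orth.one (c : PicLoc.PicSet X.left) (v : A ⟶ X) : Orth Ω c v 1 := by
  rw [Orth, MonObj.comp_one, cross_one_right]

theorem Orth.mul {c : PicLoc.PicSet X.left} {v : A ⟶ X} {y y' : SGA7.pt (K := k) Ω ⟶ X}
    (h : Orth Ω c v y) (h' : Orth Ω c v y') : Orth Ω c v (y * y') := by
  rw [Orth] at h h' ⊢
  rw [MonObj.comp_mul, cross_mul_right, h, h', _root_.mul_one]

/-- Orthogonality is Galois stable. -/
theorem Orth.galAct {c : PicLoc.PicSet X.left} {v : A ⟶ X} {y : SGA7.pt (K := k) Ω ⟶ X}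
    (h : Orth Ω c v y) (σ : Ω ≃ₐ[k] Ω) : Orth Ω c v (SGA7.galAct σ y) := by
  have h' := congrArg (opull (A ◁ SGA7.specAut σ)) h
  rwa [opull_cross, map_one, whiskerLeft_fst_assoc, whiskerLeft_snd_assoc] at h'

/-- **Symmetry of orthogonality.** -/
theorem Orth.symm {c : PicLoc.PicSet X.left} {v₁ : A ⟶ X} [IsMonHom v₁] {v₂ : B ⟶ X}
    [IsMonHom v₂] {N : ℕ} (hN : (N : k) ≠ 0)
    (h : ∀ z : SGA7.pt (K := k) Ω ⟶ B, z ^ N = 1 → Orth Ω c v₁ (z ≫ v₂))
    (z : SGA7.pt (K := k) Ω ⟶ A) (hz : z ^ N = 1) : Orth Ω c v₂ (z ≫ v₁) := by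
  obtain ⟨Q, hQ1, hQ⟩ := exists_cross_descent Ω c v₁ v₂ hN h
  have h2 := hQ _ (snd B (SGA7.pt (K := k) Ω) ≫ z) (fst B (SGA7.pt (K := k) Ω))
  rw [descent_swap hN hQ1 hQ, ← MonObj.comp_pow, hz, MonObj.comp_one,
    show lift (1 : B ⊗ SGA7.pt (K := k) Ω ⟶ A) (fst B (SGA7.pt (K := k) Ω)) =
      fst B (SGA7.pt (K := k) Ω) ≫ lift (1 : B ⟶ A) (𝟙 B) by
      rw [comp_lift, MonObj.comp_one, Category.comp_id], opull_comp, hQ1, map_one, cross_comm,
    Category.assoc] at h2
  exact h2.symm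

/-- **The class on an isotropic quotient.** If the pulled back cross term is trivial against the
`N`-torsion, it is `N` times the square of a class. -/
theorem exists_root (c : PicLoc.PicSet X.left) (hc : opull (𝟙 X)⁻¹ c = c) (u : X ⟶ A) [IsMonHom u]
    (v : A ⟶ X) [IsMonHom v] {N : ℕ} (hN : (N : k) ≠ 0) (huv : u ≫ v = (𝟙 X : X ⟶ X) ^ N)
    (h : ∀ z : SGA7.pt (K := k) Ω ⟶ A, z ^ N = 1 → Orth Ω c v (z ≫ v)) :
    ∃ M : PicLoc.PicSet A.left, opull u M = c ^ (2 * N) := by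
  obtain ⟨Q, hQ1, hQ⟩ := exists_cross_descent Ω c v v hN h
  obtain ⟨_, _, _⟩ := sfq_pow (B := X) hN
  have h1Q : ∀ {W : Over (Spec (CommRingCat.of k))} (b : W ⟶ A),
      opull (lift (1 : W ⟶ A) b) Q = 1 := fun {W} b => by
    rw [show lift (1 : W ⟶ A) b = b ≫ lift (1 : A ⟶ A) (𝟙 A) by
      rw [comp_lift, MonObj.comp_one, Category.comp_id], opull_comp, hQ1, map_one]
  let R : PicLoc.PicSet (X ⊗ X).left :=
    opull (lift (fst X X ≫ u) (snd X X ≫ u)) Q / cross c (fst X X) (snd X X) ^ N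
  have hR : ∀ {W : Over (Spec (CommRingCat.of k))} (a b : W ⟶ X),
      opull (lift a b) R = opull (lift (a ≫ u) (b ≫ u)) Q / cross c a b ^ N := fun a b => by
    simp only [R, map_div, map_pow, opull_cross, ← opull_comp, comp_lift, lift_fst, lift_snd,
      lift_fst_assoc, lift_snd_assoc]
  have h1 : R = 1 := by
    refine eq_one_of_cover (𝟙 X ^ N : X ⟶ X) ?_ ?_
    · rw [hR, MonObj.one_comp, h1Q, cross_one_left, one_pow, div_one]
    · rw [show (X ◁ (𝟙 X ^ N : X ⟶ X)) = lift (fst X X) ((snd X X) ^ N) by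
        refine CartesianMonoidalCategory.hom_ext _ _ ?_ ?_
        · rw [whiskerLeft_fst, lift_fst]
        · rw [whiskerLeft_snd, lift_snd, MonObj.comp_pow, Category.comp_id], hR, MonObj.pow_comp,
        hQ, div_eq_one]
      simp only [Category.assoc, huv, MonObj.comp_pow, Category.comp_id, cross_pow_left,
        cross_pow_right]
  refine ⟨opull (lift (𝟙 A) (𝟙 A)) Q, ?_⟩
  have := hR (𝟙 X) (𝟙 X)
  rw [h1, map_one, Category.id_comp, cross_self hc, opull_id, ← pow_mul] at this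
  rw [← opull_comp, comp_lift, Category.comp_id, div_eq_one.1 this.symm]

end Groth.AbVarTate
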