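import Groth.Agent.AbVarTate.Pairing
import Groth.Agent.AbVarTate.BoundedSpec
import Groth.Agent.AbVarMul.EtaleKer
import Groth.Agent.AbVarMul.IsogenyPts
import Groth.Agent.AbVarMul.Torsion
import Groth.Agent.AbVarMul.Consequences

/-!
# The orthogonal of a finite Galois stable group of points is large
-/

set_option autoImplicit false
set_option linter.unusedSectionVars false
set_option backward.isDefEq.respectTransparency.types false
universe u

open CategoryTheory Limits MonoidalCategory CartesianMonoidalCategory MonObj GrpObj AlgebraicGeometry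

noncomputable section

namespace Groth.AbVarTate

open Groth.Abvar.PicCalc Groth.AbVarMul

variable {k : Type u} [Field k] {Ω : Type u} [Field Ω] [Algebra k Ω] [IsAlgClosure k Ω]
  {X Y : Over (Spec (CommRingCat.of k))}
  [GrpObj X] [IsCommMonObj X] [IsProper X.hom] [GeometricallyIntegral X.hom]
  [GrpObj Y] [IsCommMonObj Y] [IsProper Y.hom] [GeometricallyIntegral Y.hom]

/-- A homomorphism dividing multiplication by an integer prime to the characteristic is étale. -/
theorem etale_of_mul_eq_pow (u : X ⟶ Y) [IsMonHom u] (v : Y ⟶ X) [IsMonHom v] {N : ℕ}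
    (hN : (N : k) ≠ 0) (huv : u ≫ v = (𝟙 X : X ⟶ X) ^ N) (hvu : v ≫ u = (𝟙 Y : Y ⟶ Y) ^ N) :
    IsFinite u.left ∧ Surjective u.left ∧ Etale u.left := by
  have hN0 : (N : ℤ) ≠ 0 := fun e => hN (by rw [show N = 0 by exact_mod_cast e, Nat.cast_zero])
  have hNk : ((N : ℤ) : k) ≠ 0 := by exact_mod_cast hN
  have h1 : u.left ≫ v.left = (𝟙 X ^ (N : ℤ) : X ⟶ X).left := by
    rw [← Over.comp_left, huv, zpow_natCast]
  have h2 : v.left ≫ u.left = (𝟙 Y ^ (N : ℤ) : Y ⟶ Y).left := by
    rw [← Over.comp_left, hvu, zpow_natCast]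
  obtain ⟨hXf, -, hXs⟩ := isogeny_zpow (A := X) hN0
  obtain ⟨hYf, -, hYs⟩ := isogeny_zpow (A := Y) hN0
  have : IsFinite (u.left ≫ v.left) := by rw [h1]; exact hXf
  have : IsFinite (v.left ≫ u.left) := by rw [h2]; exact hYf
  have := Groth.Abvar.isIntegral_left X
  have := Groth.Abvar.isIntegral_left Y
  have : IsSeparated (v.left ≫ X.hom) := by rw [Over.w]; infer_instance
  have : IsSeparated v.left := IsSeparated.of_comp v.left X.hom
  have : IsSeparated (u.left ≫ Y.hom) := by rw [Over.w]; infer_instance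
  have : IsSeparated u.left := IsSeparated.of_comp u.left Y.hom
  have : IsFinite u.left := IsFinite.of_comp u.left v.left
  have : IsFinite v.left := IsFinite.of_comp v.left u.left
  have hus : Surjective u.left := by
    have : Surjective (v.left ≫ u.left) := by rw [h2]; exact hYs
    exact Surjective.of_comp v.left u.left
  have : Etale (u.left ≫ v.left) := by rw [h1]; exact GrpschAbsch.etale_zpow (N : ℤ) hNk
  have : FormallyUnramified u.left := FormallyUnramified.of_comp u.left v.left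
  have := Groth.Abvar.Hom.flat_of_surjective u
  have : LocallyOfFinitePresentation u.left := Groth.AlgGrp1.lfp_left u
  exact ⟨‹_›, hus, Etale.of_formallyUnramified_of_flat u.left⟩

theorem bcMap_left_eq (u : X ⟶ Y) :
    ((bcF Ω).map u).left = (u ▷ SGA7.pt (K := k) Ω).left := by
  apply Limits.pullback.hom_ext
  · refine (bcMap_left_fst Ω u).trans ?_
    exact (congrArg Over.Hom.left (whiskerRight_fst u (SGA7.pt (K := k) Ω))).symm
  · refine (Over.w ((bcF Ω).map u)).trans ?_
    exact (congrArg Over.Hom.left (whiskerRight_snd u (SGA7.pt (K := k) Ω))).symm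

/-- Torsion classes killed by an étale isogeny are at most as many as the points in its kernel. -/
theorem finite_kernel_classes (hKB : KernelBound.{u}) (u : X ⟶ Y) [IsMonHom u] (v : Y ⟶ X)
    [IsMonHom v] {N : ℕ} (hN : (N : k) ≠ 0) (huv : u ≫ v = (𝟙 X : X ⟶ X) ^ N)
    (hvu : v ≫ u = (𝟙 Y : Y ⟶ Y) ^ N) :
    {c : PicLoc.PicSet (Y ⊗ SGA7.pt (K := k) Ω).left |
        opull (u ▷ SGA7.pt (K := k) Ω) c = 1 ∧ c ^ N = 1}.Finite ∧
      {c : PicLoc.PicSet (Y ⊗ SGA7.pt (K := k) Ω).left |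
        opull (u ▷ SGA7.pt (K := k) Ω) c = 1 ∧ c ^ N = 1}.ncard ≤
        Nat.card {x : SGA7.pt (K := k) Ω ⟶ X // x ≫ u = 1} := by
  have : IsAlgClosed Ω := IsAlgClosure.isAlgClosed k
  obtain ⟨hf, hs, he⟩ := etale_of_mul_eq_pow u v hN huv hvu
  let : GrpObj ((bcF Ω).obj X) := Functor.grpObjObj
  let : GrpObj ((bcF Ω).obj Y) := Functor.grpObjObj
  have := isProper_bcF Ω X
  have := isProper_bcF Ω Y
  have := geometricallyIntegral_bcF Ω X
  have := geometricallyIntegral_bcF Ω Y
  have := Groth.Abvar.isIntegral_left ((bcF Ω).obj X)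
  have := Groth.Abvar.isIntegral_left ((bcF Ω).obj Y)
  let q := (bcF Ω).map u
  have : IsMonHom q := inferInstanceAs (IsMonHom ((bcF Ω).map u))
  have sq := Groth.GrpschAbsch.FibreFlat.isPullback_map
    (Spec.map (CommRingCat.ofHom (algebraMap k Ω))) u
  have : IsFinite q.left := MorphismProperty.of_isPullback (P := @IsFinite) sq hf
  have : Etale q.left := MorphismProperty.of_isPullback (P := @Etale) sq he
  have : Surjective q.left := MorphismProperty.of_isPullback (P := @Surjective) sq hs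
  have hdim : topologicalKrullDim ((bcF Ω).obj X).left = topologicalKrullDim ((bcF Ω).obj Y).left :=
    topologicalKrullDim_eq_of_finite_surjective q.left
  have hN' : (N : Ω) ≠ 0 := fun h => hN ((algebraMap k Ω).injective (by rw [map_natCast, map_zero, h]))
  have hcard : Nat.card {x : SGA7.pt (K := k) Ω ⟶ X // x ≫ u = 1} = homDeg q := by
    rw [← natCard_ker_eq_homDeg q hdim]
    exact Nat.card_congr ((bcPoints Ω X).toEquiv.subtypeEquiv fun x => by
      show x ≫ u = 1 ↔ bcPoints Ω X x ≫ q = 1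
      rw [← bcPoints_comp, map_eq_one_iff _ (bcPoints Ω Y).injective])
  rw [hcard]
  have key := hKB Ω ((bcF Ω).obj X) ((bcF Ω).obj Y) q (homDeg q)
    (fun y => finrank_eq_homDeg q hdim y) N hN'
  have e : (u ▷ SGA7.pt (K := k) Ω).left = q.left := (bcMap_left_eq u).symm
  change {c : PicLoc.PicSet (Y ⊗ SGA7.pt (K := k) Ω).left |
      pull (u ▷ SGA7.pt (K := k) Ω).left c = 1 ∧ c ^ N = 1}.Finite ∧ _
  simp only [show ∀ c, pull (u ▷ SGA7.pt (K := k) Ω).left c = pull q.left c from fun c => by rw [e]]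
  exact key

/-- Orthogonal points killed by `N`. -/
def perp (Ω : Type u) [Field Ω] [Algebra k Ω] [IsAlgClosure k Ω] (c : PicLoc.PicSet X.left) (v : Y ⟶ X) (N : ℕ) :
    Subgroup (SGA7.pt (K := k) Ω ⟶ X) where
  carrier := {y | y ^ N = 1 ∧ Orth Ω c v y}
  one_mem' := ⟨one_pow N, Orth.one c v⟩
  mul_mem' {a b} ha hb := ⟨by rw [mul_pow, ha.1, hb.1, _root_.one_mul], ha.2.mul hb.2⟩
  inv_mem' {a} ha := ⟨by rw [inv_pow, ha.1, inv_one], by
    show cross c _ _ = 1
    rw [GrpObj.comp_inv, show cross c _ _ = crossR c _ _ from rfl, map_inv,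
      show crossR c _ _ = cross c _ _ from rfl, ha.2, inv_one]⟩

theorem galAct_mem_perp {c : PicLoc.PicSet X.left} {v : Y ⟶ X} {N : ℕ}
    {y : SGA7.pt (K := k) Ω ⟶ X} (hy : y ∈ perp Ω c v N) (σ : Ω ≃ₐ[k] Ω) :
    SGA7.galAct σ y ∈ perp Ω c v N :=
  ⟨by rw [SGA7.galAct, ← MonObj.comp_pow, hy.1, MonObj.comp_one], hy.2.galAct σ⟩

/-- **The orthogonal is large.** -/
theorem card_torsion_le (hKB : KernelBound.{u}) (c : PicLoc.PicSet X.left) (u : X ⟶ Y) [IsMonHom u]
    (v : Y ⟶ X) [IsMonHom v] {N : ℕ} (hN : (N : k) ≠ 0) (huv : u ≫ v = (𝟙 X : X ⟶ X) ^ N)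
    (hvu : v ≫ u = (𝟙 Y : Y ⟶ Y) ^ N) :
    Nat.card (AbDual.torsPts X N (SGA7.pt (K := k) Ω)) ≤
      Nat.card (perp Ω c v N) * Nat.card {x : SGA7.pt (K := k) Ω ⟶ X // x ≫ u = 1} := by
  obtain ⟨hfin, hle⟩ := finite_kernel_classes (Ω := Ω) hKB u v hN huv hvu
  let T := AbDual.torsPts X N (SGA7.pt (K := k) Ω)
  let Φ : T →* PicLoc.PicSet (Y ⊗ SGA7.pt (K := k) Ω).left :=
    MonoidHom.mk' (fun y => cross c (fst Y _ ≫ v) (snd Y _ ≫ y.1)) fun a b => by
      show cross c _ (snd Y _ ≫ (a.1 * b.1)) = _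
      rw [MonObj.comp_mul, cross_mul_right]
  have hrange : (Set.range Φ) ⊆ {c : PicLoc.PicSet (Y ⊗ SGA7.pt (K := k) Ω).left |
      opull (u ▷ SGA7.pt (K := k) Ω) c = 1 ∧ c ^ N = 1} := by
    rintro _ ⟨y, rfl⟩
    have hy : y.1 ^ N = 1 := y.2
    refine ⟨?_, ?_⟩
    · show opull _ (cross c _ _) = 1
      rw [opull_cross, whiskerRight_fst_assoc, whiskerRight_snd_assoc, huv, MonObj.comp_pow,
        Category.comp_id, cross_pow_left, ← cross_pow_right, ← MonObj.comp_pow, hy, MonObj.comp_one,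
        cross_one_right]
    · show cross c _ _ ^ N = 1
      rw [← cross_pow_right, ← MonObj.comp_pow, hy, MonObj.comp_one, cross_one_right]
  have hker : Nat.card Φ.ker ≤ Nat.card (perp Ω c v N) := by
    have e : Φ.ker ≃ perp Ω c v N :=
      { toFun := fun y => ⟨y.1.1, y.1.2, y.2⟩
        invFun := fun y => ⟨⟨y.1, y.2.1⟩, y.2.2⟩
        left_inv := fun _ => rfl
        right_inv := fun _ => rfl }
    exact (Nat.card_congr e).le
  rw [← Φ.ker.card_mul_index, Subgroup.index_ker]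
  refine Nat.mul_le_mul hker (le_trans ?_ hle)
  exact (Nat.card_coe_set_eq (Set.range Φ)).le.trans (Set.ncard_le_ncard hrange hfin)

end Groth.AbVarTate
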