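import Groth.Agent.AbVarTate.Descend
import Groth.Agent.AbVarMul.GaloisQuot
import Groth.Agent.AlgGrp1.SmoothReduced
import Groth.Agent.Flatmor4.OverRep

/-!
# Classes on products with finite étale schemes are tested on geometric points
-/

set_option autoImplicit false
set_option backward.isDefEq.respectTransparency false
set_option backward.isDefEq.respectTransparency.types false
set_option linter.unusedSectionVars false
universe u

open CategoryTheory Limits MonoidalCategory CartesianMonoidalCategory MonObj GrpObj AlgebraicGeometry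
open TopologicalSpace

noncomputable section

namespace Groth.AbVarTate

open Groth.Abvar.PicCalc Groth.PicCurve
open Groth.Flatmor4.OverRep (piece pieceHom)

variable {k : Type u} [Field k] (Ω : Type u) [Field Ω] [Algebra k Ω] [IsAlgClosure k Ω]

theorem flat_of_discrete {S T : Scheme.{u}} [IsReduced T] [DiscreteTopology T] (g : S ⟶ T) : Flat g := by
  rw [Flat.iff_flat_stalkMap]
  intro a
  have h : IsField ↥(T.presheaf.stalk (g.base a)) := by
    refine isField_stalk_of_closure_mem_irreducibleComponents (X := T) _ ?_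
    rw [(isClosed_discrete _).closure_eq]
    refine ⟨isIrreducible_singleton, fun s hs hsub y hy => ?_⟩
    have hpre : s.Subsingleton := hs.2.subsingleton
    exact hpre hy (hsub rfl)
  let := h.toField
  let := (g.stalkMap a).hom.toAlgebra
  show Module.Flat _ _
  infer_instance

variable {A : Over (Spec (CommRingCat.of k))} [GrpObj A] [IsProper A.hom] [GeometricallyIntegral A.hom]

/-- Triviality over a finite étale scheme is tested at its geometric points. -/
theorem eq_one_of_points {T : Over (Spec (CommRingCat.of k))} [IsFinite T.hom] [Etale T.hom]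
    {c : PicLoc.PicSet (A ⊗ T).left} (h1 : opull (lift (1 : T ⟶ A) (𝟙 T)) c = 1)
    (hw : ∀ w : SGA7.pt (K := k) Ω ⟶ T, opull (A ◁ w) c = 1) : c = 1 := by
  have : DiscreteTopology T.left := AbvarAlb.discreteTopology_of_isFinite T.hom
  have : IsReduced T.left := Groth.AlgGrp1.isReduced_of_smooth T.hom
  let U : T.left → T.left.Opens := fun z => ⟨{z}, isOpen_discrete _⟩
  let 𝒰 := T.left.openCoverOfIsOpenCover U
    (IsOpenCover.mk (eq_top_iff.2 fun z _ => Opens.mem_iSup.2 ⟨z, rfl⟩))
  refine eq_one_of_local (f := A.hom) (σ := unitSec A) (hσ := unitSec_comp A) (constFun A) 𝒰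
    ((congrArg (fun m => pull m c) (secT_eq A T)).trans h1) fun z => ?_
  obtain ⟨w, hwz⟩ := Groth.AbVarMul.exists_ptImage (Ω := Ω) (isClosed_discrete ({z} : Set T.left))
  have hrange : Set.range w.left.base ⊆ Set.range (U z).ι.base := by
    rw [Scheme.Opens.range_ι]
    rintro _ ⟨a, rfl⟩
    rw [← hwz]
    exact congrArg w.left.base (Subsingleton.elim (α := PrimeSpectrum Ω) _ _)
  let w' : SGA7.pt (K := k) Ω ⟶ piece T 𝒰 z :=
    Over.homMk (IsOpenImmersion.lift (U z).ι w.left hrange) (by
      show IsOpenImmersion.lift _ _ _ ≫ (U z).ι ≫ T.hom = _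
      rw [IsOpenImmersion.lift_fac_assoc, Over.w])
  have hcomp : w' ≫ pieceHom T 𝒰 z = w := Over.OverMorphism.ext (IsOpenImmersion.lift_fac _ _ _)
  have : Subsingleton ↥(piece T 𝒰 z).left := ⟨fun a b => Subtype.ext (a.2.trans b.2.symm)⟩
  have : DiscreteTopology ↥(piece T 𝒰 z).left := inferInstanceAs (DiscreteTopology ↥(U z).toScheme)
  have : IsReduced (piece T 𝒰 z).left := inferInstanceAs (IsReduced (U z).toScheme)
  have : Flat w'.left := flat_of_discrete w'.left
  have : Surjective w'.left := ⟨fun y => ⟨(⊥ : PrimeSpectrum Ω), Subsingleton.elim _ _⟩⟩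
  have : IsSeparated T.hom := inferInstance
  have : IsAffine (piece T 𝒰 z).left := by
    have : IsAffine T.left := isAffine_of_isAffineHom T.hom
    obtain ⟨_, ⟨V, hV, rfl⟩, hzV, hVU⟩ := T.left.isBasis_affineOpens.exists_subset_of_mem_open
      (show z ∈ U z from rfl) (U z).2
    have hVeq : V = U z := le_antisymm hVU fun a ha => (show a = z from ha) ▸ hzV
    exact (hVeq ▸ hV : IsAffineOpen (U z))
  have : QuasiCompact w'.left := HasAffineProperty.iff_of_isAffine.mpr
    (inferInstanceAs (CompactSpace (PrimeSpectrum Ω)))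
  rw [XTmap_eq]
  refine eq_one_of_cover w' ?_ ?_
  · have e : lift (1 : piece T 𝒰 z ⟶ A) (𝟙 _) ≫ (A ◁ pieceHom T 𝒰 z) =
        pieceHom T 𝒰 z ≫ lift (1 : T ⟶ A) (𝟙 T) := by
      rw [lift_whiskerLeft, comp_lift, MonObj.comp_one, Category.id_comp, Category.comp_id]
    show opull _ (opull _ c) = 1
    rw [← opull_comp, e, opull_comp, h1, map_one]
  · show opull _ (opull _ c) = 1
    rw [← opull_comp, ← MonoidalCategory.whiskerLeft_comp, hcomp, hw]

end Groth.AbVarTate
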