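import Groth.Agent.AbVarTate.Adjoint
import Groth.Agent.AbVarMul.Ample

/-!
# Symmetric classes with an affine locus pass to squares
-/

set_option autoImplicit false
set_option linter.unusedSectionVars false
universe u

open CategoryTheory Limits MonoidalCategory CartesianMonoidalCategory MonObj GrpObj AlgebraicGeometry

noncomputable section

namespace Groth.AbVarTate

open Groth.Abvar.PicCalc Groth.AbVarMul

variable {k : Type u} [Field k]

/-- A symmetric class with a section of affine nonempty locus. -/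
structure GoodPol (A : Over (Spec (CommRingCat.of k))) [GrpObj A] where
  /-- the module -/
  L : A.left.Modules
  /-- the invertibility -/
  hL : PicF.IsInvertible L
  /-- the section -/
  s : Coh.structureModule A.left ⟶ L
  affine : IsAffineOpen (CohB1.genLocus L s)
  ne : (CohB1.genLocus L s : Set A.left).Nonempty
  symm : opull (𝟙 A)⁻¹ (cls hL) = cls hL

variable {A : Over (Spec (CommRingCat.of k))} [GrpObj A] [IsProper A.hom]
  [GeometricallyIntegral A.hom]

/-- The class. -/
abbrev GoodPol.c (P : GoodPol A) : PicLoc.PicSet A.left := cls P.hL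

theorem GoodPol.isAmple (P : GoodPol A) : CohB1.IsAmple P.L :=
  isAmple_of_affine_locus P.L P.hL P.s P.affine P.ne

theorem exists_goodPol (A : Over (Spec (CommRingCat.of k))) [GrpObj A] [IsProper A.hom]
    [GeometricallyIntegral A.hom] : Nonempty (GoodPol A) := by
  have := Groth.Abvar.isIntegral_left A
  have := isSeparated_left (A := A)
  obtain ⟨W, hW, heW, hWι⟩ := exists_symmetric_affine (A := A)
  obtain ⟨M, s, hM, -, hs⟩ := PicAux.exists_invertible_section (isEffCartierIdeal_compl hW ⟨_, heW⟩)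
  have hloc : CohB1.genLocus M s = W := by
    ext x
    rw [SetLike.mem_coe, PicAux.mem_genLocus_iff_not_mem_support hM, hs, ← SetLike.mem_coe,
      Scheme.IdealSheafData.coe_support_vanishingIdeal]
    exact not_not
  have hM' := PicLoc.isInvertible_pullback (ι[A] : A ⟶ A).left hM
  let s' := PicAux.homOfSection (PicAux.pullSec (ι[A] : A ⟶ A).left M (PicAux.gsec s))
  have hloc' : CohB1.genLocus _ (SecTwist.tmulHom s s') = W := by
    rw [PicAux.genLocus_tmulHom hM hM', hloc,
      PicAux.genLocus_pullback _ hM s (PicAux.gsec_homOfSection _), hloc, hWι, inf_idem]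
  have e : (ι[A] : A ⟶ A) = (𝟙 A)⁻¹ := GrpObj.inv_eq_inv
  refine ⟨⟨_, isInvertible_tensorMod hM hM', SecTwist.tmulHom s s', hloc' ▸ hW,
    hloc' ▸ ⟨_, heW⟩, ?_⟩⟩
  show pull _ _ = _
  rw [cls_tensorMod hM hM', ← pull_cls _ hM, map_mul, ← pull_comp, ← e, ← Over.comp_left, e,
    GrpObj.comp_inv, Category.comp_id, _root_.inv_inv, Over.id_left, pull_id, _root_.mul_comm]

variable [IsCommMonObj A]

/-- The square of a good class. -/
theorem GoodPol.exists_square (P : GoodPol A) : ∃ P₂ : GoodPol (A ⊗ A), P₂.c = boxSq P.c := by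
  let p : (A ⊗ A).left ⟶ A.left := (fst A A).left
  let q : (A ⊗ A).left ⟶ A.left := (snd A A).left
  have h1 := PicLoc.isInvertible_pullback p P.hL
  have h2 := PicLoc.isInvertible_pullback q P.hL
  let s₁ := PicAux.homOfSection (PicAux.pullSec p P.L (PicAux.gsec P.s))
  let s₂ := PicAux.homOfSection (PicAux.pullSec q P.L (PicAux.gsec P.s))
  set W := CohB1.genLocus P.L P.s
  have hloc : CohB1.genLocus _ (SecTwist.tmulHom s₁ s₂) = p ⁻¹ᵁ W ⊓ q ⁻¹ᵁ W := by
    rw [PicAux.genLocus_tmulHom h1 h2, PicAux.genLocus_pullback _ P.hL P.s (PicAux.gsec_homOfSection _),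
      PicAux.genLocus_pullback _ P.hL P.s (PicAux.gsec_homOfSection _)]
  have : IsAffine (W : Scheme.{u}) := P.affine
  let φ : pullback (W.ι ≫ A.hom) (W.ι ≫ A.hom) ⟶ (A ⊗ A).left :=
    pullback.map _ _ A.hom A.hom W.ι W.ι (𝟙 _) (by simp) (by simp)
  have hφ : φ.opensRange = p ⁻¹ᵁ W ⊓ q ⁻¹ᵁ W := by
    apply TopologicalSpace.Opens.ext
    rw [Scheme.Hom.coe_opensRange]
    refine (Scheme.Pullback.range_map _ _ _ _ _ _ _ _ _).trans ?_
    simp only [Scheme.Opens.range_ι]
    rfl
  have hne : ((p ⁻¹ᵁ W ⊓ q ⁻¹ᵁ W : (A ⊗ A).left.Opens) : Set (A ⊗ A).left).Nonempty := by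
    obtain ⟨x, hx⟩ := P.ne
    have : A.hom x = A.hom x := rfl
    obtain ⟨z, hz1, hz2⟩ := Scheme.Pullback.exists_preimage_pullback (f := A.hom) (g := A.hom) x x this
    exact ⟨z, show p z ∈ W from hz1 ▸ hx, show q z ∈ W from hz2 ▸ hx⟩
  refine ⟨⟨_, isInvertible_tensorMod h1 h2, SecTwist.tmulHom s₁ s₂, hloc ▸ hφ ▸ isAffineOpen_opensRange φ,
    hloc ▸ hne, ?_⟩, ?_⟩
  · show opull _ (cls (isInvertible_tensorMod h1 h2)) = _
    rw [cls_tensorMod h1 h2, ← pull_cls _ P.hL, ← pull_cls _ P.hL]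
    exact inv_sq_self P.c P.symm
  · show cls (isInvertible_tensorMod h1 h2) = _
    rw [cls_tensorMod h1 h2, ← pull_cls _ P.hL, ← pull_cls _ P.hL]

end Groth.AbVarTate
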