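import Groth.Agent.AbVarTate.Limit
import Groth.Agent.AbVarMul.TateCommutant

/-!
# Stable subspaces are ranges of idempotents of `ℚ_[l] ⊗ End X`
-/

set_option autoImplicit false
universe u

open CategoryTheory MonoidalCategory CartesianMonoidalCategory MonObj GrpObj AlgebraicGeometry
open AbDual TensorProduct

namespace Groth.AbVarTate

open Groth.AbVarMul

/-- A finite family of elements of a semisimple algebra has an element whose range is the sum of
their ranges. -/
theorem exists_range_eq_iSup {F V : Type*} [Field F] [AddCommGroup V] [Module F V]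
    (R : Subalgebra F (Module.End F V)) [IsSemisimpleRing R] {J : Type*} (s : Finset J)
    (u : J → Module.End F V) (hu : ∀ j, u j ∈ R) :
    ∃ e ∈ R, LinearMap.range e = ⨆ j ∈ s, LinearMap.range (u j) := by
  classical
  induction s using Finset.induction with
  | empty => exact ⟨0, R.zero_mem, by simp⟩
  | @insert a s ha ih =>
    obtain ⟨v, hv, hvr⟩ := ih
    obtain ⟨e₁, he₁, hee, her⟩ := Commutant.exists_idempotent_range R hv
    obtain ⟨e₂, he₂, hee₂, her₂⟩ := Commutant.exists_idempotent_range R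
      (R.mul_mem (R.sub_mem R.one_mem he₁) (hu a))
    refine ⟨e₁ + e₂ * (1 - e₁), R.add_mem he₁ (R.mul_mem he₂ (R.sub_mem R.one_mem he₁)), ?_⟩
    have h11 : ∀ x, e₁ (e₁ x) = e₁ x := fun x => congrArg (fun y : Module.End F V => y x) hee
    have h22 : ∀ x, e₂ (e₂ x) = e₂ x := fun x => congrArg (fun y : Module.End F V => y x) hee₂
    have hsub : LinearMap.range e₁ ≤ LinearMap.range (e₁ + e₂ * (1 - e₁)) := by
      rintro _ ⟨x, rfl⟩
      exact ⟨e₁ x, by simp [h11]⟩
    have h2a : ∀ x, ((1 - e₁) * u a) x ∈ LinearMap.range (e₁ + e₂ * (1 - e₁)) := fun x => by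
      have hm : ((1 - e₁) * u a) x ∈ LinearMap.range e₂ := her₂.symm ▸ ⟨x, rfl⟩
      obtain ⟨w, hw⟩ := hm
      refine ⟨((1 - e₁) * u a) x, ?_⟩
      have h0 : e₁ (((1 - e₁) * u a) x) = 0 := by simp [h11]
      show e₁ _ + e₂ ((1 - e₁) _) = _
      rw [h0, zero_add, show (1 - e₁) (((1 - e₁) * u a) x) = ((1 - e₁) * u a) x by
        show ((1 - e₁) * u a) x - e₁ (((1 - e₁) * u a) x) = _
        rw [h0, sub_zero], ← hw, h22]
    refine le_antisymm ?_ ?_
    · rintro _ ⟨x, rfl⟩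
      rw [Finset.iSup_insert, ← hvr, ← her]
      refine Submodule.add_mem _ (Submodule.mem_sup_right ⟨x, rfl⟩) ?_
      obtain ⟨y, hy⟩ : (e₂ * (1 - e₁)) x ∈ LinearMap.range ((1 - e₁) * u a) :=
        her₂ ▸ ⟨(1 - e₁) x, rfl⟩
      rw [← hy]
      show u a y - e₁ (u a y) ∈ _
      exact Submodule.sub_mem _ (Submodule.mem_sup_left ⟨y, rfl⟩) (Submodule.mem_sup_right ⟨_, rfl⟩)
    · rw [Finset.iSup_insert, ← hvr, ← her]
      refine sup_le ?_ hsub
      rintro _ ⟨x, rfl⟩
      have := Submodule.add_mem _ (hsub ⟨u a x, rfl⟩) (h2a x)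
      simpa using this

variable {k : Type u} [Field k] {Ω : Type u} [Field Ω] [Algebra k Ω] [IsAlgClosure k Ω]
  {l : ℕ} [Fact l.Prime] {X : Over (Spec (CommRingCat.of k))} [GrpObj X] [IsCommMonObj X]
  [IsProper X.hom] [GeometricallyIntegral X.hom]
  [Module.Finite ℤ_[l] (TateMod X l (SGA7.pt (K := k) Ω))]

set_option maxHeartbeats 1000000 in
/-- **A Galois stable subspace is the range of an element of `ℚ_[l] ⊗ End X`.** -/
theorem exists_range_eq_of_stable (hKB : KernelBound.{u}) (hBF : BoundedFinite k) (hP : Poincare k)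
    (hl : (l : k) ≠ 0)
    (W : Submodule ℚ_[l] (ℚ_[l] ⊗[ℤ_[l]] TateMod X l (SGA7.pt (K := k) Ω)))
    (hW : ∀ τ : Ω ≃ₐ[k] Ω, W.map (galQ X l τ) ≤ W) :
    ∃ u ∈ endSpan X Ω l, LinearMap.range u = W := by
  classical
  let L : Submodule ℤ_[l] (TateMod X l (SGA7.pt (K := k) Ω)) :=
    (W.restrictScalars ℤ_[l]).comap (TensorProduct.mk ℤ_[l] ℚ_[l] _ 1)
  obtain ⟨J, _, u, c, hc, hu, hle, hge⟩ := exists_ranges_of_stable hKB hBF hl L fun σ n z hz =>
    ⟨tateGal X l σ z, hW σ ⟨_, hz, rfl⟩, rfl⟩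
  obtain ⟨R, hR, hmem⟩ := exists_endAlg (X := X) (Ω := Ω) (l := l) hP
  have hbc : ∀ j, (u j).baseChange ℚ_[l] ∈ endSpan X Ω l := fun j => by
    have hj := hu j
    generalize u j = uj at hj ⊢
    induction hj using Submodule.span_induction with
    | mem x hx =>
      obtain ⟨f, rfl⟩ := hx
      exact Submodule.subset_span ⟨f.toHom, inferInstance, rfl⟩
    | zero => rw [LinearMap.baseChange_zero]; exact Submodule.zero_mem _
    | add x y _ _ hx hy => rw [LinearMap.baseChange_add]; exact Submodule.add_mem _ hx hy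
    | smul a x _ hx =>
      rw [LinearMap.baseChange_smul, ← algebraMap_smul ℚ_[l] a]
      exact Submodule.smul_mem _ _ hx
  obtain ⟨e, he, her⟩ := exists_range_eq_iSup R Finset.univ (fun j => (u j).baseChange ℚ_[l])
    fun j => (hmem _).2 (hbc j)
  refine ⟨e, (hmem _).1 he, her.trans (le_antisymm (iSup₂_le fun j _ => ?_) fun w hw => ?_)⟩
  · rintro _ ⟨v, rfl⟩
    induction v with
    | zero => rw [map_zero]; exact W.zero_mem
    | add x y hx hy => rw [map_add]; exact W.add_mem hx hy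
    | tmul q m =>
      rw [LinearMap.baseChange_tmul, show q ⊗ₜ[ℤ_[l]] u j m = q • ((1 : ℚ_[l]) ⊗ₜ[ℤ_[l]] u j m) by
        rw [TensorProduct.smul_tmul', smul_eq_mul, _root_.mul_one]]
      exact W.smul_mem q (hle j ⟨m, rfl⟩)
  · obtain ⟨a, z, ha, hz⟩ := exists_pow_smul_eq_one_tmul w
    have hzL : z ∈ L := by
      show (1 : ℚ_[l]) ⊗ₜ[ℤ_[l]] z ∈ W
      rw [← hz]
      exact W.smul_mem a hw
    have hmap : (1 : ℚ_[l]) ⊗ₜ[ℤ_[l]] ((c : ℤ_[l]) • z) ∈
        ⨆ j ∈ (Finset.univ : Finset J), LinearMap.range ((u j).baseChange ℚ_[l]) := by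
      refine Submodule.iSup_induction (motive := fun x => (1 : ℚ_[l]) ⊗ₜ[ℤ_[l]] x ∈
        ⨆ j ∈ (Finset.univ : Finset J), LinearMap.range ((u j).baseChange ℚ_[l])) _ (hge z hzL)
        ?_ ?_ ?_
      · rintro j _ ⟨m, rfl⟩
        exact Submodule.mem_iSup_of_mem j (Submodule.mem_iSup_of_mem (Finset.mem_univ j)
          ⟨(1 : ℚ_[l]) ⊗ₜ[ℤ_[l]] m, LinearMap.baseChange_tmul _ _ _⟩)
      · rw [TensorProduct.tmul_zero]; exact Submodule.zero_mem _
      · intro x y hx hy
        rw [TensorProduct.tmul_add]; exact Submodule.add_mem _ hx hy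
    have hca : (c : ℚ_[l]) * a ≠ 0 := mul_ne_zero (Nat.cast_ne_zero.2 hc) ha
    refine (Submodule.smul_mem_iff _ hca).1 ?_
    rw [mul_smul, hz, Nat.cast_smul_eq_nsmul, ← TensorProduct.tmul_smul, ← Nat.cast_smul_eq_nsmul ℤ_[l]]
    exact hmap

end Groth.AbVarTate
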