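import Groth.Agent.AbVarTate.Stable
import Groth.Agent.AbvarAlb.Poincare
import Groth.Agent.AbVarMul.HomLattice

/-!
# Tate's theorem over finite fields, from the two finiteness inputs
-/

set_option autoImplicit false
universe u

open CategoryTheory MonoidalCategory CartesianMonoidalCategory MonObj GrpObj AlgebraicGeometry
open AbDual
open TensorProduct (tmul)
open scoped TensorProduct

namespace Groth.AbVarTate

open Groth.AbVarMul

variable {k : Type u} [Field k] {Ω : Type u} [Field Ω] [Algebra k Ω] {l : ℕ} [Fact l.Prime]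

local notation "Ω₀" => (SGA7.pt (K := k) Ω)

theorem poincare : Poincare k :=
  fun A B _ _ _ _ _ _ i _ _ => Groth.AbvarAlb.Poincare.exists_complement A B i

variable [IsAlgClosure k Ω] {X : Over (Spec (CommRingCat.of k))} [GrpObj X] [IsCommMonObj X]
  [IsProper X.hom] [GeometricallyIntegral X.hom]

/-- **Semisimplicity and the rational Tate theorem.** -/
theorem semisimple_and_commutant_finite [Module.Finite ℤ_[l] (TateMod X l (SGA7.pt (K := k) Ω))]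
    (hKB : KernelBound.{u}) (hBF : BoundedFinite k) (hl : (l : k) ≠ 0) :
    (∀ W : Submodule ℚ_[l] (ℚ_[l] ⊗[ℤ_[l]] TateMod X l Ω₀),
        (∀ τ : Ω ≃ₐ[k] Ω, W.map (galQ X l τ) ≤ W) →
        ∃ W', IsCompl W W' ∧ ∀ τ : Ω ≃ₐ[k] Ω, W'.map (galQ X l τ) ≤ W') ∧
      ∀ φ : Module.End ℚ_[l] (ℚ_[l] ⊗[ℤ_[l]] TateMod X l Ω₀),
        (∀ τ : Ω ≃ₐ[k] Ω, φ ∘ₗ galQ X l τ = galQ X l τ ∘ₗ φ) → φ ∈ endSpan X Ω l :=
  semisimple_and_commutant_of_range poincare hl fun _ _ _ _ _ _ W hW =>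
    exists_range_eq_of_stable hKB hBF poincare hl W hW

/-- The rational span of the homomorphisms. -/
noncomputable def homSpan (A B : Over (Spec (CommRingCat.of k))) [GrpObj A] [IsCommMonObj A]
    [GrpObj B] [IsCommMonObj B] (Ω : Type u) [Field Ω] [Algebra k Ω] (l : ℕ) [Fact l.Prime] :
    Submodule ℚ_[l] ((ℚ_[l] ⊗[ℤ_[l]] TateMod A l (SGA7.pt (K := k) Ω)) →ₗ[ℚ_[l]]
      ℚ_[l] ⊗[ℤ_[l]] TateMod B l (SGA7.pt (K := k) Ω)) :=
  Submodule.span ℚ_[l] {ψ | ∃ (f : A ⟶ B) (_ : IsMonHom f), ψ = qMap f}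

omit [IsAlgClosure k Ω] in
theorem qMap_block {A B C D : Over (Spec (CommRingCat.of k))} [GrpObj A] [IsCommMonObj A] [GrpObj B]
    [IsCommMonObj B] [GrpObj C] [IsCommMonObj C] [GrpObj D] [IsCommMonObj D] (f : A ⟶ B)
    [IsMonHom f] (h : C ⟶ D) [IsMonHom h]
    {U : (ℚ_[l] ⊗[ℤ_[l]] TateMod B l Ω₀) →ₗ[ℚ_[l]] ℚ_[l] ⊗[ℤ_[l]] TateMod C l Ω₀}
    (hU : U ∈ homSpan B C Ω l) : qMap h ∘ₗ U ∘ₗ qMap f ∈ homSpan A D Ω l := by
  induction hU using Submodule.span_induction with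
  | mem x hx =>
    obtain ⟨w, hw, rfl⟩ := hx
    refine Submodule.subset_span ⟨f ≫ w ≫ h, inferInstance, ?_⟩
    rw [qMap_comp f w (f ≫ w) rfl, qMap_comp (f ≫ w) h (f ≫ w ≫ h) (Category.assoc f w h)]
  | zero => rw [LinearMap.zero_comp, LinearMap.comp_zero]; exact Submodule.zero_mem _
  | add x y _ _ hx hy =>
    rw [LinearMap.add_comp, LinearMap.comp_add]; exact Submodule.add_mem _ hx hy
  | smul c x _ hx =>
    rw [LinearMap.smul_comp, LinearMap.comp_smul]; exact Submodule.smul_mem _ c hx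

variable {Y : Over (Spec (CommRingCat.of k))} [GrpObj Y] [IsCommMonObj Y] [IsProper Y.hom]
  [GeometricallyIntegral Y.hom]

set_option maxHeartbeats 1000000 in
/-- **Tate's theorem for homomorphisms, rationally.** -/
theorem mem_homSpan_of_commute (hKB : KernelBound.{u}) (hBF : BoundedFinite k) (hl : (l : k) ≠ 0)
    (φ : (ℚ_[l] ⊗[ℤ_[l]] TateMod X l Ω₀) →ₗ[ℚ_[l]] ℚ_[l] ⊗[ℤ_[l]] TateMod Y l Ω₀)
    (hφ : ∀ τ : Ω ≃ₐ[k] Ω, φ ∘ₗ galQ X l τ = galQ Y l τ ∘ₗ φ) : φ ∈ homSpan X Y Ω l := by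
  have : IsAlgClosed Ω := IsAlgClosure.isAlgClosed k
  have : IsProper (X ⊗ Y).hom :=
    inferInstanceAs (IsProper (Limits.pullback.fst X.hom Y.hom ≫ X.hom))
  have : GeometricallyIntegral (X ⊗ Y).hom := Groth.Abvar.Cube.geometricallyIntegral_tensor X Y
  have := GrpschAbsch.isCommMonObj_of_isProper (X ⊗ Y)
  have := (free_finite_tateMod Ω (X ⊗ Y) hl).2
  have : IsMonHom (1 : X ⟶ Y) := Groth.AlgGrpAb.isMonHom_one
  have : IsMonHom (1 : Y ⟶ X) := Groth.AlgGrpAb.isMonHom_one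
  let i₁ : X ⟶ X ⊗ Y := lift (𝟙 X) 1
  let i₂ : Y ⟶ X ⊗ Y := lift 1 (𝟙 Y)
  have : IsMonHom i₁ := inferInstanceAs (IsMonHom (lift (𝟙 X) (1 : X ⟶ Y)))
  have : IsMonHom i₂ := inferInstanceAs (IsMonHom (lift (1 : Y ⟶ X) (𝟙 Y)))
  let ψ := qMap (Ω := Ω) (l := l) i₂ ∘ₗ φ ∘ₗ qMap (Ω := Ω) (l := l) (fst X Y)
  have hψ : ψ ∈ endSpan (X ⊗ Y) Ω l :=
    (semisimple_and_commutant_finite (X := X ⊗ Y) hKB hBF hl).2 ψ fun τ => LinearMap.ext fun v => by
      show qMap i₂ (φ (qMap (fst X Y) (galQ (X ⊗ Y) l τ v))) =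
        galQ (X ⊗ Y) l τ (qMap i₂ (φ (qMap (fst X Y) v)))
      rw [qMap_galQ (fst X Y) τ, ← qMap_galQ i₂ τ]
      exact congrArg _ (LinearMap.congr_fun (hφ τ) _)
  have h := qMap_block (Ω := Ω) (l := l) i₁ (snd X Y) (U := ψ) hψ
  have e1 : qMap (Ω := Ω) (l := l) (fst X Y) ∘ₗ qMap i₁ = LinearMap.id :=
    (qMap_comp i₁ (fst X Y) (𝟙 X) (lift_fst _ _)).trans qMap_id
  have e2 : qMap (Ω := Ω) (l := l) (snd X Y) ∘ₗ qMap i₂ = LinearMap.id :=
    (qMap_comp i₂ (snd X Y) (𝟙 Y) (lift_snd _ _)).trans qMap_id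
  have e : qMap (snd X Y) ∘ₗ ψ ∘ₗ qMap i₁ = φ := LinearMap.ext fun v => by
    show qMap (snd X Y) (qMap i₂ (φ (qMap (fst X Y) (qMap i₁ v)))) = φ v
    rw [show qMap (fst X Y) (qMap i₁ v) = v from LinearMap.congr_fun e1 v]
    exact LinearMap.congr_fun e2 _
  exact e ▸ h

/-- The span of the homomorphisms in the maps of Tate modules is saturated. -/
theorem mem_span_of_smul_mem (hl : (l : k) ≠ 0)
    (w : TateMod X l Ω₀ →ₗ[ℤ_[l]] TateMod Y l Ω₀)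
    (hw : (l : ℤ_[l]) • w ∈ Submodule.span ℤ_[l] (Set.range (EndAV.Hom.tateMap (A := X) (B := Y) l Ω₀))) :
    w ∈ Submodule.span ℤ_[l] (Set.range (EndAV.Hom.tateMap (A := X) (B := Y) l Ω₀)) := by
  have : IsAlgClosed Ω := IsAlgClosure.isAlgClosed k
  set T := EndAV.Hom.tateMap (A := X) (B := Y) l Ω₀
  obtain ⟨c, hc⟩ := (Finsupp.mem_span_range_iff_exists_finsupp).1 hw
  choose d hd using fun j => Ideal.mem_span_singleton'.1 (PadicInt.appr_spec 1 (c j))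
  obtain ⟨φ, hφ⟩ : ∃ φ : EndAV.Hom X Y, φ = ∑ j ∈ c.support, ((c j).appr 1 : ℤ) • j := ⟨_, rfl⟩
  have hTφ : T φ = (l : ℤ_[l]) • (w - ∑ j ∈ c.support, d j • T j) := by
    rw [smul_sub, ← hc, Finset.smul_sum, Finsupp.sum, ← Finset.sum_sub_distrib, hφ, map_sum]
    refine Finset.sum_congr rfl fun j _ => ?_
    rw [map_zsmul, ← Int.cast_smul_eq_zsmul ℤ_[l], smul_smul, ← sub_smul,
      show (l : ℤ_[l]) * d j = c j - ((c j).appr 1 : ℤ_[l]) by
        rw [← hd j, pow_one, _root_.mul_comm]]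
    push_cast
    ring_nf
  obtain ⟨ψ, hψm, hψ⟩ := exists_eq_pow_comp_bc Ω hl φ.toHom 1
    (w - ∑ j ∈ c.support, d j • T j) (by rw [pow_one]; exact hTφ)
  have hφψ : φ = ((l ^ 1 : ℕ) : ℤ) • EndAV.Hom.of ψ := exists_eq_zsmul_of_comp hψ
  have hinj : ∀ a b : TateMod X l Ω₀ →ₗ[ℤ_[l]] TateMod Y l Ω₀,
      (l : ℤ_[l]) • a = (l : ℤ_[l]) • b → a = b := fun a b h =>
    LinearMap.ext fun x => pow_smul_left_cancel 1 (by
      rw [pow_one]; exact LinearMap.congr_fun h x)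
  have hval : w - ∑ j ∈ c.support, d j • T j = T (EndAV.Hom.of ψ) := by
    refine hinj _ _ ?_
    rw [← hTφ, hφψ, map_zsmul, ← Int.cast_smul_eq_zsmul ℤ_[l], pow_one, Int.cast_natCast]
  rw [sub_eq_iff_eq_add] at hval
  rw [hval]
  exact Submodule.add_mem _ (Submodule.subset_span ⟨_, rfl⟩)
    (Submodule.sum_mem _ fun j _ => Submodule.smul_mem _ _ (Submodule.subset_span ⟨j, rfl⟩))

set_option maxHeartbeats 1000000 in
/-- **Tate's theorem over the `l`-adic integers.** -/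
theorem mem_span_of_commute (hKB : KernelBound.{u}) (hBF : BoundedFinite k) (hl : (l : k) ≠ 0)
    (w : TateMod X l Ω₀ →ₗ[ℤ_[l]] TateMod Y l Ω₀)
    (hw : ∀ τ : Ω ≃ₐ[k] Ω, w ∘ₗ tateGal X l τ = tateGal Y l τ ∘ₗ w) :
    w ∈ Submodule.span ℤ_[l] (Set.range (EndAV.Hom.tateMap (A := X) (B := Y) l Ω₀)) := by
  have : IsAlgClosed Ω := IsAlgClosure.isAlgClosed k
  have := (free_finite_tateMod Ω X hl).1
  have := (free_finite_tateMod Ω Y hl).1
  set S := Submodule.span ℤ_[l] (Set.range (EndAV.Hom.tateMap (A := X) (B := Y) l Ω₀)) with hS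
  have key : ∀ ψ ∈ homSpan X Y Ω l, ∃ c : ℤ_[l], c ≠ 0 ∧ ∃ s ∈ S,
      (c : ℚ_[l]) • ψ = s.baseChange ℚ_[l] := by
    intro ψ hψ
    induction hψ using Submodule.span_induction with
    | mem x hx =>
      obtain ⟨f, hf, rfl⟩ := hx
      exact ⟨1, one_ne_zero, _, Submodule.subset_span ⟨EndAV.Hom.of f, rfl⟩, by
        rw [PadicInt.coe_one, one_smul]; rfl⟩
    | zero => exact ⟨1, one_ne_zero, 0, zero_mem _, by rw [smul_zero, LinearMap.baseChange_zero]⟩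
    | add x y _ _ hx hy =>
      obtain ⟨a, ha, s, hs, e⟩ := hx
      obtain ⟨b, hb, t, ht, e'⟩ := hy
      refine ⟨a * b, mul_ne_zero ha hb, b • s + a • t, add_mem (S.smul_mem b hs) (S.smul_mem a ht), ?_⟩
      rw [LinearMap.baseChange_add, LinearMap.baseChange_smul, LinearMap.baseChange_smul,
        ← algebraMap_smul ℚ_[l] b (s.baseChange ℚ_[l]), ← algebraMap_smul ℚ_[l] a (t.baseChange ℚ_[l]),
        ← e, ← e', smul_smul, smul_smul, smul_add, PadicInt.coe_mul, PadicInt.algebraMap_apply,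
        PadicInt.algebraMap_apply, _root_.mul_comm (b : ℚ_[l])]
    | smul q x _ hx =>
      obtain ⟨a, ha, s, hs, e⟩ := hx
      obtain ⟨⟨num, den⟩, hq⟩ := IsLocalization.surj (nonZeroDivisors ℤ_[l]) q
      refine ⟨a * den, mul_ne_zero ha (nonZeroDivisors.coe_ne_zero den), num • s, S.smul_mem num hs, ?_⟩
      rw [LinearMap.baseChange_smul, ← algebraMap_smul ℚ_[l] num, ← hq, smul_smul, ← e, smul_smul]
      congr 1
      rw [PadicInt.coe_mul, PadicInt.algebraMap_apply]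
      ring
  obtain ⟨c, hc, s, hs, e⟩ := key _ (mem_homSpan_of_commute hKB hBF hl (w.baseChange ℚ_[l])
    fun τ => by rw [← LinearMap.baseChange_comp, ← LinearMap.baseChange_comp, hw τ])
  have hinj : Function.Injective (fun z : TateMod Y l Ω₀ => (1 : ℚ_[l]) ⊗ₜ[ℤ_[l]] z) :=
    fun a b hab => (TensorProduct.lid ℤ_[l] _).symm.injective
      (Module.Flat.rTensor_preserves_injective_linearMap (Algebra.linearMap ℤ_[l] ℚ_[l])
        (IsFractionRing.injective ℤ_[l] ℚ_[l]) (by simpa using hab))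
  have hsw : c • w = s := LinearMap.ext fun z => hinj (by
    have := LinearMap.congr_fun e ((1 : ℚ_[l]) ⊗ₜ[ℤ_[l]] z)
    rw [LinearMap.smul_apply, LinearMap.baseChange_tmul, LinearMap.baseChange_tmul] at this
    show (1 : ℚ_[l]) ⊗ₜ[ℤ_[l]] (c • w z) = (1 : ℚ_[l]) ⊗ₜ[ℤ_[l]] s z
    rw [TensorProduct.tmul_smul, ← this, ← algebraMap_smul ℚ_[l] c, PadicInt.algebraMap_apply])
  obtain ⟨v, ε, hε⟩ : ∃ (v : ℕ) (ε : ℤ_[l]ˣ), c = ε * (l : ℤ_[l]) ^ v :=
    ⟨_, _, PadicInt.unitCoeff_spec hc⟩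
  have hv : ((l : ℤ_[l]) ^ v) • w ∈ S := by
    rw [show ((l : ℤ_[l]) ^ v) • w = (↑ε⁻¹ : ℤ_[l]) • (c • w) by
      rw [smul_smul, hε, ← _root_.mul_assoc, Units.inv_mul, _root_.one_mul], hsw]
    exact S.smul_mem _ hs
  clear hε hsw e
  induction v with
  | zero => simpa using hv
  | succ n ih =>
    refine ih (mem_span_of_smul_mem hl _ ?_)
    rwa [smul_smul, ← pow_succ']

end Groth.AbVarTate
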